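import Mathlib.Algebra.Homology.DerivedCategory.ExactFunctor
import Mathlib.CategoryTheory.Localization.Adjunction

set_option autoImplicit false
universe w₁ w₂ v₁ v₂ u₁ u₂

open CategoryTheory Category Limits

namespace Groth.Agent.Lib.Helper39.DerAdj

section HC

variable {C₁ : Type u₁} [Category.{v₁} C₁] [Preadditive C₁]
  {C₂ : Type u₂} [Category.{v₂} C₂] [Preadditive C₂]
  {G : C₁ ⥤ C₂} {F : C₂ ⥤ C₁} [G.Additive] [F.Additive]

noncomputable def mapHCAdj (adj : G ⊣ F) {ι : Type*} (c : ComplexShape ι) :
    G.mapHomologicalComplex c ⊣ F.mapHomologicalComplex c :=
  Adjunction.mkOfUnitCounit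
    { unit :=
        { app := fun K =>
            { f := fun i => adj.unit.app (K.X i)
              comm' := fun i j _ => by
                simp only [Functor.id_obj, Functor.comp_obj, Functor.mapHomologicalComplex_obj_d]
                exact (adj.unit.naturality (K.d i j)).symm }
          naturality := fun K L f => by
            ext i
            simp only [Functor.id_obj, Functor.comp_obj, Functor.id_map, HomologicalComplex.comp_f,
              Functor.comp_map, Functor.mapHomologicalComplex_map_f]
            exact adj.unit.naturality (f.f i) }
      counit :=
        { app := fun K =>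
            { f := fun i => adj.counit.app (K.X i)
              comm' := fun i j _ => by
                simp only [Functor.id_obj, Functor.comp_obj, Functor.mapHomologicalComplex_obj_d]
                exact (adj.counit.naturality (K.d i j)).symm }
          naturality := fun K L f => by
            ext i
            simp only [Functor.id_obj, Functor.comp_obj, Functor.id_map, HomologicalComplex.comp_f,
              Functor.comp_map, Functor.mapHomologicalComplex_map_f]
            exact adj.counit.naturality (f.f i) }
      left_triangle := by
        ext K i
        simp only [Functor.comp_obj, Functor.id_obj, NatTrans.comp_app, Functor.whiskerRight_app,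
          Functor.associator_hom_app, Functor.whiskerLeft_app, id_comp, HomologicalComplex.comp_f,
          Functor.mapHomologicalComplex_map_f, NatTrans.id_app', HomologicalComplex.id_f]
        exact adj.left_triangle_components (K.X i)
      right_triangle := by
        ext K i
        simp only [Functor.comp_obj, Functor.id_obj, NatTrans.comp_app, Functor.whiskerRight_app,
          Functor.associator_inv_app, Functor.whiskerLeft_app, id_comp, HomologicalComplex.comp_f,
          Functor.mapHomologicalComplex_map_f, NatTrans.id_app', HomologicalComplex.id_f]
        exact adj.right_triangle_components (K.X i) }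

end HC

section Der

variable {C₁ : Type u₁} [Category.{v₁} C₁] [Abelian C₁] [HasDerivedCategory.{w₁} C₁]
  {C₂ : Type u₂} [Category.{v₂} C₂] [Abelian C₂] [HasDerivedCategory.{w₂} C₂]
  {G : C₁ ⥤ C₂} {F : C₂ ⥤ C₁} [G.Additive] [F.Additive]
  [PreservesFiniteLimits G] [PreservesFiniteColimits G]
  [PreservesFiniteLimits F] [PreservesFiniteColimits F]

noncomputable def derAdj (adj : G ⊣ F) : G.mapDerivedCategory ⊣ F.mapDerivedCategory :=
  letI : CatCommSq (G.mapHomologicalComplex (ComplexShape.up ℤ)) DerivedCategory.Q DerivedCategory.Q
      G.mapDerivedCategory := ⟨G.mapDerivedCategoryFactors.symm⟩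
  letI : CatCommSq (F.mapHomologicalComplex (ComplexShape.up ℤ)) DerivedCategory.Q DerivedCategory.Q
      F.mapDerivedCategory := ⟨F.mapDerivedCategoryFactors.symm⟩
  (mapHCAdj adj (ComplexShape.up ℤ)).localization DerivedCategory.Q
    (HomologicalComplex.quasiIso C₁ (ComplexShape.up ℤ)) DerivedCategory.Q
    (HomologicalComplex.quasiIso C₂ (ComplexShape.up ℤ)) G.mapDerivedCategory F.mapDerivedCategory

end Der

end Groth.Agent.Lib.Helper39.DerAdj
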