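import Groth.Agent.Lib.Helper3.QuasiRegularKrull
import Mathlib.RingTheory.Localization.Away.Basic
import Mathlib.RingTheory.Localization.Ideal

set_option autoImplicit false
universe u
open MvPolynomial

namespace Groth.Agent.Lib.Helper39.QSpread

open Groth.Agent.Lib.Helper3.QReg

variable {A : Type u} [CommRing A]

theorem mem_of_X_mul_mem {σ : Type*} (i : σ) (J : Ideal A) (G : MvPolynomial σ A)
    (h : X i * G ∈ Ideal.map C J) : G ∈ Ideal.map C J := by
  rw [MvPolynomial.mem_map_C_iff] at h ⊢
  intro d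
  have := h (d + Finsupp.single i 1)
  rwa [mul_comm, coeff_mul_X] at this

theorem algHom_mem_map_C {σ τ : Type*} (φ : MvPolynomial σ A →ₐ[A] MvPolynomial τ A)
    (I : Ideal A) (G : MvPolynomial σ A) (hG : G ∈ Ideal.map C I) : φ G ∈ Ideal.map C I := by
  have h1 : Ideal.map φ.toRingHom (Ideal.map C I) = Ideal.map C I := by
    rw [Ideal.map_map]
    congr 1
    ext a
    simp
  rw [← h1]
  exact Ideal.mem_map_of_mem _ hG

theorem climb {c : ℕ} (f : Fin (c + 1) → A) (hq : ∀ n, QRAt f n) (i : ℕ) (a : A)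
    (ha : a ∈ Ideal.span (Set.range f) ^ i)
    (hfa : f 0 * a ∈ Ideal.span (Set.range f) ^ (i + 2)) :
    a ∈ Ideal.span (Set.range f) ^ (i + 1) := by
  obtain ⟨G, hG, rfl⟩ := (Ideal.mem_span_pow_iff_exists_isHomogeneous f a).mp ha
  have hXG : (X 0 * G).IsHomogeneous (i + 1) := by
    have h := (isHomogeneous_X A (0 : Fin (c + 1))).mul hG
    rw [Nat.add_comm 1 i] at h
    exact h
  have h1 : X 0 * G ∈ Ideal.map C (Ideal.span (Set.range f)) := by
    apply hq (i + 1) _ hXG
    rw [map_mul, eval_X]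
    exact hfa
  exact eval_mem_pow_succ f i G hG (mem_of_X_mul_mem 0 _ G h1)

theorem mem_pow_of_mul_eq_zero {c : ℕ} (f : Fin (c + 1) → A) (hq : ∀ n, QRAt f n) (a : A)
    (ha : f 0 * a = 0) (k : ℕ) : a ∈ Ideal.span (Set.range f) ^ k := by
  induction k with
  | zero => simp
  | succ k ih =>
    apply climb f hq k a ih
    rw [ha]
    exact zero_mem _

theorem mem_pow_of_mul_mem_pow {c : ℕ} (f : Fin (c + 1) → A) (hq : ∀ n, QRAt f n) (a : A)
    (n : ℕ) (ha : f 0 * a ∈ Ideal.span (Set.range f) ^ n) (i : ℕ) (hi : i + 1 ≤ n) :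
    a ∈ Ideal.span (Set.range f) ^ i := by
  induction i with
  | zero => simp
  | succ i ih =>
    apply climb f hq i a (ih (by omega))
    exact Ideal.pow_le_pow_right (by omega) ha

theorem map_homogeneousComponent {B : Type u} [CommRing B] {σ : Type*} (φ : A →+* B) (n : ℕ)
    (F : MvPolynomial σ A) :
    MvPolynomial.map φ (homogeneousComponent n F) = homogeneousComponent n (MvPolynomial.map φ F) := by
  ext d
  rw [coeff_map, coeff_homogeneousComponent, coeff_homogeneousComponent, coeff_map]
  split_ifs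
  · rfl
  · exact map_zero φ

theorem map_span_range_tail {c : ℕ} (f : Fin (c + 1) → A) :
    (Ideal.span (Set.range f)).map (Ideal.Quotient.mk (Ideal.span {f 0})) =
      Ideal.span (Set.range fun i => Ideal.Quotient.mk (Ideal.span {f 0}) (Fin.tail f i)) := by
  apply le_antisymm
  · rw [Ideal.map_le_iff_le_comap, Ideal.span_le]
    rintro _ ⟨i, rfl⟩
    rw [SetLike.mem_coe, Ideal.mem_comap]
    refine Fin.cases ?_ (fun j => ?_) i
    · have h0 : Ideal.Quotient.mk (Ideal.span {f 0}) (f 0) = 0 :=
        Ideal.Quotient.eq_zero_iff_mem.mpr (Ideal.subset_span (Set.mem_singleton _))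
      rw [h0]
      exact zero_mem _
    · exact Ideal.subset_span ⟨j, rfl⟩
  · rw [Ideal.span_le]
    rintro _ ⟨j, rfl⟩
    exact Ideal.mem_map_of_mem _ (Ideal.subset_span ⟨j.succ, rfl⟩)

theorem quotient_qr {c : ℕ} (f : Fin (c + 1) → A) (hq : ∀ n, QRAt f n) :
    ∀ n, QRAt (fun i => Ideal.Quotient.mk (Ideal.span {f 0}) (Fin.tail f i)) n := by
  set I0 : Ideal A := Ideal.span {f 0} with hI0
  set g : Fin c → A ⧸ I0 := fun i => Ideal.Quotient.mk I0 (Fin.tail f i) with hg
  have hJ' : Ideal.span (Set.range (Fin.tail f)) ≤ Ideal.span (Set.range f) :=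
    Ideal.span_mono (by rintro _ ⟨i, rfl⟩; exact ⟨i.succ, rfl⟩)
  have hmap := map_span_range_tail f
  intro n
  cases n with
  | zero =>
    intro P hP hev
    have h0 : P.totalDegree = 0 := (totalDegree_zero_iff_isHomogeneous (Fin c)).mpr hP
    have h1 : P = C (coeff 0 P) := totalDegree_eq_zero_iff_eq_C.mp h0
    rw [h1, eval_C, zero_add, pow_one] at hev
    rw [h1]
    exact C_mem_map hev
  | succ m =>
    apply qrAt_of_qr0At
    intro P' hP' hev
    obtain ⟨F0, hF0⟩ := MvPolynomial.map_surjective (Ideal.Quotient.mk I0)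
      Ideal.Quotient.mk_surjective P'
    set F := homogeneousComponent (m + 1) F0 with hFdef
    have hF : F.IsHomogeneous (m + 1) := homogeneousComponent_isHomogeneous (m + 1) F0
    have hFP : MvPolynomial.map (Ideal.Quotient.mk I0) F = P' := by
      rw [hFdef, map_homogeneousComponent, hF0]
      exact homogeneousComponent_eq_self hP'
    have h1 : Ideal.Quotient.mk I0 (eval (Fin.tail f) F) = 0 := by
      have : eval g (MvPolynomial.map (Ideal.Quotient.mk I0) F) =
          Ideal.Quotient.mk I0 (eval (Fin.tail f) F) :=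
        (map_eval (Ideal.Quotient.mk I0) (Fin.tail f) F).symm
      rw [← this, hFP, hev]
    rw [Ideal.Quotient.eq_zero_iff_mem, hI0, Ideal.mem_span_singleton'] at h1
    obtain ⟨ω, hω⟩ := h1
    have h2 : f 0 * ω ∈ Ideal.span (Set.range f) ^ (m + 1) := by
      rw [mul_comm, hω]
      exact Ideal.pow_right_mono hJ' _
        ((Ideal.mem_span_pow_iff_exists_isHomogeneous _ _).mpr ⟨F, hF, rfl⟩)
    have h3 : ω ∈ Ideal.span (Set.range f) ^ m :=
      mem_pow_of_mul_mem_pow f hq ω (m + 1) h2 m le_rfl
    obtain ⟨G, hG, hGω⟩ := (Ideal.mem_span_pow_iff_exists_isHomogeneous f ω).mp h3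
    have hXG : (X 0 * G).IsHomogeneous (m + 1) := by
      have h := (isHomogeneous_X A (0 : Fin (c + 1))).mul hG
      rw [Nat.add_comm 1 m] at h
      exact h
    have hQ : (rename Fin.succ F - X 0 * G) ∈ Ideal.map C (Ideal.span (Set.range f)) := by
      apply hq (m + 1) _ (hF.rename_isHomogeneous.sub hXG)
      have : eval f (rename Fin.succ F - X 0 * G) = 0 := by
        rw [map_sub, map_mul, eval_X, eval_rename, hGω]
        change eval (Fin.tail f) F - f 0 * ω = 0
        rw [← hω]
        ring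
      rw [this]
      exact zero_mem _
    let ψ : MvPolynomial (Fin (c + 1)) A →ₐ[A] MvPolynomial (Fin c) A :=
      aeval (Fin.cases (0 : MvPolynomial (Fin c) A) X)
    have hψ : ψ (rename Fin.succ F - X 0 * G) = F := by
      have h4 : ψ (rename Fin.succ F) = F := by
        change aeval _ (rename Fin.succ F) = F
        rw [aeval_rename]
        have : (Fin.cases (0 : MvPolynomial (Fin c) A) X ∘ Fin.succ) = X := by
          ext i
          simp
        rw [this, aeval_X_left, AlgHom.id_apply]
      have h5 : ψ (X 0 * G) = 0 := by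
        change aeval _ (X 0 * G) = 0
        rw [map_mul, aeval_X, Fin.cases_zero, zero_mul]
      rw [map_sub, h4, h5, sub_zero]
    have hFJ : F ∈ Ideal.map C (Ideal.span (Set.range f)) := by
      rw [← hψ]
      exact algHom_mem_map_C ψ _ _ hQ
    rw [← hFP, MvPolynomial.mem_map_C_iff]
    intro d
    rw [coeff_map, ← hmap]
    exact Ideal.mem_map_of_mem _ ((MvPolynomial.mem_map_C_iff.mp hFJ) d)

def GoodL (rs : List A) (g : A) : Prop :=
  ∀ (i : ℕ) (h : i < rs.length) (a : A),
    rs[i] * a ∈ Ideal.ofList (rs.take i) → g * a ∈ Ideal.ofList (rs.take i)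

theorem exists_smul_eq_self [IsNoetherianRing A] (I : Ideal A) :
    ∃ r ∈ I, ∀ x ∈ (⨅ i : ℕ, I ^ i • ⊤ : Submodule A A), r • x = x := by
  let N := (⨅ i : ℕ, I ^ i • ⊤ : Submodule A A)
  have hN : ∀ k, (I.stableFiltration ⊤ ⊓ I.trivialFiltration N).N k = N :=
    fun k => inf_eq_right.mpr ((iInf_le _ k).trans <| le_of_eq <| by simp)
  exact Submodule.exists_mem_and_smul_eq_self_of_fg_of_le_smul I N (IsNoetherian.noetherian N) (by
    obtain ⟨k, hk⟩ := (I.stableFiltration_stable ⊤).inter_right (I.trivialFiltration N)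
    have := hk k (le_refl _)
    rw [hN, hN] at this
    exact le_of_eq this.symm)

theorem exists_kill [IsNoetherianRing A] {c : ℕ} (f : Fin (c + 1) → A) (hq : ∀ n, QRAt f n) :
    ∃ g : A, g - 1 ∈ Ideal.span (Set.range f) ∧ ∀ a, f 0 * a = 0 → g * a = 0 := by
  obtain ⟨r, hr, hrx⟩ := exists_smul_eq_self (Ideal.span (Set.range f))
  refine ⟨1 - r, ?_, ?_⟩
  · have : 1 - r - 1 = -r := by ring
    rw [this]
    exact neg_mem hr
  · intro a ha
    have hmem : a ∈ (⨅ i : ℕ, Ideal.span (Set.range f) ^ i • ⊤ : Submodule A A) := by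
      rw [Submodule.mem_iInf]
      intro k
      rw [smul_eq_mul, Ideal.mul_top]
      exact mem_pow_of_mul_eq_zero f hq a ha k
    have := hrx a hmem
    rw [smul_eq_mul] at this
    rw [sub_mul, one_mul, this, sub_self]

theorem exists_good : ∀ (c : ℕ) (A : Type u) [CommRing A] [IsNoetherianRing A] (f : Fin c → A),
    (∀ n, QRAt f n) → ∃ g : A, g - 1 ∈ Ideal.span (Set.range f) ∧ GoodL (List.ofFn f) g := by
  intro c
  induction c with
  | zero =>
    intro A _ _ f _
    refine ⟨1, by simp, ?_⟩
    intro i h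
    simp at h
  | succ c ih =>
    intro A _ _ f hq
    obtain ⟨g1, hg1, hkill⟩ := exists_kill f hq
    set I0 : Ideal A := Ideal.span {f 0} with hI0
    have hI0J : I0 ≤ Ideal.span (Set.range f) := by
      rw [hI0, Ideal.span_singleton_le_iff_mem]
      exact Ideal.subset_span ⟨0, rfl⟩
    obtain ⟨h', hh', hgood'⟩ := ih (A ⧸ I0) (fun i => Ideal.Quotient.mk I0 (Fin.tail f i))
      (quotient_qr f hq)
    obtain ⟨h, rfl⟩ := Ideal.Quotient.mk_surjective h'
    have hh : h - 1 ∈ Ideal.span (Set.range f) := by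
      rw [← map_span_range_tail f] at hh'
      have h1 : Ideal.Quotient.mk I0 (h - 1) ∈
          (Ideal.span (Set.range f)).map (Ideal.Quotient.mk I0) := by
        rw [map_sub, map_one]
        exact hh'
      obtain ⟨y, hy, hy'⟩ := (Ideal.mem_map_iff_of_surjective _ Ideal.Quotient.mk_surjective).mp h1
      have h2 : y - (h - 1) ∈ I0 := Ideal.Quotient.eq.mp hy'
      have h3 : h - 1 = y - (y - (h - 1)) := by ring
      rw [h3]
      exact sub_mem hy (hI0J h2)
    refine ⟨g1 * h, ?_, ?_⟩
    · have : g1 * h - 1 = (g1 - 1) * h + (h - 1) := by ring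
      rw [this]
      exact add_mem (Ideal.mul_mem_right _ _ hg1) hh
    · have hlist : List.ofFn f = f 0 :: List.ofFn (Fin.tail f) := List.ofFn_succ
      have hlist' : List.ofFn (fun i => Ideal.Quotient.mk I0 (Fin.tail f i)) =
          (List.ofFn (Fin.tail f)).map (Ideal.Quotient.mk I0) := List.map_ofFn.symm
      rw [hlist'] at hgood'
      rw [hlist]
      set l := List.ofFn (Fin.tail f) with hl
      intro i hi a ha
      cases i with
      | zero =>
        rw [List.take_zero, Ideal.ofList_nil, Ideal.mem_bot] at ha ⊢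
        rw [List.getElem_cons_zero] at ha
        rw [mul_assoc, mul_comm h a, ← mul_assoc, hkill a ha, zero_mul]
      | succ j =>
        rw [List.take_succ_cons, Ideal.ofList_cons] at ha ⊢
        rw [List.getElem_cons_succ] at ha
        have hj : j < l.length := by simpa using hi
        have hj' : j < (l.map (Ideal.Quotient.mk I0)).length := by
          rw [List.length_map]; exact hj
        have h1 : (l.map (Ideal.Quotient.mk I0))[j] * Ideal.Quotient.mk I0 a ∈
            Ideal.ofList ((l.map (Ideal.Quotient.mk I0)).take j) := by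
          rw [List.getElem_map, ← List.map_take, ← Ideal.map_ofList, ← map_mul]
          have h2 := Ideal.mem_map_of_mem (Ideal.Quotient.mk I0) ha
          rw [Ideal.map_sup] at h2
          have h3 : Ideal.map (Ideal.Quotient.mk I0) (Ideal.span {f 0}) = ⊥ := by
            rw [← hI0, Ideal.map_quotient_self]
          rw [h3, bot_sup_eq] at h2
          exact h2
        have h4 := hgood' j hj' (Ideal.Quotient.mk I0 a) h1
        rw [← List.map_take, ← Ideal.map_ofList, ← map_mul] at h4
        obtain ⟨y, hy, hy'⟩ :=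
          (Ideal.mem_map_iff_of_surjective _ Ideal.Quotient.mk_surjective).mp h4
        have h5 : y - h * a ∈ I0 := Ideal.Quotient.eq.mp hy'
        have h6 : g1 * h * a = g1 * (y - (y - h * a)) := by ring
        rw [h6]
        apply Ideal.mul_mem_left
        rw [sup_comm]
        exact sub_mem (Ideal.mem_sup_left hy) (Ideal.mem_sup_right h5)

theorem isWeaklyRegular_of_goodL_of_isUnit (rs : List A) (g : A) (hg : IsUnit g)
    (h : GoodL rs g) : RingTheory.Sequence.IsWeaklyRegular A rs := by
  refine ⟨fun i hi => ?_⟩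
  rw [isSMulRegular_quotient_iff_mem_of_smul_mem]
  intro x hx
  rw [smul_eq_mul, Ideal.mul_top] at hx ⊢
  exact (Ideal.unit_mul_mem_iff_mem _ hg).mp (h i hi x hx)

theorem isWeaklyRegular_away (rs : List A) (g : A) (h : GoodL rs g)
    (B : Type u) [CommRing B] [Algebra A B] [IsLocalization.Away g B] :
    RingTheory.Sequence.IsWeaklyRegular B (rs.map (algebraMap A B)) := by
  refine ⟨fun i hi => ?_⟩
  have hi' : i < rs.length := by rwa [List.length_map] at hi
  rw [isSMulRegular_quotient_iff_mem_of_smul_mem]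
  intro b hb
  rw [smul_eq_mul, Ideal.mul_top, ← List.map_take, ← Ideal.map_ofList] at hb ⊢
  rw [List.getElem_map] at hb
  obtain ⟨n, a, hna⟩ := IsLocalization.Away.surj g b
  have hu : IsUnit (algebraMap A B g ^ n) := IsLocalization.Away.algebraMap_pow_isUnit g n
  have h1 : algebraMap A B (rs[i] * a) ∈ Ideal.map (algebraMap A B) (Ideal.ofList (rs.take i)) := by
    rw [map_mul, ← hna, ← mul_assoc]
    exact Ideal.mul_mem_right _ _ hb
  rw [IsLocalization.algebraMap_mem_map_algebraMap_iff (Submonoid.powers g)] at h1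
  obtain ⟨m, ⟨k, rfl⟩, hm⟩ := h1
  have h2 : rs[i] * (g ^ k * a) ∈ Ideal.ofList (rs.take i) := by
    have : rs[i] * (g ^ k * a) = g ^ k * (rs[i] * a) := by ring
    rw [this]
    exact hm
  have h3 := h i hi' _ h2
  have h4 : algebraMap A B (g * (g ^ k * a)) ∈
      Ideal.map (algebraMap A B) (Ideal.ofList (rs.take i)) := Ideal.mem_map_of_mem _ h3
  rw [map_mul, map_mul, ← hna, map_pow] at h4
  have hu' : IsUnit (algebraMap A B g * (algebraMap A B g ^ k * algebraMap A B g ^ n)) :=
    (IsLocalization.Away.algebraMap_isUnit g).mul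
      ((IsLocalization.Away.algebraMap_pow_isUnit g k).mul hu)
  have h5 : algebraMap A B g * (algebraMap A B g ^ k * (b * algebraMap A B g ^ n)) =
      (algebraMap A B g * (algebraMap A B g ^ k * algebraMap A B g ^ n)) * b := by ring
  rw [h5] at h4
  exact (Ideal.unit_mul_mem_iff_mem _ hu').mp h4

theorem isWeaklyRegular_of_isQuasiRegular_of_le_jacobson [IsNoetherianRing A] {c : ℕ}
    (f : Fin c → A) (hf : ∀ i, f i ∈ Ring.jacobson A) (hq : CAlgX.IsQuasiRegular f) :
    RingTheory.Sequence.IsWeaklyRegular A (List.ofFn f) := by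
  obtain ⟨g, hg, hgood⟩ := exists_good c A f ((isQuasiRegular_iff f).mp hq)
  refine isWeaklyRegular_of_goodL_of_isUnit _ g ?_ hgood
  apply Ideal.isUnit_of_sub_one_mem_jacobson_bot
  rw [Ideal.jacobson_bot]
  have : Ideal.span (Set.range f) ≤ Ring.jacobson A := by
    rw [Ideal.span_le]
    rintro _ ⟨i, rfl⟩
    exact hf i
  exact this hg

theorem exists_goodL_of_isQuasiRegular [IsNoetherianRing A] (rs : List A)
    (hq : CAlgX.IsQuasiRegular rs.get) :
    ∃ g : A, g - 1 ∈ Ideal.ofList rs ∧ GoodL rs g := by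
  obtain ⟨g, hg, hgood⟩ := exists_good rs.length A rs.get ((isQuasiRegular_iff _).mp hq)
  rw [List.ofFn_get] at hgood
  refine ⟨g, ?_, hgood⟩
  have : Ideal.span (Set.range rs.get) = Ideal.ofList rs := by
    unfold Ideal.ofList
    congr 1
    ext x
    simp [List.mem_iff_get]
  rw [← this]
  exact hg

end Groth.Agent.Lib.Helper39.QSpread
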