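import Groth.Prelude.Def_CInt

set_option autoImplicit false
universe u v

namespace Groth.Agent.Lib.Helper39.KH1

variable {A : Type u} [CommRing A] {M : Type v} [AddCommGroup M] [Module A M]

def trivSet {n : ℕ} (f : Fin n → A) (M : Type v) [AddCommGroup M] [Module A M] :
    Set (Fin n → M) :=
  {v : Fin n → M | ∃ (i j : Fin n) (x : M),
    v = f j • (Pi.single i x : Fin n → M) - f i • (Pi.single j x : Fin n → M)}

def relMap {n : ℕ} (f : Fin n → A) (M : Type v) [AddCommGroup M] [Module A M] :
    (Fin n → M) →ₗ[A] M := ∑ i, f i • LinearMap.proj i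

theorem relMap_apply {n : ℕ} (f : Fin n → A) (m : Fin n → M) :
    relMap f M m = ∑ i, f i • m i := by
  simp [relMap, LinearMap.sum_apply]

theorem koszulH1Zero_iff {n : ℕ} (f : Fin n → A) :
    CInt.KoszulH1Zero f M ↔ LinearMap.ker (relMap f M) ≤ Submodule.span A (trivSet f M) := by
  constructor
  · intro h m hm
    rw [LinearMap.mem_ker, relMap_apply] at hm
    exact h m hm
  · intro h m hm
    apply h
    rw [LinearMap.mem_ker, relMap_apply]
    exact hm

theorem mem_span_range_smul_top {n : ℕ} (f : Fin n → A) (x : M) :
    x ∈ Ideal.span (Set.range f) • (⊤ : Submodule A M) ↔ ∃ m : Fin n → M, x = ∑ i, f i • m i := by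
  constructor
  · intro hx
    refine Submodule.smul_induction_on hx ?_ ?_
    · intro r hr m _
      obtain ⟨c, rfl⟩ := (Ideal.mem_span_range_iff_exists_fun).mp hr
      refine ⟨fun i => c i • m, ?_⟩
      rw [Finset.sum_smul]
      apply Finset.sum_congr rfl
      intro i _
      rw [smul_smul, mul_comm]
    · rintro x y ⟨mx, rfl⟩ ⟨my, rfl⟩
      refine ⟨mx + my, ?_⟩
      simp only [Pi.add_apply, smul_add, Finset.sum_add_distrib]
  · rintro ⟨m, rfl⟩
    exact Submodule.sum_mem _ fun i _ =>
      Submodule.smul_mem_smul (Ideal.subset_span ⟨i, rfl⟩) trivial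

theorem single_castSucc_castSucc {n : ℕ} (i k : Fin n) (x : M) :
    (Pi.single (Fin.castSucc i) x : Fin (n + 1) → M) (Fin.castSucc k) =
      (Pi.single i x : Fin n → M) k := by
  rw [Pi.single_apply, Pi.single_apply]
  simp only [Fin.castSucc_inj]

theorem single_castSucc_last {n : ℕ} (i : Fin n) (x : M) :
    (Pi.single (Fin.castSucc i) x : Fin (n + 1) → M) (Fin.last n) = 0 := by
  rw [Pi.single_apply, if_neg]
  exact (Fin.castSucc_lt_last i).ne'

theorem single_last_castSucc {n : ℕ} (k : Fin n) (x : M) :
    (Pi.single (Fin.last n) x : Fin (n + 1) → M) (Fin.castSucc k) = 0 := by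
  rw [Pi.single_apply, if_neg]
  exact (Fin.castSucc_lt_last k).ne

theorem last_mem_of_mem_span {n : ℕ} (f : Fin (n + 1) → A) (v : Fin (n + 1) → M)
    (hv : v ∈ Submodule.span A (trivSet f M)) :
    v (Fin.last n) ∈ Ideal.span (Set.range fun i : Fin n => f i.castSucc) •
      (⊤ : Submodule A M) := by
  have hle : Submodule.span A (trivSet f M) ≤
      (Ideal.span (Set.range fun i : Fin n => f i.castSucc) • (⊤ : Submodule A M)).comap
        (LinearMap.proj (Fin.last n)) := by
    rw [Submodule.span_le]
    rintro _ ⟨i, j, x, rfl⟩
    rw [SetLike.mem_coe, Submodule.mem_comap, LinearMap.proj_apply]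
    simp only [Pi.sub_apply, Pi.smul_apply]
    have hmem : ∀ k : Fin n, f k.castSucc • x ∈
        Ideal.span (Set.range fun i : Fin n => f i.castSucc) • (⊤ : Submodule A M) :=
      fun k => Submodule.smul_mem_smul (Ideal.subset_span ⟨k, rfl⟩) trivial
    induction i using Fin.lastCases with
    | last =>
      induction j using Fin.lastCases with
      | last => rw [sub_self]; exact Submodule.zero_mem _
      | cast j =>
        rw [Pi.single_eq_same, single_castSucc_last, smul_zero, sub_zero]
        exact hmem j
    | cast i =>
      induction j using Fin.lastCases with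
      | last =>
        rw [Pi.single_eq_same, single_castSucc_last, smul_zero, zero_sub]
        exact Submodule.neg_mem _ (hmem i)
      | cast j =>
        rw [single_castSucc_last, single_castSucc_last, smul_zero, smul_zero, sub_zero]
        exact Submodule.zero_mem _
  exact hle hv

theorem last_regular {n : ℕ} (f : Fin (n + 1) → A) (h : CInt.KoszulH1Zero f M) (m : M)
    (hm : f (Fin.last n) • m ∈ Ideal.span (Set.range fun i : Fin n => f i.castSucc) •
      (⊤ : Submodule A M)) :
    m ∈ Ideal.span (Set.range fun i : Fin n => f i.castSucc) • (⊤ : Submodule A M) := by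
  obtain ⟨y, hy⟩ := (mem_span_range_smul_top _ _).mp hm
  let v : Fin (n + 1) → M := Fin.snoc (α := fun _ => M) (fun i => - y i) m
  have hv : ∑ i, f i • v i = 0 := by
    rw [Fin.sum_univ_castSucc]
    simp only [v, Fin.snoc_castSucc, Fin.snoc_last, smul_neg, Finset.sum_neg_distrib]
    rw [hy]; abel
  have := last_mem_of_mem_span f v (h v hv)
  simpa only [v, Fin.snoc_last] using this

theorem rel_le_sup {n : ℕ} (f : Fin (n + 1) → A) (h : CInt.KoszulH1Zero f M) :
    LinearMap.ker (relMap (fun i : Fin n => f i.castSucc) M) ≤
      Submodule.span A (trivSet (fun i : Fin n => f i.castSucc) M) ⊔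
        Ideal.span {f (Fin.last n)} • LinearMap.ker (relMap (fun i : Fin n => f i.castSucc) M) := by
  intro m' hm'
  rw [LinearMap.mem_ker, relMap_apply] at hm'
  let v : Fin (n + 1) → M := Fin.snoc (α := fun _ => M) m' 0
  have hv : ∑ i, f i • v i = 0 := by
    rw [Fin.sum_univ_castSucc]
    simp only [v, Fin.snoc_castSucc, Fin.snoc_last, smul_zero, add_zero]
    exact hm'
  have hspan := h v hv
  have key : ∀ w ∈ Submodule.span A (trivSet f M),
      ∃ b' ∈ Submodule.span A (trivSet (fun i : Fin n => f i.castSucc) M), ∃ y : Fin n → M,
        (∀ k : Fin n, w k.castSucc = b' k + f (Fin.last n) • y k) ∧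
          w (Fin.last n) = - ∑ k : Fin n, f k.castSucc • y k := by
    intro w hw
    induction hw using Submodule.span_induction with
    | mem w hw =>
      obtain ⟨i, j, x, rfl⟩ := hw
      induction i using Fin.lastCases with
      | last =>
        induction j using Fin.lastCases with
        | last =>
          refine ⟨0, Submodule.zero_mem _, 0, ?_, ?_⟩
          · intro k; simp
          · simp
        | cast j =>
          refine ⟨0, Submodule.zero_mem _, - (Pi.single j x : Fin n → M), ?_, ?_⟩
          · intro k
            simp only [Pi.sub_apply, Pi.smul_apply, single_last_castSucc, single_castSucc_castSucc,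
              smul_zero, zero_sub, Pi.zero_apply, Pi.neg_apply, smul_neg, zero_add]
          · simp only [Pi.sub_apply, Pi.smul_apply, Pi.single_eq_same, single_castSucc_last,
              smul_zero, sub_zero, Pi.neg_apply, smul_neg, Finset.sum_neg_distrib, neg_neg]
            rw [Finset.sum_eq_single j]
            · rw [Pi.single_eq_same]
            · intro k _ hk
              rw [Pi.single_eq_of_ne hk, smul_zero]
            · intro hj; exact absurd (Finset.mem_univ j) hj
      | cast i =>
        induction j using Fin.lastCases with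
        | last =>
          refine ⟨0, Submodule.zero_mem _, (Pi.single i x : Fin n → M), ?_, ?_⟩
          · intro k
            simp only [Pi.sub_apply, Pi.smul_apply, single_last_castSucc, single_castSucc_castSucc,
              smul_zero, sub_zero, Pi.zero_apply, zero_add]
          · simp only [Pi.sub_apply, Pi.smul_apply, Pi.single_eq_same, single_castSucc_last,
              smul_zero, zero_sub]
            rw [Finset.sum_eq_single i]
            · rw [Pi.single_eq_same]
            · intro k _ hk
              rw [Pi.single_eq_of_ne hk, smul_zero]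
            · intro hi; exact absurd (Finset.mem_univ i) hi
        | cast j =>
          refine ⟨f j.castSucc • (Pi.single i x : Fin n → M) - f i.castSucc • (Pi.single j x :
            Fin n → M), Submodule.subset_span ⟨i, j, x, rfl⟩, 0, ?_, ?_⟩
          · intro k
            simp only [Pi.sub_apply, Pi.smul_apply, single_castSucc_castSucc, Pi.zero_apply,
              smul_zero, add_zero]
          · simp only [Pi.sub_apply, Pi.smul_apply, single_castSucc_last, smul_zero, sub_zero,
              Pi.zero_apply, Finset.sum_const_zero, neg_zero]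
    | zero =>
      refine ⟨0, Submodule.zero_mem _, 0, ?_, ?_⟩
      · intro k; simp
      · simp
    | add w w' _ _ hw hw' =>
      obtain ⟨b, hb, y, h1, h2⟩ := hw
      obtain ⟨b', hb', y', h1', h2'⟩ := hw'
      refine ⟨b + b', Submodule.add_mem _ hb hb', y + y', ?_, ?_⟩
      · intro k
        simp only [Pi.add_apply, h1 k, h1' k, smul_add]
        abel
      · simp only [Pi.add_apply, h2, h2', smul_add, Finset.sum_add_distrib]
        abel
    | smul a w _ hw =>
      obtain ⟨b, hb, y, h1, h2⟩ := hw
      refine ⟨a • b, Submodule.smul_mem _ a hb, a • y, ?_, ?_⟩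
      · intro k
        simp only [Pi.smul_apply, h1 k, smul_add]
        rw [smul_comm]
      · simp only [Pi.smul_apply, h2, smul_neg, Finset.smul_sum]
        congr 1
        apply Finset.sum_congr rfl
        intro k _
        rw [smul_comm]
  obtain ⟨b', hb', y, h1, h2⟩ := key v hspan
  have hy : y ∈ LinearMap.ker (relMap (fun i : Fin n => f i.castSucc) M) := by
    rw [LinearMap.mem_ker, relMap_apply]
    simp only [v, Fin.snoc_last] at h2
    rw [← neg_eq_zero]; exact h2.symm
  have hm'eq : m' = b' + f (Fin.last n) • y := by
    funext k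
    have := h1 k
    simp only [v, Fin.snoc_castSucc] at this
    rw [this]; rfl
  rw [hm'eq]
  exact Submodule.add_mem_sup hb' (Submodule.smul_mem_smul (Ideal.mem_span_singleton_self _) hy)

end Groth.Agent.Lib.Helper39.KH1
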