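import Groth.Agent.Lib.Helper39.NumGenus

namespace Groth.Agent.Lib.Helper39.NT

open Finset Models

theorem harmonic {n : ℕ} (T : NumericalType n) (z : Fin n → ℤ)
    (h : ∀ j, 0 ≤ ∑ i, T.a j i * z i) : ∀ j, ∑ i, T.a j i * z i = 0 := by
  have hsum : ∑ j, T.m j * ∑ i, T.a j i * z i = 0 := by
    simp_rw [Finset.mul_sum]
    rw [Finset.sum_comm]
    have : ∀ i, ∑ j, T.m j * (T.a j i * z i) = z i * ∑ j, T.a i j * T.m j := by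
      intro i
      rw [Finset.mul_sum]
      apply Finset.sum_congr rfl
      intro j _
      rw [symm' T i j]; ring
    simp_rw [this, row T, mul_zero, Finset.sum_const_zero]
  intro j
  have h0 := (Finset.sum_eq_zero_iff_of_nonneg
    (fun j _ => mul_nonneg (T.m_pos j).le (h j))).mp hsum j (mem_univ j)
  rcases mul_eq_zero.mp h0 with h1 | h1
  · exact absurd h1 (T.m_pos j).ne'
  · exact h1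

theorem harmonic_fun {n : ℕ} (T : NumericalType n) (x : Fin n → Fin n)
    (hx : Function.Injective x) (c : Fin n → ℤ)
    (h : ∀ s, 0 ≤ ∑ t, T.a (x s) (x t) * c t) : ∀ s, ∑ t, T.a (x s) (x t) * c t = 0 := by
  have hb : Function.Bijective x := ⟨hx, Finite.surjective_of_injective hx⟩
  let e := Equiv.ofBijective x hb
  have key : ∀ j, ∑ i, T.a j i * c (e.symm i) = ∑ t, T.a j (x t) * c t := by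
    intro j
    rw [← e.sum_comp (fun i => T.a j i * c (e.symm i))]
    apply Finset.sum_congr rfl
    intro t _
    show T.a j (e t) * c (e.symm (e t)) = _
    rw [Equiv.symm_apply_apply]
    rfl
  have h2 := harmonic T (fun i => c (e.symm i)) (by
    intro j
    obtain ⟨s, rfl⟩ := hb.2 j
    rw [key]
    exact h s)
  intro s
  rw [← key]
  exact h2 (x s)

theorem cert2 {n : ℕ} (T : NumericalType n) (v0 v1 : Fin n) (h0_1 : v0 ≠ v1)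
    (hk : 2 < n) (c0 c1 : ℤ) (p0 : 0 < c0) (p1 : 0 < c1)
    (r0 : 0 ≤ T.a v0 v0 * c0 + T.a v0 v1 * c1)
    (r1 : 0 ≤ T.a v1 v0 * c0 + T.a v1 v1 * c1) : False := by
  refine cert_fun T ![v0, v1] (inj2 _ _ h0_1) hk ![c0, c1] ?_ 0 ?_ ?_
  · intro t
    fin_cases t <;> simp <;> omega
  · simpa using p0
  · intro s _
    fin_cases s
    · simpa [Fin.sum_univ_two] using r0
    · simpa [Fin.sum_univ_two] using r1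

theorem cert3 {n : ℕ} (T : NumericalType n) (v0 v1 v2 : Fin n) (h0_1 : v0 ≠ v1) (h0_2 : v0 ≠ v2) (h1_2 : v1 ≠ v2)
    (hk : 3 < n) (c0 c1 c2 : ℤ) (p0 : 0 < c0) (p1 : 0 < c1) (p2 : 0 < c2)
    (r0 : 0 ≤ T.a v0 v0 * c0 + T.a v0 v1 * c1 + T.a v0 v2 * c2)
    (r1 : 0 ≤ T.a v1 v0 * c0 + T.a v1 v1 * c1 + T.a v1 v2 * c2)
    (r2 : 0 ≤ T.a v2 v0 * c0 + T.a v2 v1 * c1 + T.a v2 v2 * c2) : False := by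
  refine cert_fun T ![v0, v1, v2] (inj3 _ _ _ h0_1 h0_2 h1_2) hk ![c0, c1, c2] ?_ 0 ?_ ?_
  · intro t
    fin_cases t <;> simp <;> omega
  · simpa using p0
  · intro s _
    fin_cases s
    · simpa [Fin.sum_univ_three] using r0
    · simpa [Fin.sum_univ_three] using r1
    · simpa [Fin.sum_univ_three] using r2

theorem cert4 {n : ℕ} (T : NumericalType n) (v0 v1 v2 v3 : Fin n) (h0_1 : v0 ≠ v1) (h0_2 : v0 ≠ v2) (h0_3 : v0 ≠ v3) (h1_2 : v1 ≠ v2) (h1_3 : v1 ≠ v3) (h2_3 : v2 ≠ v3)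
    (hk : 4 < n) (c0 c1 c2 c3 : ℤ) (p0 : 0 < c0) (p1 : 0 < c1) (p2 : 0 < c2) (p3 : 0 < c3)
    (r0 : 0 ≤ T.a v0 v0 * c0 + T.a v0 v1 * c1 + T.a v0 v2 * c2 + T.a v0 v3 * c3)
    (r1 : 0 ≤ T.a v1 v0 * c0 + T.a v1 v1 * c1 + T.a v1 v2 * c2 + T.a v1 v3 * c3)
    (r2 : 0 ≤ T.a v2 v0 * c0 + T.a v2 v1 * c1 + T.a v2 v2 * c2 + T.a v2 v3 * c3)
    (r3 : 0 ≤ T.a v3 v0 * c0 + T.a v3 v1 * c1 + T.a v3 v2 * c2 + T.a v3 v3 * c3) : False := by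
  refine cert_fun T ![v0, v1, v2, v3] (inj4 _ _ _ _ h0_1 h0_2 h0_3 h1_2 h1_3 h2_3) hk ![c0, c1, c2, c3] ?_ 0 ?_ ?_
  · intro t
    fin_cases t <;> simp <;> omega
  · simpa using p0
  · intro s _
    fin_cases s
    · simpa [Fin.sum_univ_four] using r0
    · simpa [Fin.sum_univ_four] using r1
    · simpa [Fin.sum_univ_four] using r2
    · simpa [Fin.sum_univ_four] using r3

theorem cert5 {n : ℕ} (T : NumericalType n) (v0 v1 v2 v3 v4 : Fin n) (h0_1 : v0 ≠ v1) (h0_2 : v0 ≠ v2) (h0_3 : v0 ≠ v3) (h0_4 : v0 ≠ v4) (h1_2 : v1 ≠ v2) (h1_3 : v1 ≠ v3) (h1_4 : v1 ≠ v4) (h2_3 : v2 ≠ v3) (h2_4 : v2 ≠ v4) (h3_4 : v3 ≠ v4)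
    (hk : 5 < n) (c0 c1 c2 c3 c4 : ℤ) (p0 : 0 < c0) (p1 : 0 < c1) (p2 : 0 < c2) (p3 : 0 < c3) (p4 : 0 < c4)
    (r0 : 0 ≤ T.a v0 v0 * c0 + T.a v0 v1 * c1 + T.a v0 v2 * c2 + T.a v0 v3 * c3 + T.a v0 v4 * c4)
    (r1 : 0 ≤ T.a v1 v0 * c0 + T.a v1 v1 * c1 + T.a v1 v2 * c2 + T.a v1 v3 * c3 + T.a v1 v4 * c4)
    (r2 : 0 ≤ T.a v2 v0 * c0 + T.a v2 v1 * c1 + T.a v2 v2 * c2 + T.a v2 v3 * c3 + T.a v2 v4 * c4)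
    (r3 : 0 ≤ T.a v3 v0 * c0 + T.a v3 v1 * c1 + T.a v3 v2 * c2 + T.a v3 v3 * c3 + T.a v3 v4 * c4)
    (r4 : 0 ≤ T.a v4 v0 * c0 + T.a v4 v1 * c1 + T.a v4 v2 * c2 + T.a v4 v3 * c3 + T.a v4 v4 * c4) : False := by
  refine cert_fun T ![v0, v1, v2, v3, v4] (inj5 _ _ _ _ _ h0_1 h0_2 h0_3 h0_4 h1_2 h1_3 h1_4 h2_3 h2_4 h3_4) hk ![c0, c1, c2, c3, c4] ?_ 0 ?_ ?_
  · intro t
    fin_cases t <;> simp <;> omega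
  · simpa using p0
  · intro s _
    fin_cases s
    · simpa [Fin.sum_univ_five] using r0
    · simpa [Fin.sum_univ_five] using r1
    · simpa [Fin.sum_univ_five] using r2
    · simpa [Fin.sum_univ_five] using r3
    · simpa [Fin.sum_univ_five] using r4

theorem cert6 {n : ℕ} (T : NumericalType n) (v0 v1 v2 v3 v4 v5 : Fin n) (h0_1 : v0 ≠ v1) (h0_2 : v0 ≠ v2) (h0_3 : v0 ≠ v3) (h0_4 : v0 ≠ v4) (h0_5 : v0 ≠ v5) (h1_2 : v1 ≠ v2) (h1_3 : v1 ≠ v3) (h1_4 : v1 ≠ v4) (h1_5 : v1 ≠ v5) (h2_3 : v2 ≠ v3) (h2_4 : v2 ≠ v4) (h2_5 : v2 ≠ v5) (h3_4 : v3 ≠ v4) (h3_5 : v3 ≠ v5) (h4_5 : v4 ≠ v5)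
    (hk : 6 < n) (c0 c1 c2 c3 c4 c5 : ℤ) (p0 : 0 < c0) (p1 : 0 < c1) (p2 : 0 < c2) (p3 : 0 < c3) (p4 : 0 < c4) (p5 : 0 < c5)
    (r0 : 0 ≤ T.a v0 v0 * c0 + T.a v0 v1 * c1 + T.a v0 v2 * c2 + T.a v0 v3 * c3 + T.a v0 v4 * c4 + T.a v0 v5 * c5)
    (r1 : 0 ≤ T.a v1 v0 * c0 + T.a v1 v1 * c1 + T.a v1 v2 * c2 + T.a v1 v3 * c3 + T.a v1 v4 * c4 + T.a v1 v5 * c5)
    (r2 : 0 ≤ T.a v2 v0 * c0 + T.a v2 v1 * c1 + T.a v2 v2 * c2 + T.a v2 v3 * c3 + T.a v2 v4 * c4 + T.a v2 v5 * c5)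
    (r3 : 0 ≤ T.a v3 v0 * c0 + T.a v3 v1 * c1 + T.a v3 v2 * c2 + T.a v3 v3 * c3 + T.a v3 v4 * c4 + T.a v3 v5 * c5)
    (r4 : 0 ≤ T.a v4 v0 * c0 + T.a v4 v1 * c1 + T.a v4 v2 * c2 + T.a v4 v3 * c3 + T.a v4 v4 * c4 + T.a v4 v5 * c5)
    (r5 : 0 ≤ T.a v5 v0 * c0 + T.a v5 v1 * c1 + T.a v5 v2 * c2 + T.a v5 v3 * c3 + T.a v5 v4 * c4 + T.a v5 v5 * c5) : False := by
  refine cert_fun T ![v0, v1, v2, v3, v4, v5] (inj6 _ _ _ _ _ _ h0_1 h0_2 h0_3 h0_4 h0_5 h1_2 h1_3 h1_4 h1_5 h2_3 h2_4 h2_5 h3_4 h3_5 h4_5) hk ![c0, c1, c2, c3, c4, c5] ?_ 0 ?_ ?_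
  · intro t
    fin_cases t <;> simp <;> omega
  · simpa using p0
  · intro s _
    fin_cases s
    · simpa [Fin.sum_univ_six] using r0
    · simpa [Fin.sum_univ_six] using r1
    · simpa [Fin.sum_univ_six] using r2
    · simpa [Fin.sum_univ_six] using r3
    · simpa [Fin.sum_univ_six] using r4
    · simpa [Fin.sum_univ_six] using r5

theorem cert7 {n : ℕ} (T : NumericalType n) (v0 v1 v2 v3 v4 v5 v6 : Fin n) (h0_1 : v0 ≠ v1) (h0_2 : v0 ≠ v2) (h0_3 : v0 ≠ v3) (h0_4 : v0 ≠ v4) (h0_5 : v0 ≠ v5) (h0_6 : v0 ≠ v6) (h1_2 : v1 ≠ v2) (h1_3 : v1 ≠ v3) (h1_4 : v1 ≠ v4) (h1_5 : v1 ≠ v5) (h1_6 : v1 ≠ v6) (h2_3 : v2 ≠ v3) (h2_4 : v2 ≠ v4) (h2_5 : v2 ≠ v5) (h2_6 : v2 ≠ v6) (h3_4 : v3 ≠ v4) (h3_5 : v3 ≠ v5) (h3_6 : v3 ≠ v6) (h4_5 : v4 ≠ v5) (h4_6 : v4 ≠ v6) (h5_6 : v5 ≠ v6)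
    (hk : 7 < n) (c0 c1 c2 c3 c4 c5 c6 : ℤ) (p0 : 0 < c0) (p1 : 0 < c1) (p2 : 0 < c2) (p3 : 0 < c3) (p4 : 0 < c4) (p5 : 0 < c5) (p6 : 0 < c6)
    (r0 : 0 ≤ T.a v0 v0 * c0 + T.a v0 v1 * c1 + T.a v0 v2 * c2 + T.a v0 v3 * c3 + T.a v0 v4 * c4 + T.a v0 v5 * c5 + T.a v0 v6 * c6)
    (r1 : 0 ≤ T.a v1 v0 * c0 + T.a v1 v1 * c1 + T.a v1 v2 * c2 + T.a v1 v3 * c3 + T.a v1 v4 * c4 + T.a v1 v5 * c5 + T.a v1 v6 * c6)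
    (r2 : 0 ≤ T.a v2 v0 * c0 + T.a v2 v1 * c1 + T.a v2 v2 * c2 + T.a v2 v3 * c3 + T.a v2 v4 * c4 + T.a v2 v5 * c5 + T.a v2 v6 * c6)
    (r3 : 0 ≤ T.a v3 v0 * c0 + T.a v3 v1 * c1 + T.a v3 v2 * c2 + T.a v3 v3 * c3 + T.a v3 v4 * c4 + T.a v3 v5 * c5 + T.a v3 v6 * c6)
    (r4 : 0 ≤ T.a v4 v0 * c0 + T.a v4 v1 * c1 + T.a v4 v2 * c2 + T.a v4 v3 * c3 + T.a v4 v4 * c4 + T.a v4 v5 * c5 + T.a v4 v6 * c6)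
    (r5 : 0 ≤ T.a v5 v0 * c0 + T.a v5 v1 * c1 + T.a v5 v2 * c2 + T.a v5 v3 * c3 + T.a v5 v4 * c4 + T.a v5 v5 * c5 + T.a v5 v6 * c6)
    (r6 : 0 ≤ T.a v6 v0 * c0 + T.a v6 v1 * c1 + T.a v6 v2 * c2 + T.a v6 v3 * c3 + T.a v6 v4 * c4 + T.a v6 v5 * c5 + T.a v6 v6 * c6) : False := by
  refine cert_fun T ![v0, v1, v2, v3, v4, v5, v6] (inj7 _ _ _ _ _ _ _ h0_1 h0_2 h0_3 h0_4 h0_5 h0_6 h1_2 h1_3 h1_4 h1_5 h1_6 h2_3 h2_4 h2_5 h2_6 h3_4 h3_5 h3_6 h4_5 h4_6 h5_6) hk ![c0, c1, c2, c3, c4, c5, c6] ?_ 0 ?_ ?_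
  · intro t
    fin_cases t <;> simp <;> omega
  · simpa using p0
  · intro s _
    fin_cases s
    · simpa [Fin.sum_univ_seven] using r0
    · simpa [Fin.sum_univ_seven] using r1
    · simpa [Fin.sum_univ_seven] using r2
    · simpa [Fin.sum_univ_seven] using r3
    · simpa [Fin.sum_univ_seven] using r4
    · simpa [Fin.sum_univ_seven] using r5
    · simpa [Fin.sum_univ_seven] using r6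

theorem cert8 {n : ℕ} (T : NumericalType n) (v0 v1 v2 v3 v4 v5 v6 v7 : Fin n) (h0_1 : v0 ≠ v1) (h0_2 : v0 ≠ v2) (h0_3 : v0 ≠ v3) (h0_4 : v0 ≠ v4) (h0_5 : v0 ≠ v5) (h0_6 : v0 ≠ v6) (h0_7 : v0 ≠ v7) (h1_2 : v1 ≠ v2) (h1_3 : v1 ≠ v3) (h1_4 : v1 ≠ v4) (h1_5 : v1 ≠ v5) (h1_6 : v1 ≠ v6) (h1_7 : v1 ≠ v7) (h2_3 : v2 ≠ v3) (h2_4 : v2 ≠ v4) (h2_5 : v2 ≠ v5) (h2_6 : v2 ≠ v6) (h2_7 : v2 ≠ v7) (h3_4 : v3 ≠ v4) (h3_5 : v3 ≠ v5) (h3_6 : v3 ≠ v6) (h3_7 : v3 ≠ v7) (h4_5 : v4 ≠ v5) (h4_6 : v4 ≠ v6) (h4_7 : v4 ≠ v7) (h5_6 : v5 ≠ v6) (h5_7 : v5 ≠ v7) (h6_7 : v6 ≠ v7)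
    (hk : 8 < n) (c0 c1 c2 c3 c4 c5 c6 c7 : ℤ) (p0 : 0 < c0) (p1 : 0 < c1) (p2 : 0 < c2) (p3 : 0 < c3) (p4 : 0 < c4) (p5 : 0 < c5) (p6 : 0 < c6) (p7 : 0 < c7)
    (r0 : 0 ≤ T.a v0 v0 * c0 + T.a v0 v1 * c1 + T.a v0 v2 * c2 + T.a v0 v3 * c3 + T.a v0 v4 * c4 + T.a v0 v5 * c5 + T.a v0 v6 * c6 + T.a v0 v7 * c7)
    (r1 : 0 ≤ T.a v1 v0 * c0 + T.a v1 v1 * c1 + T.a v1 v2 * c2 + T.a v1 v3 * c3 + T.a v1 v4 * c4 + T.a v1 v5 * c5 + T.a v1 v6 * c6 + T.a v1 v7 * c7)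
    (r2 : 0 ≤ T.a v2 v0 * c0 + T.a v2 v1 * c1 + T.a v2 v2 * c2 + T.a v2 v3 * c3 + T.a v2 v4 * c4 + T.a v2 v5 * c5 + T.a v2 v6 * c6 + T.a v2 v7 * c7)
    (r3 : 0 ≤ T.a v3 v0 * c0 + T.a v3 v1 * c1 + T.a v3 v2 * c2 + T.a v3 v3 * c3 + T.a v3 v4 * c4 + T.a v3 v5 * c5 + T.a v3 v6 * c6 + T.a v3 v7 * c7)
    (r4 : 0 ≤ T.a v4 v0 * c0 + T.a v4 v1 * c1 + T.a v4 v2 * c2 + T.a v4 v3 * c3 + T.a v4 v4 * c4 + T.a v4 v5 * c5 + T.a v4 v6 * c6 + T.a v4 v7 * c7)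
    (r5 : 0 ≤ T.a v5 v0 * c0 + T.a v5 v1 * c1 + T.a v5 v2 * c2 + T.a v5 v3 * c3 + T.a v5 v4 * c4 + T.a v5 v5 * c5 + T.a v5 v6 * c6 + T.a v5 v7 * c7)
    (r6 : 0 ≤ T.a v6 v0 * c0 + T.a v6 v1 * c1 + T.a v6 v2 * c2 + T.a v6 v3 * c3 + T.a v6 v4 * c4 + T.a v6 v5 * c5 + T.a v6 v6 * c6 + T.a v6 v7 * c7)
    (r7 : 0 ≤ T.a v7 v0 * c0 + T.a v7 v1 * c1 + T.a v7 v2 * c2 + T.a v7 v3 * c3 + T.a v7 v4 * c4 + T.a v7 v5 * c5 + T.a v7 v6 * c6 + T.a v7 v7 * c7) : False := by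
  refine cert_fun T ![v0, v1, v2, v3, v4, v5, v6, v7] (inj8 _ _ _ _ _ _ _ _ h0_1 h0_2 h0_3 h0_4 h0_5 h0_6 h0_7 h1_2 h1_3 h1_4 h1_5 h1_6 h1_7 h2_3 h2_4 h2_5 h2_6 h2_7 h3_4 h3_5 h3_6 h3_7 h4_5 h4_6 h4_7 h5_6 h5_7 h6_7) hk ![c0, c1, c2, c3, c4, c5, c6, c7] ?_ 0 ?_ ?_
  · intro t
    fin_cases t <;> simp <;> omega
  · simpa using p0
  · intro s _
    fin_cases s
    · simpa [Fin.sum_univ_eight] using r0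
    · simpa [Fin.sum_univ_eight] using r1
    · simpa [Fin.sum_univ_eight] using r2
    · simpa [Fin.sum_univ_eight] using r3
    · simpa [Fin.sum_univ_eight] using r4
    · simpa [Fin.sum_univ_eight] using r5
    · simpa [Fin.sum_univ_eight] using r6
    · simpa [Fin.sum_univ_eight] using r7

theorem harm4 (T : NumericalType 4) (v0 v1 v2 v3 : Fin 4) (h0_1 : v0 ≠ v1) (h0_2 : v0 ≠ v2) (h0_3 : v0 ≠ v3) (h1_2 : v1 ≠ v2) (h1_3 : v1 ≠ v3) (h2_3 : v2 ≠ v3)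
    (c0 c1 c2 c3 : ℤ)
    (r0 : 0 ≤ T.a v0 v0 * c0 + T.a v0 v1 * c1 + T.a v0 v2 * c2 + T.a v0 v3 * c3)
    (r1 : 0 ≤ T.a v1 v0 * c0 + T.a v1 v1 * c1 + T.a v1 v2 * c2 + T.a v1 v3 * c3)
    (r2 : 0 ≤ T.a v2 v0 * c0 + T.a v2 v1 * c1 + T.a v2 v2 * c2 + T.a v2 v3 * c3)
    (r3 : 0 ≤ T.a v3 v0 * c0 + T.a v3 v1 * c1 + T.a v3 v2 * c2 + T.a v3 v3 * c3) :
    T.a v0 v0 * c0 + T.a v0 v1 * c1 + T.a v0 v2 * c2 + T.a v0 v3 * c3 = 0 ∧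
    T.a v1 v0 * c0 + T.a v1 v1 * c1 + T.a v1 v2 * c2 + T.a v1 v3 * c3 = 0 ∧
    T.a v2 v0 * c0 + T.a v2 v1 * c1 + T.a v2 v2 * c2 + T.a v2 v3 * c3 = 0 ∧
    T.a v3 v0 * c0 + T.a v3 v1 * c1 + T.a v3 v2 * c2 + T.a v3 v3 * c3 = 0 := by
  have hinj := inj4 v0 v1 v2 v3 h0_1 h0_2 h0_3 h1_2 h1_3 h2_3
  have key := harmonic_fun T ![v0, v1, v2, v3] hinj ![c0, c1, c2, c3] (by
    intro s
    fin_cases s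
    · simpa [Fin.sum_univ_four] using r0
    · simpa [Fin.sum_univ_four] using r1
    · simpa [Fin.sum_univ_four] using r2
    · simpa [Fin.sum_univ_four] using r3
    )
  refine ⟨?_, ?_, ?_, ?_⟩
  · simpa [Fin.sum_univ_four] using key (0 : Fin 4)
  · simpa [Fin.sum_univ_four] using key (1 : Fin 4)
  · simpa [Fin.sum_univ_four] using key (2 : Fin 4)
  · simpa [Fin.sum_univ_four] using key (3 : Fin 4)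

theorem harm5 (T : NumericalType 5) (v0 v1 v2 v3 v4 : Fin 5) (h0_1 : v0 ≠ v1) (h0_2 : v0 ≠ v2) (h0_3 : v0 ≠ v3) (h0_4 : v0 ≠ v4) (h1_2 : v1 ≠ v2) (h1_3 : v1 ≠ v3) (h1_4 : v1 ≠ v4) (h2_3 : v2 ≠ v3) (h2_4 : v2 ≠ v4) (h3_4 : v3 ≠ v4)
    (c0 c1 c2 c3 c4 : ℤ)
    (r0 : 0 ≤ T.a v0 v0 * c0 + T.a v0 v1 * c1 + T.a v0 v2 * c2 + T.a v0 v3 * c3 + T.a v0 v4 * c4)
    (r1 : 0 ≤ T.a v1 v0 * c0 + T.a v1 v1 * c1 + T.a v1 v2 * c2 + T.a v1 v3 * c3 + T.a v1 v4 * c4)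
    (r2 : 0 ≤ T.a v2 v0 * c0 + T.a v2 v1 * c1 + T.a v2 v2 * c2 + T.a v2 v3 * c3 + T.a v2 v4 * c4)
    (r3 : 0 ≤ T.a v3 v0 * c0 + T.a v3 v1 * c1 + T.a v3 v2 * c2 + T.a v3 v3 * c3 + T.a v3 v4 * c4)
    (r4 : 0 ≤ T.a v4 v0 * c0 + T.a v4 v1 * c1 + T.a v4 v2 * c2 + T.a v4 v3 * c3 + T.a v4 v4 * c4) :
    T.a v0 v0 * c0 + T.a v0 v1 * c1 + T.a v0 v2 * c2 + T.a v0 v3 * c3 + T.a v0 v4 * c4 = 0 ∧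
    T.a v1 v0 * c0 + T.a v1 v1 * c1 + T.a v1 v2 * c2 + T.a v1 v3 * c3 + T.a v1 v4 * c4 = 0 ∧
    T.a v2 v0 * c0 + T.a v2 v1 * c1 + T.a v2 v2 * c2 + T.a v2 v3 * c3 + T.a v2 v4 * c4 = 0 ∧
    T.a v3 v0 * c0 + T.a v3 v1 * c1 + T.a v3 v2 * c2 + T.a v3 v3 * c3 + T.a v3 v4 * c4 = 0 ∧
    T.a v4 v0 * c0 + T.a v4 v1 * c1 + T.a v4 v2 * c2 + T.a v4 v3 * c3 + T.a v4 v4 * c4 = 0 := by
  have hinj := inj5 v0 v1 v2 v3 v4 h0_1 h0_2 h0_3 h0_4 h1_2 h1_3 h1_4 h2_3 h2_4 h3_4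
  have key := harmonic_fun T ![v0, v1, v2, v3, v4] hinj ![c0, c1, c2, c3, c4] (by
    intro s
    fin_cases s
    · simpa [Fin.sum_univ_five] using r0
    · simpa [Fin.sum_univ_five] using r1
    · simpa [Fin.sum_univ_five] using r2
    · simpa [Fin.sum_univ_five] using r3
    · simpa [Fin.sum_univ_five] using r4
    )
  refine ⟨?_, ?_, ?_, ?_, ?_⟩
  · simpa [Fin.sum_univ_five] using key (0 : Fin 5)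
  · simpa [Fin.sum_univ_five] using key (1 : Fin 5)
  · simpa [Fin.sum_univ_five] using key (2 : Fin 5)
  · simpa [Fin.sum_univ_five] using key (3 : Fin 5)
  · simpa [Fin.sum_univ_five] using key (4 : Fin 5)

theorem harm6 (T : NumericalType 6) (v0 v1 v2 v3 v4 v5 : Fin 6) (h0_1 : v0 ≠ v1) (h0_2 : v0 ≠ v2) (h0_3 : v0 ≠ v3) (h0_4 : v0 ≠ v4) (h0_5 : v0 ≠ v5) (h1_2 : v1 ≠ v2) (h1_3 : v1 ≠ v3) (h1_4 : v1 ≠ v4) (h1_5 : v1 ≠ v5) (h2_3 : v2 ≠ v3) (h2_4 : v2 ≠ v4) (h2_5 : v2 ≠ v5) (h3_4 : v3 ≠ v4) (h3_5 : v3 ≠ v5) (h4_5 : v4 ≠ v5)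
    (c0 c1 c2 c3 c4 c5 : ℤ)
    (r0 : 0 ≤ T.a v0 v0 * c0 + T.a v0 v1 * c1 + T.a v0 v2 * c2 + T.a v0 v3 * c3 + T.a v0 v4 * c4 + T.a v0 v5 * c5)
    (r1 : 0 ≤ T.a v1 v0 * c0 + T.a v1 v1 * c1 + T.a v1 v2 * c2 + T.a v1 v3 * c3 + T.a v1 v4 * c4 + T.a v1 v5 * c5)
    (r2 : 0 ≤ T.a v2 v0 * c0 + T.a v2 v1 * c1 + T.a v2 v2 * c2 + T.a v2 v3 * c3 + T.a v2 v4 * c4 + T.a v2 v5 * c5)
    (r3 : 0 ≤ T.a v3 v0 * c0 + T.a v3 v1 * c1 + T.a v3 v2 * c2 + T.a v3 v3 * c3 + T.a v3 v4 * c4 + T.a v3 v5 * c5)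
    (r4 : 0 ≤ T.a v4 v0 * c0 + T.a v4 v1 * c1 + T.a v4 v2 * c2 + T.a v4 v3 * c3 + T.a v4 v4 * c4 + T.a v4 v5 * c5)
    (r5 : 0 ≤ T.a v5 v0 * c0 + T.a v5 v1 * c1 + T.a v5 v2 * c2 + T.a v5 v3 * c3 + T.a v5 v4 * c4 + T.a v5 v5 * c5) :
    T.a v0 v0 * c0 + T.a v0 v1 * c1 + T.a v0 v2 * c2 + T.a v0 v3 * c3 + T.a v0 v4 * c4 + T.a v0 v5 * c5 = 0 ∧
    T.a v1 v0 * c0 + T.a v1 v1 * c1 + T.a v1 v2 * c2 + T.a v1 v3 * c3 + T.a v1 v4 * c4 + T.a v1 v5 * c5 = 0 ∧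
    T.a v2 v0 * c0 + T.a v2 v1 * c1 + T.a v2 v2 * c2 + T.a v2 v3 * c3 + T.a v2 v4 * c4 + T.a v2 v5 * c5 = 0 ∧
    T.a v3 v0 * c0 + T.a v3 v1 * c1 + T.a v3 v2 * c2 + T.a v3 v3 * c3 + T.a v3 v4 * c4 + T.a v3 v5 * c5 = 0 ∧
    T.a v4 v0 * c0 + T.a v4 v1 * c1 + T.a v4 v2 * c2 + T.a v4 v3 * c3 + T.a v4 v4 * c4 + T.a v4 v5 * c5 = 0 ∧
    T.a v5 v0 * c0 + T.a v5 v1 * c1 + T.a v5 v2 * c2 + T.a v5 v3 * c3 + T.a v5 v4 * c4 + T.a v5 v5 * c5 = 0 := by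
  have hinj := inj6 v0 v1 v2 v3 v4 v5 h0_1 h0_2 h0_3 h0_4 h0_5 h1_2 h1_3 h1_4 h1_5 h2_3 h2_4 h2_5 h3_4 h3_5 h4_5
  have key := harmonic_fun T ![v0, v1, v2, v3, v4, v5] hinj ![c0, c1, c2, c3, c4, c5] (by
    intro s
    fin_cases s
    · simpa [Fin.sum_univ_six] using r0
    · simpa [Fin.sum_univ_six] using r1
    · simpa [Fin.sum_univ_six] using r2
    · simpa [Fin.sum_univ_six] using r3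
    · simpa [Fin.sum_univ_six] using r4
    · simpa [Fin.sum_univ_six] using r5
    )
  refine ⟨?_, ?_, ?_, ?_, ?_, ?_⟩
  · simpa [Fin.sum_univ_six] using key (0 : Fin 6)
  · simpa [Fin.sum_univ_six] using key (1 : Fin 6)
  · simpa [Fin.sum_univ_six] using key (2 : Fin 6)
  · simpa [Fin.sum_univ_six] using key (3 : Fin 6)
  · simpa [Fin.sum_univ_six] using key (4 : Fin 6)
  · simpa [Fin.sum_univ_six] using key (5 : Fin 6)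

theorem harm7 (T : NumericalType 7) (v0 v1 v2 v3 v4 v5 v6 : Fin 7) (h0_1 : v0 ≠ v1) (h0_2 : v0 ≠ v2) (h0_3 : v0 ≠ v3) (h0_4 : v0 ≠ v4) (h0_5 : v0 ≠ v5) (h0_6 : v0 ≠ v6) (h1_2 : v1 ≠ v2) (h1_3 : v1 ≠ v3) (h1_4 : v1 ≠ v4) (h1_5 : v1 ≠ v5) (h1_6 : v1 ≠ v6) (h2_3 : v2 ≠ v3) (h2_4 : v2 ≠ v4) (h2_5 : v2 ≠ v5) (h2_6 : v2 ≠ v6) (h3_4 : v3 ≠ v4) (h3_5 : v3 ≠ v5) (h3_6 : v3 ≠ v6) (h4_5 : v4 ≠ v5) (h4_6 : v4 ≠ v6) (h5_6 : v5 ≠ v6)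
    (c0 c1 c2 c3 c4 c5 c6 : ℤ)
    (r0 : 0 ≤ T.a v0 v0 * c0 + T.a v0 v1 * c1 + T.a v0 v2 * c2 + T.a v0 v3 * c3 + T.a v0 v4 * c4 + T.a v0 v5 * c5 + T.a v0 v6 * c6)
    (r1 : 0 ≤ T.a v1 v0 * c0 + T.a v1 v1 * c1 + T.a v1 v2 * c2 + T.a v1 v3 * c3 + T.a v1 v4 * c4 + T.a v1 v5 * c5 + T.a v1 v6 * c6)
    (r2 : 0 ≤ T.a v2 v0 * c0 + T.a v2 v1 * c1 + T.a v2 v2 * c2 + T.a v2 v3 * c3 + T.a v2 v4 * c4 + T.a v2 v5 * c5 + T.a v2 v6 * c6)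
    (r3 : 0 ≤ T.a v3 v0 * c0 + T.a v3 v1 * c1 + T.a v3 v2 * c2 + T.a v3 v3 * c3 + T.a v3 v4 * c4 + T.a v3 v5 * c5 + T.a v3 v6 * c6)
    (r4 : 0 ≤ T.a v4 v0 * c0 + T.a v4 v1 * c1 + T.a v4 v2 * c2 + T.a v4 v3 * c3 + T.a v4 v4 * c4 + T.a v4 v5 * c5 + T.a v4 v6 * c6)
    (r5 : 0 ≤ T.a v5 v0 * c0 + T.a v5 v1 * c1 + T.a v5 v2 * c2 + T.a v5 v3 * c3 + T.a v5 v4 * c4 + T.a v5 v5 * c5 + T.a v5 v6 * c6)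
    (r6 : 0 ≤ T.a v6 v0 * c0 + T.a v6 v1 * c1 + T.a v6 v2 * c2 + T.a v6 v3 * c3 + T.a v6 v4 * c4 + T.a v6 v5 * c5 + T.a v6 v6 * c6) :
    T.a v0 v0 * c0 + T.a v0 v1 * c1 + T.a v0 v2 * c2 + T.a v0 v3 * c3 + T.a v0 v4 * c4 + T.a v0 v5 * c5 + T.a v0 v6 * c6 = 0 ∧
    T.a v1 v0 * c0 + T.a v1 v1 * c1 + T.a v1 v2 * c2 + T.a v1 v3 * c3 + T.a v1 v4 * c4 + T.a v1 v5 * c5 + T.a v1 v6 * c6 = 0 ∧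
    T.a v2 v0 * c0 + T.a v2 v1 * c1 + T.a v2 v2 * c2 + T.a v2 v3 * c3 + T.a v2 v4 * c4 + T.a v2 v5 * c5 + T.a v2 v6 * c6 = 0 ∧
    T.a v3 v0 * c0 + T.a v3 v1 * c1 + T.a v3 v2 * c2 + T.a v3 v3 * c3 + T.a v3 v4 * c4 + T.a v3 v5 * c5 + T.a v3 v6 * c6 = 0 ∧
    T.a v4 v0 * c0 + T.a v4 v1 * c1 + T.a v4 v2 * c2 + T.a v4 v3 * c3 + T.a v4 v4 * c4 + T.a v4 v5 * c5 + T.a v4 v6 * c6 = 0 ∧
    T.a v5 v0 * c0 + T.a v5 v1 * c1 + T.a v5 v2 * c2 + T.a v5 v3 * c3 + T.a v5 v4 * c4 + T.a v5 v5 * c5 + T.a v5 v6 * c6 = 0 ∧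
    T.a v6 v0 * c0 + T.a v6 v1 * c1 + T.a v6 v2 * c2 + T.a v6 v3 * c3 + T.a v6 v4 * c4 + T.a v6 v5 * c5 + T.a v6 v6 * c6 = 0 := by
  have hinj := inj7 v0 v1 v2 v3 v4 v5 v6 h0_1 h0_2 h0_3 h0_4 h0_5 h0_6 h1_2 h1_3 h1_4 h1_5 h1_6 h2_3 h2_4 h2_5 h2_6 h3_4 h3_5 h3_6 h4_5 h4_6 h5_6
  have key := harmonic_fun T ![v0, v1, v2, v3, v4, v5, v6] hinj ![c0, c1, c2, c3, c4, c5, c6] (by
    intro s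
    fin_cases s
    · simpa [Fin.sum_univ_seven] using r0
    · simpa [Fin.sum_univ_seven] using r1
    · simpa [Fin.sum_univ_seven] using r2
    · simpa [Fin.sum_univ_seven] using r3
    · simpa [Fin.sum_univ_seven] using r4
    · simpa [Fin.sum_univ_seven] using r5
    · simpa [Fin.sum_univ_seven] using r6
    )
  refine ⟨?_, ?_, ?_, ?_, ?_, ?_, ?_⟩
  · simpa [Fin.sum_univ_seven] using key (0 : Fin 7)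
  · simpa [Fin.sum_univ_seven] using key (1 : Fin 7)
  · simpa [Fin.sum_univ_seven] using key (2 : Fin 7)
  · simpa [Fin.sum_univ_seven] using key (3 : Fin 7)
  · simpa [Fin.sum_univ_seven] using key (4 : Fin 7)
  · simpa [Fin.sum_univ_seven] using key (5 : Fin 7)
  · simpa [Fin.sum_univ_seven] using key (6 : Fin 7)

theorem harm8 (T : NumericalType 8) (v0 v1 v2 v3 v4 v5 v6 v7 : Fin 8) (h0_1 : v0 ≠ v1) (h0_2 : v0 ≠ v2) (h0_3 : v0 ≠ v3) (h0_4 : v0 ≠ v4) (h0_5 : v0 ≠ v5) (h0_6 : v0 ≠ v6) (h0_7 : v0 ≠ v7) (h1_2 : v1 ≠ v2) (h1_3 : v1 ≠ v3) (h1_4 : v1 ≠ v4) (h1_5 : v1 ≠ v5) (h1_6 : v1 ≠ v6) (h1_7 : v1 ≠ v7) (h2_3 : v2 ≠ v3) (h2_4 : v2 ≠ v4) (h2_5 : v2 ≠ v5) (h2_6 : v2 ≠ v6) (h2_7 : v2 ≠ v7) (h3_4 : v3 ≠ v4) (h3_5 : v3 ≠ v5) (h3_6 : v3 ≠ v6) (h3_7 : v3 ≠ v7) (h4_5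 : v4 ≠ v5) (h4_6 : v4 ≠ v6) (h4_7 : v4 ≠ v7) (h5_6 : v5 ≠ v6) (h5_7 : v5 ≠ v7) (h6_7 : v6 ≠ v7)
    (c0 c1 c2 c3 c4 c5 c6 c7 : ℤ)
    (r0 : 0 ≤ T.a v0 v0 * c0 + T.a v0 v1 * c1 + T.a v0 v2 * c2 + T.a v0 v3 * c3 + T.a v0 v4 * c4 + T.a v0 v5 * c5 + T.a v0 v6 * c6 + T.a v0 v7 * c7)
    (r1 : 0 ≤ T.a v1 v0 * c0 + T.a v1 v1 * c1 + T.a v1 v2 * c2 + T.a v1 v3 * c3 + T.a v1 v4 * c4 + T.a v1 v5 * c5 + T.a v1 v6 * c6 + T.a v1 v7 * c7)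
    (r2 : 0 ≤ T.a v2 v0 * c0 + T.a v2 v1 * c1 + T.a v2 v2 * c2 + T.a v2 v3 * c3 + T.a v2 v4 * c4 + T.a v2 v5 * c5 + T.a v2 v6 * c6 + T.a v2 v7 * c7)
    (r3 : 0 ≤ T.a v3 v0 * c0 + T.a v3 v1 * c1 + T.a v3 v2 * c2 + T.a v3 v3 * c3 + T.a v3 v4 * c4 + T.a v3 v5 * c5 + T.a v3 v6 * c6 + T.a v3 v7 * c7)
    (r4 : 0 ≤ T.a v4 v0 * c0 + T.a v4 v1 * c1 + T.a v4 v2 * c2 + T.a v4 v3 * c3 + T.a v4 v4 * c4 + T.a v4 v5 * c5 + T.a v4 v6 * c6 + T.a v4 v7 * c7)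
    (r5 : 0 ≤ T.a v5 v0 * c0 + T.a v5 v1 * c1 + T.a v5 v2 * c2 + T.a v5 v3 * c3 + T.a v5 v4 * c4 + T.a v5 v5 * c5 + T.a v5 v6 * c6 + T.a v5 v7 * c7)
    (r6 : 0 ≤ T.a v6 v0 * c0 + T.a v6 v1 * c1 + T.a v6 v2 * c2 + T.a v6 v3 * c3 + T.a v6 v4 * c4 + T.a v6 v5 * c5 + T.a v6 v6 * c6 + T.a v6 v7 * c7)
    (r7 : 0 ≤ T.a v7 v0 * c0 + T.a v7 v1 * c1 + T.a v7 v2 * c2 + T.a v7 v3 * c3 + T.a v7 v4 * c4 + T.a v7 v5 * c5 + T.a v7 v6 * c6 + T.a v7 v7 * c7) :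
    T.a v0 v0 * c0 + T.a v0 v1 * c1 + T.a v0 v2 * c2 + T.a v0 v3 * c3 + T.a v0 v4 * c4 + T.a v0 v5 * c5 + T.a v0 v6 * c6 + T.a v0 v7 * c7 = 0 ∧
    T.a v1 v0 * c0 + T.a v1 v1 * c1 + T.a v1 v2 * c2 + T.a v1 v3 * c3 + T.a v1 v4 * c4 + T.a v1 v5 * c5 + T.a v1 v6 * c6 + T.a v1 v7 * c7 = 0 ∧
    T.a v2 v0 * c0 + T.a v2 v1 * c1 + T.a v2 v2 * c2 + T.a v2 v3 * c3 + T.a v2 v4 * c4 + T.a v2 v5 * c5 + T.a v2 v6 * c6 + T.a v2 v7 * c7 = 0 ∧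
    T.a v3 v0 * c0 + T.a v3 v1 * c1 + T.a v3 v2 * c2 + T.a v3 v3 * c3 + T.a v3 v4 * c4 + T.a v3 v5 * c5 + T.a v3 v6 * c6 + T.a v3 v7 * c7 = 0 ∧
    T.a v4 v0 * c0 + T.a v4 v1 * c1 + T.a v4 v2 * c2 + T.a v4 v3 * c3 + T.a v4 v4 * c4 + T.a v4 v5 * c5 + T.a v4 v6 * c6 + T.a v4 v7 * c7 = 0 ∧
    T.a v5 v0 * c0 + T.a v5 v1 * c1 + T.a v5 v2 * c2 + T.a v5 v3 * c3 + T.a v5 v4 * c4 + T.a v5 v5 * c5 + T.a v5 v6 * c6 + T.a v5 v7 * c7 = 0 ∧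
    T.a v6 v0 * c0 + T.a v6 v1 * c1 + T.a v6 v2 * c2 + T.a v6 v3 * c3 + T.a v6 v4 * c4 + T.a v6 v5 * c5 + T.a v6 v6 * c6 + T.a v6 v7 * c7 = 0 ∧
    T.a v7 v0 * c0 + T.a v7 v1 * c1 + T.a v7 v2 * c2 + T.a v7 v3 * c3 + T.a v7 v4 * c4 + T.a v7 v5 * c5 + T.a v7 v6 * c6 + T.a v7 v7 * c7 = 0 := by
  have hinj := inj8 v0 v1 v2 v3 v4 v5 v6 v7 h0_1 h0_2 h0_3 h0_4 h0_5 h0_6 h0_7 h1_2 h1_3 h1_4 h1_5 h1_6 h1_7 h2_3 h2_4 h2_5 h2_6 h2_7 h3_4 h3_5 h3_6 h3_7 h4_5 h4_6 h4_7 h5_6 h5_7 h6_7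
  have key := harmonic_fun T ![v0, v1, v2, v3, v4, v5, v6, v7] hinj ![c0, c1, c2, c3, c4, c5, c6, c7] (by
    intro s
    fin_cases s
    · simpa [Fin.sum_univ_eight] using r0
    · simpa [Fin.sum_univ_eight] using r1
    · simpa [Fin.sum_univ_eight] using r2
    · simpa [Fin.sum_univ_eight] using r3
    · simpa [Fin.sum_univ_eight] using r4
    · simpa [Fin.sum_univ_eight] using r5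
    · simpa [Fin.sum_univ_eight] using r6
    · simpa [Fin.sum_univ_eight] using r7
    )
  refine ⟨?_, ?_, ?_, ?_, ?_, ?_, ?_, ?_⟩
  · simpa [Fin.sum_univ_eight] using key (0 : Fin 8)
  · simpa [Fin.sum_univ_eight] using key (1 : Fin 8)
  · simpa [Fin.sum_univ_eight] using key (2 : Fin 8)
  · simpa [Fin.sum_univ_eight] using key (3 : Fin 8)
  · simpa [Fin.sum_univ_eight] using key (4 : Fin 8)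
  · simpa [Fin.sum_univ_eight] using key (5 : Fin 8)
  · simpa [Fin.sum_univ_eight] using key (6 : Fin 8)
  · simpa [Fin.sum_univ_eight] using key (7 : Fin 8)

theorem harm9 (T : NumericalType 9) (v0 v1 v2 v3 v4 v5 v6 v7 v8 : Fin 9) (h0_1 : v0 ≠ v1) (h0_2 : v0 ≠ v2) (h0_3 : v0 ≠ v3) (h0_4 : v0 ≠ v4) (h0_5 : v0 ≠ v5) (h0_6 : v0 ≠ v6) (h0_7 : v0 ≠ v7) (h0_8 : v0 ≠ v8) (h1_2 : v1 ≠ v2) (h1_3 : v1 ≠ v3) (h1_4 : v1 ≠ v4) (h1_5 : v1 ≠ v5) (h1_6 : v1 ≠ v6) (h1_7 : v1 ≠ v7) (h1_8 : v1 ≠ v8) (h2_3 : v2 ≠ v3) (h2_4 : v2 ≠ v4) (h2_5 : v2 ≠ v5) (h2_6 : v2 ≠ v6) (h2_7 : v2 ≠ v7) (h2_8 : v2 ≠ v8) (h3_4 : v3 ≠ v4) (h3_5 : v3 ≠ v5) (h3_6 : v3 ≠ v6) (h3_7 : v3 ≠ v7) (h3_8 : v3 ≠ v8) (h4_5 : v4 ≠ v5) (h4_6 : v4 ≠ v6) (h4_7 : v4 ≠ v7) (h4_8 : v4 ≠ v8) (h5_6 : v5 ≠ v6) (h5_7 :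 v5 ≠ v7) (h5_8 : v5 ≠ v8) (h6_7 : v6 ≠ v7) (h6_8 : v6 ≠ v8) (h7_8 : v7 ≠ v8)
    (c0 c1 c2 c3 c4 c5 c6 c7 c8 : ℤ)
    (r0 : 0 ≤ T.a v0 v0 * c0 + T.a v0 v1 * c1 + T.a v0 v2 * c2 + T.a v0 v3 * c3 + T.a v0 v4 * c4 + T.a v0 v5 * c5 + T.a v0 v6 * c6 + T.a v0 v7 * c7 + T.a v0 v8 * c8)
    (r1 : 0 ≤ T.a v1 v0 * c0 + T.a v1 v1 * c1 + T.a v1 v2 * c2 + T.a v1 v3 * c3 + T.a v1 v4 * c4 + T.a v1 v5 * c5 + T.a v1 v6 * c6 + T.a v1 v7 * c7 + T.a v1 v8 * c8)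
    (r2 : 0 ≤ T.a v2 v0 * c0 + T.a v2 v1 * c1 + T.a v2 v2 * c2 + T.a v2 v3 * c3 + T.a v2 v4 * c4 + T.a v2 v5 * c5 + T.a v2 v6 * c6 + T.a v2 v7 * c7 + T.a v2 v8 * c8)
    (r3 : 0 ≤ T.a v3 v0 * c0 + T.a v3 v1 * c1 + T.a v3 v2 * c2 + T.a v3 v3 * c3 + T.a v3 v4 * c4 + T.a v3 v5 * c5 + T.a v3 v6 * c6 + T.a v3 v7 * c7 + T.a v3 v8 * c8)
    (r4 : 0 ≤ T.a v4 v0 * c0 + T.a v4 v1 * c1 + T.a v4 v2 * c2 + T.a v4 v3 * c3 + T.a v4 v4 * c4 + T.a v4 v5 * c5 + T.a v4 v6 * c6 + T.a v4 v7 * c7 + T.a v4 v8 * c8)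
    (r5 : 0 ≤ T.a v5 v0 * c0 + T.a v5 v1 * c1 + T.a v5 v2 * c2 + T.a v5 v3 * c3 + T.a v5 v4 * c4 + T.a v5 v5 * c5 + T.a v5 v6 * c6 + T.a v5 v7 * c7 + T.a v5 v8 * c8)
    (r6 : 0 ≤ T.a v6 v0 * c0 + T.a v6 v1 * c1 + T.a v6 v2 * c2 + T.a v6 v3 * c3 + T.a v6 v4 * c4 + T.a v6 v5 * c5 + T.a v6 v6 * c6 + T.a v6 v7 * c7 + T.a v6 v8 * c8)
    (r7 : 0 ≤ T.a v7 v0 * c0 + T.a v7 v1 * c1 + T.a v7 v2 * c2 + T.a v7 v3 * c3 + T.a v7 v4 * c4 + T.a v7 v5 * c5 + T.a v7 v6 * c6 + T.a v7 v7 * c7 + T.a v7 v8 * c8)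
    (r8 : 0 ≤ T.a v8 v0 * c0 + T.a v8 v1 * c1 + T.a v8 v2 * c2 + T.a v8 v3 * c3 + T.a v8 v4 * c4 + T.a v8 v5 * c5 + T.a v8 v6 * c6 + T.a v8 v7 * c7 + T.a v8 v8 * c8) :
    T.a v0 v0 * c0 + T.a v0 v1 * c1 + T.a v0 v2 * c2 + T.a v0 v3 * c3 + T.a v0 v4 * c4 + T.a v0 v5 * c5 + T.a v0 v6 * c6 + T.a v0 v7 * c7 + T.a v0 v8 * c8 = 0 ∧
    T.a v1 v0 * c0 + T.a v1 v1 * c1 + T.a v1 v2 * c2 + T.a v1 v3 * c3 + T.a v1 v4 * c4 + T.a v1 v5 * c5 + T.a v1 v6 * c6 + T.a v1 v7 * c7 + T.a v1 v8 * c8 = 0 ∧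
    T.a v2 v0 * c0 + T.a v2 v1 * c1 + T.a v2 v2 * c2 + T.a v2 v3 * c3 + T.a v2 v4 * c4 + T.a v2 v5 * c5 + T.a v2 v6 * c6 + T.a v2 v7 * c7 + T.a v2 v8 * c8 = 0 ∧
    T.a v3 v0 * c0 + T.a v3 v1 * c1 + T.a v3 v2 * c2 + T.a v3 v3 * c3 + T.a v3 v4 * c4 + T.a v3 v5 * c5 + T.a v3 v6 * c6 + T.a v3 v7 * c7 + T.a v3 v8 * c8 = 0 ∧
    T.a v4 v0 * c0 + T.a v4 v1 * c1 + T.a v4 v2 * c2 + T.a v4 v3 * c3 + T.a v4 v4 * c4 + T.a v4 v5 * c5 + T.a v4 v6 * c6 + T.a v4 v7 * c7 + T.a v4 v8 * c8 = 0 ∧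
    T.a v5 v0 * c0 + T.a v5 v1 * c1 + T.a v5 v2 * c2 + T.a v5 v3 * c3 + T.a v5 v4 * c4 + T.a v5 v5 * c5 + T.a v5 v6 * c6 + T.a v5 v7 * c7 + T.a v5 v8 * c8 = 0 ∧
    T.a v6 v0 * c0 + T.a v6 v1 * c1 + T.a v6 v2 * c2 + T.a v6 v3 * c3 + T.a v6 v4 * c4 + T.a v6 v5 * c5 + T.a v6 v6 * c6 + T.a v6 v7 * c7 + T.a v6 v8 * c8 = 0 ∧
    T.a v7 v0 * c0 + T.a v7 v1 * c1 + T.a v7 v2 * c2 + T.a v7 v3 * c3 + T.a v7 v4 * c4 + T.a v7 v5 * c5 + T.a v7 v6 * c6 + T.a v7 v7 * c7 + T.a v7 v8 * c8 = 0 ∧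
    T.a v8 v0 * c0 + T.a v8 v1 * c1 + T.a v8 v2 * c2 + T.a v8 v3 * c3 + T.a v8 v4 * c4 + T.a v8 v5 * c5 + T.a v8 v6 * c6 + T.a v8 v7 * c7 + T.a v8 v8 * c8 = 0 := by
  have hinj := inj9 v0 v1 v2 v3 v4 v5 v6 v7 v8 h0_1 h0_2 h0_3 h0_4 h0_5 h0_6 h0_7 h0_8 h1_2 h1_3 h1_4 h1_5 h1_6 h1_7 h1_8 h2_3 h2_4 h2_5 h2_6 h2_7 h2_8 h3_4 h3_5 h3_6 h3_7 h3_8 h4_5 h4_6 h4_7 h4_8 h5_6 h5_7 h5_8 h6_7 h6_8 h7_8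
  have key := harmonic_fun T ![v0, v1, v2, v3, v4, v5, v6, v7, v8] hinj ![c0, c1, c2, c3, c4, c5, c6, c7, c8] (by
    intro s
    fin_cases s
    · simpa [sum_univ_nine'] using r0
    · simpa [sum_univ_nine'] using r1
    · simpa [sum_univ_nine'] using r2
    · simpa [sum_univ_nine'] using r3
    · simpa [sum_univ_nine'] using r4
    · simpa [sum_univ_nine'] using r5
    · simpa [sum_univ_nine'] using r6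
    · simpa [sum_univ_nine'] using r7
    · simpa [sum_univ_nine'] using r8
    )
  refine ⟨?_, ?_, ?_, ?_, ?_, ?_, ?_, ?_, ?_⟩
  · simpa [sum_univ_nine'] using key (0 : Fin 9)
  · simpa [sum_univ_nine'] using key (1 : Fin 9)
  · simpa [sum_univ_nine'] using key (2 : Fin 9)
  · simpa [sum_univ_nine'] using key (3 : Fin 9)
  · simpa [sum_univ_nine'] using key (4 : Fin 9)
  · simpa [sum_univ_nine'] using key (5 : Fin 9)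
  · simpa [sum_univ_nine'] using key (6 : Fin 9)
  · simpa [sum_univ_nine'] using key (7 : Fin 9)
  · simpa [sum_univ_nine'] using key (8 : Fin 9)

end Groth.Agent.Lib.Helper39.NT
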