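import Mathlib

set_option autoImplicit false
universe u

namespace Groth.Agent.Lib.Helper39.ARHomE

open Submodule

variable {B : Type u} [CommRing B]

/-- the `J^c`-torsion submodule -/
def tors (J : Ideal B) (c : ℕ) (N : Type u) [AddCommGroup N] [Module B N] : Submodule B N where
  carrier := {y | ∀ a ∈ J ^ c, a • y = 0}
  add_mem' := by
    intro x y hx hy a ha
    rw [smul_add, hx a ha, hy a ha, add_zero]
  zero_mem' := by intro a _; exact smul_zero a
  smul_mem' := by
    intro r x hx a ha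
    rw [smul_comm, hx a ha, smul_zero]

theorem mem_tors {J : Ideal B} {c : ℕ} {N : Type u} [AddCommGroup N] [Module B N] {y : N} :
    y ∈ tors J c N ↔ ∀ a ∈ J ^ c, a • y = 0 := Iff.rfl

theorem pow_smul_tors (J : Ideal B) (c : ℕ) (N : Type u) [AddCommGroup N] [Module B N] :
    J ^ c • tors J c N = ⊥ := by
  rw [eq_bot_iff, Submodule.smul_le]
  intro a ha y hy
  rw [Submodule.mem_bot]
  exact hy a ha

/-- Artin–Rees: high powers of `J` meet the `J^c`-torsion trivially. -/
theorem exists_inf_eq_bot [IsNoetherianRing B] (J : Ideal B) (c : ℕ) (N : Type u)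
    [AddCommGroup N] [Module B N] [Module.Finite B N] :
    ∃ n₀ : ℕ, ∀ n ≥ n₀, J ^ n • (⊤ : Submodule B N) ⊓ tors J c N = ⊥ := by
  obtain ⟨k, hk⟩ := Ideal.exists_pow_inf_eq_pow_smul J (tors J c N)
  refine ⟨k + c, fun n hn => ?_⟩
  rw [hk n (by omega), eq_bot_iff]
  calc J ^ (n - k) • (J ^ k • ⊤ ⊓ tors J c N) ≤ J ^ c • tors J c N :=
        Submodule.smul_mono (Ideal.pow_le_pow_right (by omega)) inf_le_right
    _ = ⊥ := pow_smul_tors J c N

/-- The statement [U] of the call. -/
theorem eq_zero_of_killed_of_forall_mem [IsNoetherianRing B] (J : Ideal B) {N : Type u}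
    [AddCommGroup N] [Module B N] [Module.Finite B N] (c : ℕ) (y : N)
    (hy : ∀ a ∈ J ^ c, a • y = 0)
    (hy' : ∀ n : ℕ, y ∈ J ^ (n + 1) • (⊤ : Submodule B N)) : y = 0 := by
  obtain ⟨n₀, h⟩ := exists_inf_eq_bot J c N
  have : y ∈ J ^ (n₀ + 1) • (⊤ : Submodule B N) ⊓ tors J c N := ⟨hy' n₀, hy⟩
  rw [h (n₀ + 1) (by omega)] at this
  exact this

theorem map_eq_zero_of_mem (J : Ideal B) {N Q : Type u} [AddCommGroup N] [Module B N]
    [AddCommGroup Q] [Module B Q] (p : N →ₗ[B] Q) (s : ℕ)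
    (hkill : ∀ a ∈ J ^ s, ∀ q : Q, a • q = 0) {y : N}
    (hy : y ∈ J ^ s • (⊤ : Submodule B N)) : p y = 0 := by
  refine Submodule.smul_induction_on hy ?_ ?_
  · intro a ha x _
    rw [map_smul]; exact hkill a ha _
  · intro x y hx hy
    rw [map_add, hx, hy, add_zero]

theorem pi_mem_smul_top (I : Ideal B) {N : Type u} [AddCommGroup N] [Module B N] {r : ℕ}
    (v : Fin r → N) (hv : ∀ j, v j ∈ I • (⊤ : Submodule B N)) :
    v ∈ I • (⊤ : Submodule B (Fin r → N)) := by
  have hsum : v = ∑ j, LinearMap.single B (fun _ : Fin r => N) j (v j) := by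
    ext i
    simp [Finset.sum_apply, Pi.single_apply]
  rw [hsum]
  refine Submodule.sum_mem _ fun j _ => ?_
  have h1 : LinearMap.single B (fun _ : Fin r => N) j (v j) ∈
      Submodule.map (LinearMap.single B (fun _ : Fin r => N) j) (I • ⊤) :=
    Submodule.mem_map_of_mem (hv j)
  rw [Submodule.map_smul''] at h1
  exact Submodule.smul_mono le_rfl le_top h1

theorem exists_lift {B : Type u} [CommRing B] [IsNoetherianRing B] (J : Ideal B) {M N : Type u} [AddCommGroup M] [Module B M] [AddCommGroup N] [Module B N] [Module.Finite B N] (Q : ℕ → Type u) [∀ n, AddCommGroup (Q n)] [∀ n, Module B (Q n)] (p : ∀ n, N →ₗ[B] Q n) (hp : ∀ n, Function.Surjective (p n)) (hker : ∀ (n : ℕ) (y : N), p n y = 0 → y ∈ J ^ (n + 1) • (⊤ : Submodule B N)) (hkill : ∀ (n : ℕ), ∀ a ∈ J ^ (n + 1), ∀ q : Q n, a • q = 0) (t : ∀ n, Q (n + 1) →ₗ[B] Q n) (htp : ∀ n (y : N), t n (p (n + 1) y) = p n y) (b : ∀ n, M →ₗ[B] Q n) (htb : ∀ n (m : M), t n (b (n + 1) m) = b n m) (c : ℕ) (hc : (∀ a ∈ J ^ c,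 ∀ m : M, a • m = 0) ∨ (∀ a ∈ J ^ c, ∀ y : N, a • y = 0)) : ∃ φ : M →ₗ[B] N, ∀ (n : ℕ) (m : M), p n (φ m) = b n m := by
  classical
  have hK : ∀ (n s : ℕ) (y : N), n + 1 ≤ s → y ∈ J ^ s • (⊤ : Submodule B N) → p n y = 0 := by
    intro n s y hs hy
    have hy' : y ∈ J ^ (n + 1) • (⊤ : Submodule B N) :=
      Submodule.smul_mono_left (Ideal.pow_le_pow_right hs) hy
    exact map_eq_zero_of_mem J (p n) (n + 1) (hkill n) hy'
  have down : ∀ (d n : ℕ) (y : N) (m : M), p (n + d) y = b (n + d) m → p n y = b n m := by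
    intro d
    induction d with
    | zero => intro n y m h; simpa using h
    | succ d ih =>
      intro n y m h
      apply ih
      have h' : p (n + d + 1) y = b (n + d + 1) m := h
      rw [← htp (n + d) y, ← htb (n + d) m, h']
  obtain ⟨n₀, hn₀⟩ := exists_inf_eq_bot J c N
  have hinj : ∀ n ≥ n₀, ∀ τ ∈ tors J c N, p n τ = 0 → τ = 0 := by
    intro n hn τ hτ h0
    have : τ ∈ J ^ (n + 1) • (⊤ : Submodule B N) ⊓ tors J c N := ⟨hker n τ h0, hτ⟩
    rw [hn₀ (n + 1) (by omega)] at this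
    exact this
  have hex : ∀ (n : ℕ) (m : M), ∃ τ ∈ tors J c N, p n τ = b n m := by
    rcases hc with hM | hN
    · obtain ⟨r, a, ha⟩ :=
        Submodule.fg_iff_exists_fin_generating_family.mp (IsNoetherian.noetherian (J ^ c))
      let Φ : N →ₗ[B] (Fin r → N) := LinearMap.pi fun j => (a j) • LinearMap.id
      obtain ⟨k', hk'⟩ := Ideal.exists_pow_inf_eq_pow_smul J (LinearMap.range Φ)
      intro n m
      obtain ⟨y, hy⟩ := hp (n + k') (b (n + k') m)
      have hay : ∀ a' ∈ J ^ c, a' • y ∈ J ^ (n + k' + 1) • (⊤ : Submodule B N) := by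
        intro a' ha'
        apply hker (n + k')
        rw [map_smul, hy, ← map_smul, hM a' ha' m, map_zero]
      have haj : ∀ j, a j ∈ J ^ c := fun j => by
        rw [← ha]; exact Submodule.subset_span ⟨j, rfl⟩
      have hΦy : Φ y ∈ J ^ (n + k' + 1) • (⊤ : Submodule B (Fin r → N)) ⊓ LinearMap.range Φ := by
        refine ⟨pi_mem_smul_top _ _ fun j => ?_, ⟨y, rfl⟩⟩
        exact hay (a j) (haj j)
      rw [hk' (n + k' + 1) (by omega)] at hΦy
      have hΦy' : Φ y ∈ J ^ (n + 1) • LinearMap.range Φ := by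
        have e1 : n + k' + 1 - k' = n + 1 := by omega
        rw [e1] at hΦy
        exact Submodule.smul_mono le_rfl inf_le_right hΦy
      rw [LinearMap.range_eq_map, ← Submodule.map_smul''] at hΦy'
      obtain ⟨e, he, hee⟩ := hΦy'
      refine ⟨y - e, ?_, ?_⟩
      · intro a' ha'
        have hann : J ^ c ≤ LinearMap.ker (LinearMap.toSpanSingleton B N (y - e)) := by
          rw [← ha, Submodule.span_le]
          rintro _ ⟨j, rfl⟩
          simp only [SetLike.mem_coe, LinearMap.mem_ker, LinearMap.toSpanSingleton_apply]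
          have h3 : a j • e = a j • y := congrFun hee j
          rw [smul_sub, h3, sub_self]
        have h4 := hann ha'
        simpa [LinearMap.mem_ker, LinearMap.toSpanSingleton_apply] using h4
      · rw [map_sub, hK n (n + 1) e le_rfl he, sub_zero]
        exact down k' n y m hy
    · intro n m
      obtain ⟨y, hy⟩ := hp n (b n m)
      exact ⟨y, fun a ha => hN a ha y, hy⟩
  choose f hfT hf using fun m => hex n₀ m
  have huniq : ∀ (m : M) (τ : N), τ ∈ tors J c N → p n₀ τ = b n₀ m → τ = f m := by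
    intro m τ hτ h
    have h1 : τ - f m ∈ tors J c N := Submodule.sub_mem _ hτ (hfT m)
    have h2 : p n₀ (τ - f m) = 0 := by rw [map_sub, h, hf m, sub_self]
    exact sub_eq_zero.mp (hinj n₀ le_rfl _ h1 h2)
  let φ : M →ₗ[B] N :=
    { toFun := f
      map_add' := fun m m' => by
        symm
        apply huniq
        · exact Submodule.add_mem _ (hfT m) (hfT m')
        · rw [map_add, map_add, hf, hf]
      map_smul' := fun r m => by
        symm
        apply huniq
        · exact Submodule.smul_mem _ r (hfT m)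
        · rw [map_smul, map_smul, hf]
          rfl }
  refine ⟨φ, fun n m => ?_⟩
  show p n (f m) = b n m
  rcases le_total n n₀ with h | h
  · obtain ⟨d, rfl⟩ := Nat.exists_eq_add_of_le h
    exact down d n (f m) m (hf m)
  · obtain ⟨d, rfl⟩ := Nat.exists_eq_add_of_le h
    obtain ⟨τ, hτT, hτ⟩ := hex (n₀ + d) m
    have h5 : τ = f m := huniq m τ hτT (down d n₀ τ m hτ)
    rw [← h5]; exact hτ

end Groth.Agent.Lib.Helper39.ARHomE
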