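import Groth.Agent.Lib.Helper39.ARHomE

set_option autoImplicit false
universe u

namespace Groth.Agent.Lib.Helper39.ARHomU

theorem eq_zero_of_killed_of_forall_mem {B : Type u} [CommRing B] [IsNoetherianRing B] (J : Ideal B) {N : Type u} [AddCommGroup N] [Module B N] [Module.Finite B N] (c : ℕ) (y : N) (hy : ∀ a ∈ J ^ c, a • y = 0) (hy' : ∀ n : ℕ, y ∈ J ^ (n + 1) • (⊤ : Submodule B N)) : y = 0 :=
  Groth.Agent.Lib.Helper39.ARHomE.eq_zero_of_killed_of_forall_mem J c y hy hy'

end Groth.Agent.Lib.Helper39.ARHomU
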