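import Mathlib

set_option autoImplicit false
universe u v

namespace Groth.Agent.Lib.Helper39.AdicLift

variable {A : Type u} {B : Type v} [CommRing A] [CommRing B]

theorem smodEq_pow_iff {R : Type*} [CommRing R] (I : Ideal R) (n : ℕ) (x y : R) :
    x ≡ y [SMOD (I ^ n • ⊤ : Submodule R R)] ↔ x - y ∈ I ^ n := by
  rw [SModEq.sub_mem]
  change x - y ∈ (I ^ n • ⊤ : Ideal R) ↔ _
  rw [smul_eq_mul, Ideal.mul_top]

theorem map_pow_le (φ : A →+* B) {I : Ideal A} {J : Ideal B} (hIJ : I.map φ ≤ J) (n : ℕ) {a : A}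
    (ha : a ∈ I ^ n) : φ a ∈ J ^ n := by
  have h1 : φ a ∈ (I ^ n).map φ := Ideal.mem_map_of_mem φ ha
  rw [Ideal.map_pow] at h1
  exact Ideal.pow_right_mono hIJ n h1

theorem lift_pow (φ : A →+* B) (I : Ideal A) (J : Ideal B) (hIJ : I.map φ ≤ J)
    [IsPrecomplete I A] [IsHausdorff J B]
    (hstep : ∀ n, ∀ b ∈ J ^ n, ∃ a ∈ I ^ n, φ a - b ∈ J ^ (n + 1))
    (n : ℕ) (b : B) (hb : b ∈ J ^ n) : ∃ a ∈ I ^ n, φ a = b := by
  choose! c hc1 hc2 using hstep
  let s : ℕ → A := fun k => Nat.rec (0 : A) (fun k sk => sk + c (n + k) (b - φ sk)) k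
  have hs0 : s 0 = 0 := rfl
  have hsS : ∀ k, s (k + 1) = s k + c (n + k) (b - φ (s k)) := fun k => rfl
  have hinv : ∀ k, b - φ (s k) ∈ J ^ (n + k) := by
    intro k
    induction k with
    | zero => rw [hs0, map_zero, sub_zero]; exact hb
    | succ k ih =>
      have h2 := hc2 (n + k) _ ih
      have : b - φ (s (k + 1)) = -(φ (c (n + k) (b - φ (s k))) - (b - φ (s k))) := by
        rw [hsS, map_add]; ring
      rw [this]
      exact (Ideal.neg_mem_iff _).mpr h2
  have hinc : ∀ k, s (k + 1) - s k ∈ I ^ (n + k) := by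
    intro k
    rw [hsS, add_sub_cancel_left]
    exact hc1 _ _ (hinv k)
  have hdiff : ∀ m k, m ≤ k → s k - s m ∈ I ^ (n + m) := by
    intro m k hmk
    induction k, hmk using Nat.le_induction with
    | base => rw [sub_self]; exact Ideal.zero_mem _
    | succ k hmk ih =>
      have : s (k + 1) - s m = (s (k + 1) - s k) + (s k - s m) := by ring
      rw [this]
      exact Ideal.add_mem _ (Ideal.pow_le_pow_right (by omega) (hinc k)) ih
  have hsn : ∀ k, s k ∈ I ^ n := by
    intro k
    have := hdiff 0 k (Nat.zero_le _)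
    rwa [hs0, sub_zero, add_zero] at this
  obtain ⟨L, hL⟩ := IsPrecomplete.prec' (I := I) s (by
    intro m k hmk
    rw [smodEq_pow_iff]
    have := hdiff m k hmk
    rw [← Ideal.neg_mem_iff, neg_sub] at this
    exact Ideal.pow_le_pow_right (by omega) this)
  simp only [smodEq_pow_iff] at hL
  refine ⟨L, ?_, ?_⟩
  · have h1 := hL n
    have : L = s n - (s n - L) := by ring
    rw [this]
    exact Ideal.sub_mem _ (hsn n) h1
  · rw [← sub_eq_zero]
    apply IsHausdorff.haus (I := J) inferInstance
    intro k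
    rw [smodEq_pow_iff, sub_zero]
    have : φ L - b = -(φ (s k - L)) - (b - φ (s k)) := by rw [map_sub]; ring
    rw [this]
    refine Ideal.sub_mem _ ((Ideal.neg_mem_iff _).mpr (map_pow_le φ hIJ k (hL k))) ?_
    exact Ideal.pow_le_pow_right (by omega) (hinv k)

theorem surjective_and_strict_and_complete (φ : A →+* B) (I : Ideal A) (J : Ideal B)
    (hIJ : I.map φ ≤ J) [IsPrecomplete I A] [IsHausdorff J B]
    (hstep : ∀ n, ∀ b ∈ J ^ n, ∃ a ∈ I ^ n, φ a - b ∈ J ^ (n + 1)) :
    Function.Surjective φ ∧ I.map φ = J ∧ IsAdicComplete J B := by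
  have hl := lift_pow φ I J hIJ hstep
  refine ⟨?_, ?_, ?_⟩
  · intro b
    obtain ⟨a, -, ha⟩ := hl 0 b (by rw [pow_zero, Ideal.one_eq_top]; trivial)
    exact ⟨a, ha⟩
  · apply le_antisymm hIJ
    intro b hb
    obtain ⟨a, ha1, ha⟩ := hl 1 b (by rwa [pow_one])
    rw [pow_one] at ha1
    rw [← ha]
    exact Ideal.mem_map_of_mem φ ha1
  · have : IsPrecomplete J B := by
      constructor
      intro f hf
      simp only [smodEq_pow_iff] at hf
      choose! c hc1 hc2 using hl
      let g : ℕ → A := fun k => Nat.rec (c 0 (f 0)) (fun k gk => gk + c k (f (k + 1) - f k)) k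
      have hg0 : g 0 = c 0 (f 0) := rfl
      have hgS : ∀ k, g (k + 1) = g k + c k (f (k + 1) - f k) := fun k => rfl
      have hfk : ∀ k, f (k + 1) - f k ∈ J ^ k := by
        intro k
        have := hf (Nat.le_succ k)
        rw [← Ideal.neg_mem_iff, neg_sub] at this
        exact this
      have hφg : ∀ k, φ (g k) = f k := by
        intro k
        induction k with
        | zero => rw [hg0]; exact hc2 0 _ (by rw [pow_zero, Ideal.one_eq_top]; trivial)
        | succ k ih =>
          rw [hgS, map_add, ih, hc2 k _ (hfk k)]; ring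
      have hinc : ∀ k, g (k + 1) - g k ∈ I ^ k := by
        intro k
        rw [hgS, add_sub_cancel_left]
        exact hc1 _ _ (hfk k)
      have hdiff : ∀ m k, m ≤ k → g k - g m ∈ I ^ m := by
        intro m k hmk
        induction k, hmk using Nat.le_induction with
        | base => rw [sub_self]; exact Ideal.zero_mem _
        | succ k hmk ih =>
          have : g (k + 1) - g m = (g (k + 1) - g k) + (g k - g m) := by ring
          rw [this]
          exact Ideal.add_mem _ (Ideal.pow_le_pow_right hmk (hinc k)) ih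
      obtain ⟨L, hL⟩ := IsPrecomplete.prec' (I := I) g (by
        intro m k hmk
        rw [smodEq_pow_iff]
        have := hdiff m k hmk
        rw [← Ideal.neg_mem_iff, neg_sub] at this
        exact this)
      simp only [smodEq_pow_iff] at hL
      refine ⟨φ L, fun k => ?_⟩
      rw [smodEq_pow_iff, ← hφg k, ← map_sub]
      exact map_pow_le φ hIJ k (hL k)
    exact { }

end Groth.Agent.Lib.Helper39.AdicLift
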