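import Mathlib

/-!
Devissage of finite-dimensional modules over a finite-dimensional algebra with a complete
"upper triangular" system of orthogonal idempotents (sub-lemma MOD for S6770, helper13).
-/

set_option autoImplicit false
set_option linter.style.haveILetI false
set_option linter.unusedSimpArgs false
universe u
open CategoryTheory CategoryTheory.Limits

namespace Groth.Agent.Lib.Helper39.BeilMOD

section SES
variable {A : Type u} [Ring A]

/-- the short exact sequence `0 → S → X → X/S → 0` -/
lemma shortExact_sub (X : Type u) [AddCommGroup X] [Module A X] (S : Submodule A X) :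
    (ShortComplex.mk (ModuleCat.ofHom S.subtype) (ModuleCat.ofHom S.mkQ)
      (by ext x; simp)).ShortExact := by
  have hex : (ShortComplex.mk (ModuleCat.ofHom S.subtype) (ModuleCat.ofHom S.mkQ)
      (by ext x; simp)).Exact := by
    rw [ShortComplex.moduleCat_exact_iff_range_eq_ker]
    simp
  exact
    { exact := hex
      mono_f := (ModuleCat.mono_iff_injective _).2 S.subtype_injective
      epi_g := (ModuleCat.epi_iff_surjective _).2 S.mkQ_surjective }

/-- the short exact sequence `0 → ker φ → L → range φ → 0` -/
lemma shortExact_ker_range {L Y : Type u} [AddCommGroup L] [Module A L] [AddCommGroup Y]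
    [Module A Y] (φ : L →ₗ[A] Y) :
    (ShortComplex.mk (ModuleCat.ofHom (LinearMap.ker φ).subtype)
      (ModuleCat.ofHom φ.rangeRestrict)
      (by ext x; simp)).ShortExact := by
  have hex : (ShortComplex.mk (ModuleCat.ofHom (LinearMap.ker φ).subtype)
      (ModuleCat.ofHom φ.rangeRestrict)
      (by ext x; simp)).Exact := by
    rw [ShortComplex.moduleCat_exact_iff_range_eq_ker]
    simp [LinearMap.ker_rangeRestrict]
  exact
    { exact := hex
      mono_f := (ModuleCat.mono_iff_injective _).2 (LinearMap.ker φ).subtype_injective
      epi_g := (ModuleCat.epi_iff_surjective _).2 φ.surjective_rangeRestrict }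

end SES

theorem prop_of_finite {k : Type u} [Field k] {A : Type u} [Ring A] [Algebra k A]
    [Module.Finite k A] (N : ℕ) (e : Fin (N + 1) → A) (he_idem : ∀ i, e i * e i = e i)
    (he_orth : ∀ i j, i ≠ j → e i * e j = 0) (he_sum : ∑ i, e i = 1)
    (he_tri : ∀ i j, j < i → ∀ a : A, e i * a * e j = 0)
    (he_diag : ∀ i (a : A), ∃ c : k, e i * a * e i = c • e i)
    (P : ObjectProperty (ModuleCat.{u} A))
    (hiso : ∀ M M' : ModuleCat.{u} A, (M ≅ M') → P M → P M')
    (hzero : ∀ M : ModuleCat.{u} A, IsZero M → P M)
    (hext : ∀ S : ShortComplex (ModuleCat.{u} A), S.ShortExact → P S.X₁ → P S.X₃ → P S.X₂)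
    (hcok : ∀ S : ShortComplex (ModuleCat.{u} A), S.ShortExact → P S.X₁ → P S.X₂ → P S.X₃)
    (hproj : ∀ i, P (ModuleCat.of A (Submodule.span A ({e i} : Set A))))
    (M : ModuleCat.{u} A) (hM : Module.Finite k (RestrictScalars k A M)) : P M := by
  classical
  haveI hNk : IsNoetherian k A := isNoetherian_of_isNoetherianRing_of_finite k A
  haveI hNA : IsNoetherianRing A := isNoetherian_of_tower k hNk
  have hsub0 : ∀ (X : Type u) [AddCommGroup X] [Module A X], (∀ x : X, x = 0) →
      P (ModuleCat.of A X) := by
    intro X _ _ h
    apply hzero
    haveI : Subsingleton X := ⟨fun x y => by rw [h x, h y]⟩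
    exact ModuleCat.isZero_of_subsingleton _
  have claim : ∀ j : ℕ, j ≤ N + 1 → ∀ (X : Type u) [AddCommGroup X] [Module A X]
      [Module.Finite A X], (∀ i : Fin (N + 1), j ≤ i.val → ∀ x : X, e i • x = 0) →
      P (ModuleCat.of A X) := by
    intro j
    induction j with
    | zero =>
      intro _ X _ _ _ h
      apply hsub0
      intro z
      rw [← one_smul A z, ← he_sum, Finset.sum_smul]
      exact Finset.sum_eq_zero (fun i _ => h i (Nat.zero_le _) z)
    | succ j ih =>
      intro hj X _ _ _ h
      have hjN : j < N + 1 := hj
      have ihj := ih (by omega)
      let jj : Fin (N + 1) := ⟨j, hjN⟩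
      -- the generator-count induction for modules on which `e jj` acts as the identity
      have claim' : ∀ r : ℕ, ∀ (Y : Type u) [AddCommGroup Y] [Module A Y],
          (∀ y : Y, e jj • y = y) → (∀ (a : A) (y : Y), a • y = (e jj * a * e jj) • y) →
          (∃ s : Fin r → Y, Submodule.span A (Set.range s) = ⊤) → P (ModuleCat.of A Y) := by
        intro r
        induction r with
        | zero =>
          intro Y _ _ _ _ hs
          obtain ⟨s, hs⟩ := hs
          apply hsub0
          intro y
          have hy : y ∈ Submodule.span A (Set.range s) := hs ▸ Submodule.mem_top
          have : Set.range s = ∅ := Set.range_eq_empty s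
          rw [this, Submodule.span_empty] at hy
          exact hy
        | succ r ihr =>
          intro Y _ _ p2 p3 hs
          obtain ⟨s, hs⟩ := hs
          let q : Y := s 0
          let L : Submodule A A := Submodule.span A ({e jj} : Set A)
          let φ : L →ₗ[A] Y := (LinearMap.toSpanSingleton A Y q).comp L.subtype
          have hφ : ∀ x : L, φ x = (x : A) • q := fun x => rfl
          let X₁ : Submodule A Y := LinearMap.range φ
          let R : Submodule A L := LinearMap.ker φ
          -- `P X₁`
          have hPX₁ : P (ModuleCat.of A X₁) := by
            by_cases hq : q = 0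
            · apply hsub0
              rintro ⟨y, x, rfl⟩
              apply Subtype.ext
              change φ x = 0
              rw [hφ, hq, smul_zero]
            · have hPL : P (ModuleCat.of A L) := hproj jj
              have hPR : P (ModuleCat.of A R) := by
                haveI : Module.Finite A R :=
                  Module.Finite.iff_fg.2 (IsNoetherian.noetherian R)
                apply ihj R
                intro i hi x
                apply Subtype.ext
                apply Subtype.ext
                change e i * ((x : L) : A) = 0
                obtain ⟨a, ha⟩ := Submodule.mem_span_singleton.1 (x : L).2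
                have hker : ((x : L) : A) • q = 0 := by
                  have := x.2
                  rw [LinearMap.mem_ker, hφ] at this
                  exact this
                rw [← ha, smul_eq_mul, ← mul_assoc]
                rcases Nat.lt_or_ge j i.val with hlt | hge
                · exact he_tri i jj (Fin.mk_lt_of_lt_val hlt) a
                · have hij : i = jj := Fin.ext (le_antisymm hge hi)
                  subst hij
                  obtain ⟨c, hc⟩ := he_diag jj a
                  rw [hc]
                  by_cases hc0 : c = 0
                  · rw [hc0, zero_smul]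
                  · exfalso
                    apply hq
                    have h1 : (c • e jj) • q = 0 := by
                      rw [← hc, mul_assoc, mul_smul, ← smul_eq_mul, ha, hker, smul_zero]
                    have h2 : (c • e jj) • q = algebraMap k A c • q := by
                      rw [Algebra.smul_def, mul_smul, p2]
                    rw [h2] at h1
                    have h3 : algebraMap k A c⁻¹ • algebraMap k A c • q = q := by
                      rw [← mul_smul, ← map_mul, inv_mul_cancel₀ hc0, map_one, one_smul]
                    rw [← h3, h1, smul_zero]
              exact hcok _ (shortExact_ker_range φ) hPR hPL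
          -- `P (Y ⧸ X₁)`
          have hq_mem : q ∈ X₁ := by
            refine ⟨⟨e jj, Submodule.mem_span_singleton_self _⟩, ?_⟩
            rw [hφ]
            exact p2 q
          have hPQ : P (ModuleCat.of A (Y ⧸ X₁)) := by
            apply ihr (Y ⧸ X₁)
            · intro y
              obtain ⟨y, rfl⟩ := X₁.mkQ_surjective y
              rw [← map_smul, p2]
            · intro a y
              obtain ⟨y, rfl⟩ := X₁.mkQ_surjective y
              rw [← map_smul, ← map_smul, ← p3]
            · refine ⟨fun i => X₁.mkQ (s i.succ), ?_⟩
              rw [eq_top_iff]
              rintro y -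
              obtain ⟨y, rfl⟩ := X₁.mkQ_surjective y
              have hy : y ∈ Submodule.span A (Set.range s) := hs ▸ Submodule.mem_top
              induction hy using Submodule.span_induction with
              | mem x hx =>
                obtain ⟨i, rfl⟩ := hx
                refine Fin.cases ?_ (fun i' => ?_) i
                · have : X₁.mkQ (s 0) = 0 := by
                    rw [Submodule.mkQ_apply, Submodule.Quotient.mk_eq_zero]
                    exact hq_mem
                  rw [this]
                  exact Submodule.zero_mem _
                · exact Submodule.subset_span ⟨i', rfl⟩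
              | zero => rw [map_zero]; exact Submodule.zero_mem _
              | add x y _ _ hx hy => rw [map_add]; exact Submodule.add_mem _ hx hy
              | smul a x _ hx => rw [map_smul]; exact Submodule.smul_mem _ _ hx
          exact hext _ (shortExact_sub Y X₁) hPX₁ hPQ
      -- the submodule killed by `e jj`
      let M' : Submodule A X :=
        { carrier := {x | e jj • x = 0}
          add_mem' := fun {x y} hx hy => by
            change e jj • (x + y) = 0
            rw [smul_add, hx, hy, add_zero]
          zero_mem' := smul_zero _
          smul_mem' := fun a x hx => by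
            change e jj • a • x = 0
            have hx' : e jj • x = 0 := hx
            rw [← mul_smul, ← mul_one (e jj * a), ← he_sum, Finset.mul_sum, Finset.sum_smul]
            apply Finset.sum_eq_zero
            intro l _
            rcases lt_trichotomy l.val j with hlt | heq | hgt
            · rw [he_tri jj l (Fin.mk_lt_of_lt_val hlt |> fun h => by exact h) a, zero_smul]
            · have : l = jj := Fin.ext heq
              rw [this, mul_smul, hx', smul_zero]
            · rw [mul_smul, h l hgt x, smul_zero] }
      have hM'mem : ∀ x : X, x ∈ M' ↔ e jj • x = 0 := fun x => Iff.rfl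
      haveI : IsNoetherian A X := isNoetherian_of_isNoetherianRing_of_finite A X
      have hPM' : P (ModuleCat.of A M') := by
        haveI : Module.Finite A M' := Module.Finite.iff_fg.2 (IsNoetherian.noetherian M')
        apply ihj M'
        intro i hi x
        apply Subtype.ext
        change e i • (x : X) = 0
        rcases Nat.lt_or_ge j i.val with hlt | hge
        · exact h i hlt x
        · have hij : i = jj := Fin.ext (le_antisymm hge hi)
          rw [hij]
          exact x.2
      have hPQ : P (ModuleCat.of A (X ⧸ M')) := by
        have q1 : ∀ i : Fin (N + 1), j + 1 ≤ i.val → ∀ y : X ⧸ M', e i • y = 0 := by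
          intro i hi y
          obtain ⟨y, rfl⟩ := M'.mkQ_surjective y
          rw [← map_smul, h i hi y, map_zero]
        have q2 : ∀ y : X ⧸ M', e jj • y = y := by
          intro y
          obtain ⟨y, rfl⟩ := M'.mkQ_surjective y
          rw [← map_smul, ← sub_eq_zero, ← map_sub, Submodule.mkQ_apply,
            Submodule.Quotient.mk_eq_zero, hM'mem, smul_sub, ← mul_smul, he_idem, sub_self]
        have q3 : ∀ i : Fin (N + 1), i.val < j → ∀ (a : A) (y : X ⧸ M'),
            (e i * a * e jj) • y = 0 := by
          intro i hi a y
          obtain ⟨y, rfl⟩ := M'.mkQ_surjective y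
          rw [← map_smul, Submodule.mkQ_apply, Submodule.Quotient.mk_eq_zero, hM'mem,
            ← mul_smul, ← mul_assoc, ← mul_assoc,
            he_orth jj i (fun hc => by rw [← hc] at hi; exact lt_irrefl _ hi), zero_mul,
            zero_mul, zero_smul]
        have q4 : ∀ (a : A) (y : X ⧸ M'), a • y = (e jj * a * e jj) • y := by
          intro a y
          conv_lhs => rw [← q2 y, ← mul_smul, ← one_mul (a * e jj), ← he_sum, Finset.sum_mul,
            Finset.sum_smul]
          rw [Finset.sum_eq_single jj]
          · rw [mul_assoc]
          · intro i _ hne
            rcases lt_trichotomy i.val j with hlt | heq | hgt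
            · rw [← mul_assoc]; exact q3 i hlt a y
            · exact absurd (Fin.ext heq) hne
            · rw [← mul_assoc, he_tri i jj (Fin.mk_lt_of_lt_val hgt) a, zero_smul]
          · intro hni
            exact absurd (Finset.mem_univ _) hni
        obtain ⟨r, s, hs⟩ := Module.Finite.exists_fin (R := A) (M := X ⧸ M')
        exact claim' r (X ⧸ M') q2 q4 ⟨s, hs⟩
      exact hext _ (shortExact_sub X M') hPM' hPQ
  haveI : Module.Finite A M := by
    letI : Module A (RestrictScalars k A M) := RestrictScalars.moduleOrig k A M
    exact Module.Finite.of_restrictScalars_finite k A (RestrictScalars k A M)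
  have hfin := claim (N + 1) le_rfl M (fun i hi => absurd i.2 (by omega))
  exact hiso _ _ (LinearEquiv.toModuleIso (LinearEquiv.refl A M)) hfin

end Groth.Agent.Lib.Helper39.BeilMOD
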