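import Groth.Prelude.Def_Conn
import Mathlib.LinearAlgebra.FreeModule.Finite.Basic
import Mathlib.LinearAlgebra.Basis.Basic

set_option autoImplicit false

universe v u

open TensorProduct

namespace Groth.Agent.Lib.Helper39

section

variable {B : Type u} [CommRing B] {Ω : Type u} [AddCommGroup Ω] [Module B Ω]

noncomputable def coordMap {ι : Type*} (b : Module.Basis ι B Ω) (Z : Type u) [AddCommGroup Z]
    [Module B Z] (i : ι) : Z ⊗[B] Ω →ₗ[B] Z :=
  (TensorProduct.rid B Z).toLinearMap ∘ₗ TensorProduct.map LinearMap.id (b.coord i)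

theorem coordMap_tmul {ι : Type*} (b : Module.Basis ι B Ω) (Z : Type u) [AddCommGroup Z]
    [Module B Z] (i : ι) (z : Z) (ω : Ω) : coordMap b Z i (z ⊗ₜ[B] ω) = b.coord i ω • z := by
  simp [coordMap]

theorem coordMap_map {ι : Type*} (b : Module.Basis ι B Ω) {Z Z' : Type u} [AddCommGroup Z]
    [Module B Z] [AddCommGroup Z'] [Module B Z'] (f : Z →ₗ[B] Z') (i : ι) (s : Z ⊗[B] Ω) :
    coordMap b Z' i (TensorProduct.map f LinearMap.id s) = f (coordMap b Z i s) := by
  induction s using TensorProduct.induction_on with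
  | zero => simp
  | tmul z ω => simp [coordMap_tmul]
  | add x y hx hy => simp only [map_add, hx, hy]

theorem sum_coordMap_tmul {ι : Type*} [Fintype ι] (b : Module.Basis ι B Ω) (Z : Type u)
    [AddCommGroup Z] [Module B Z] (s : Z ⊗[B] Ω) :
    ∑ i, coordMap b Z i s ⊗ₜ[B] b i = s := by
  induction s using TensorProduct.induction_on with
  | zero => simp
  | tmul z ω =>
    simp only [coordMap_tmul, TensorProduct.smul_tmul, ← TensorProduct.tmul_sum]
    congr 1
    exact b.sum_repr ω
  | add x y hx hy =>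
    simp only [map_add, TensorProduct.add_tmul, Finset.sum_add_distrib, hx, hy]

theorem hom_tensor_ext [Module.Finite B Ω] [Module.Free B Ω] {X Y : Type u} [AddCommGroup X]
    [Module B X] [AddCommGroup Y] [Module B Y] (t₁ t₂ : (X →ₗ[B] Y) ⊗[B] Ω)
    (h : ∀ x : X, TensorProduct.map (LinearMap.applyₗ x) LinearMap.id t₁ =
      TensorProduct.map (LinearMap.applyₗ x) LinearMap.id t₂) : t₁ = t₂ := by
  classical
  let b := Module.Free.chooseBasis B Ω
  rw [← sum_coordMap_tmul b _ t₁, ← sum_coordMap_tmul b _ t₂]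
  refine Finset.sum_congr rfl fun i _ => ?_
  congr 1
  ext x
  have h1 := coordMap_map b (LinearMap.applyₗ x : (X →ₗ[B] Y) →ₗ[B] Y) i t₁
  have h2 := coordMap_map b (LinearMap.applyₗ x : (X →ₗ[B] Y) →ₗ[B] Y) i t₂
  simp only [LinearMap.applyₗ_apply_apply] at h1 h2
  rw [← h1, ← h2, h x]

end

end Groth.Agent.Lib.Helper39
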