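import Groth.Agent.Lib.Helper39.ConnLemmas
import Mathlib.LinearAlgebra.Trace

set_option autoImplicit false

universe v u

open TensorProduct

namespace Groth.Agent.Lib.Helper39

section

variable {B : Type u} [CommRing B] {Ω : Type u} [AddCommGroup Ω] [Module B Ω]

theorem map_sum_left_apply {ι : Type*} (s : Finset ι) {X Y : Type u} [AddCommGroup X] [Module B X]
    [AddCommGroup Y] [Module B Y] (f : ι → (X →ₗ[B] Y)) (t : X ⊗[B] Ω) :
    TensorProduct.map (∑ i ∈ s, f i) (LinearMap.id : Ω →ₗ[B] Ω) t =
      ∑ i ∈ s, TensorProduct.map (f i) LinearMap.id t := by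
  induction t using TensorProduct.induction_on with
  | zero => simp
  | tmul x ω => simp [LinearMap.sum_apply, TensorProduct.sum_tmul]
  | add x y hx hy => simp only [map_add, hx, hy, Finset.sum_add_distrib]

theorem map_comp_left_apply {X Y Z : Type u} [AddCommGroup X] [Module B X]
    [AddCommGroup Y] [Module B Y] [AddCommGroup Z] [Module B Z] (g : Y →ₗ[B] Z) (f : X →ₗ[B] Y)
    (t : X ⊗[B] Ω) :
    TensorProduct.map (g ∘ₗ f) (LinearMap.id : Ω →ₗ[B] Ω) t =
      TensorProduct.map g LinearMap.id (TensorProduct.map f LinearMap.id t) := by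
  induction t using TensorProduct.induction_on with
  | zero => simp
  | tmul x ω => simp
  | add x y hx hy => simp only [map_add, hx, hy]

theorem map_smul_left_apply {X Y : Type u} [AddCommGroup X] [Module B X]
    [AddCommGroup Y] [Module B Y] (c : B) (f : X →ₗ[B] Y) (t : X ⊗[B] Ω) :
    TensorProduct.map (c • f) (LinearMap.id : Ω →ₗ[B] Ω) t =
      c • TensorProduct.map f LinearMap.id t := by
  induction t using TensorProduct.induction_on with
  | zero => simp
  | tmul x ω => simp [TensorProduct.smul_tmul']
  | add x y hx hy => simp only [map_add, hx, hy, smul_add]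

end

theorem trace_horizontal {A : Type v} {B Ω M : Type u}
    [CommRing A] [CommRing B] [Algebra A B]
    [AddCommGroup Ω] [Module B Ω] [Module A Ω] [IsScalarTower A B Ω]
    [AddCommGroup M] [Module B M] [Module A M] [IsScalarTower A B M] [Module.Finite B M]
    [Module.Free B M]
    (δ : Derivation A B Ω) (nabla : M →ₗ[A] M ⊗[B] Ω) (hc : Conn.IsConn δ nabla)
    (nablaE : (M →ₗ[B] M) →ₗ[A] (M →ₗ[B] M) ⊗[B] Ω) (hE : Conn.IsHomConn nabla nabla nablaE) :
    Conn.IsHorizontal nablaE (Conn.triv δ) (LinearMap.trace B M) := by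
  classical
  intro φ
  let b := Module.Free.chooseBasis B M
  have htr : LinearMap.trace B M =
      ∑ i, (b.coord i) ∘ₗ (LinearMap.applyₗ (b i) : (M →ₗ[B] M) →ₗ[B] M) := by
    ext ψ
    rw [LinearMap.trace_eq_matrix_trace B b, Matrix.trace]
    simp [LinearMap.toMatrix_apply, LinearMap.sum_apply]
  have hsumconn : ∀ (c : Module.Free.ChooseBasisIndex B M → B),
      nabla (∑ j, c j • b j) = ∑ j, (c j • nabla (b j) + b j ⊗ₜ[B] δ (c j)) := by
    intro c
    rw [map_sum]
    exact Finset.sum_congr rfl fun j _ => hc (c j) (b j)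
  have hA : ∀ i, TensorProduct.map (b.coord i) LinearMap.id (nabla (φ (b i))) =
      ∑ j, b.coord j (φ (b i)) • TensorProduct.map (b.coord i) LinearMap.id (nabla (b j)) +
        (1 : B) ⊗ₜ[B] δ (b.coord i (φ (b i))) := by
    intro i
    conv_lhs => rw [← b.sum_repr (φ (b i))]
    rw [hsumconn, map_sum]
    simp only [map_add, map_smul, TensorProduct.map_tmul, LinearMap.id_coe, id_eq,
      Finset.sum_add_distrib]
    congr 1
    rw [Finset.sum_eq_single i]
    · simp
    · intro j _ hji
      simp [Module.Basis.coord_apply, Finsupp.single_apply, hji]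
    · simp
  have hcoord : ∀ i, (b.coord i) ∘ₗ φ = ∑ j, b.coord i (φ (b j)) • b.coord j := by
    intro i
    apply b.ext
    intro k
    simp only [LinearMap.comp_apply, LinearMap.sum_apply, LinearMap.smul_apply, smul_eq_mul]
    rw [Finset.sum_eq_single k]
    · simp
    · intro j _ hjk
      simp [Module.Basis.coord_apply, Finsupp.single_apply, Ne.symm hjk]
    · simp
  have hB : ∀ i, TensorProduct.map (b.coord i) LinearMap.id
      (TensorProduct.map φ LinearMap.id (nabla (b i))) =
      ∑ j, b.coord i (φ (b j)) • TensorProduct.map (b.coord j) LinearMap.id (nabla (b i)) := by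
    intro i
    rw [← map_comp_left_apply, hcoord, map_sum_left_apply]
    exact Finset.sum_congr rfl fun j _ => map_smul_left_apply _ _ _
  have hR : TensorProduct.map (LinearMap.trace B M) LinearMap.id (nablaE φ) =
      ∑ i, TensorProduct.map (b.coord i) LinearMap.id
        (nabla (φ (b i)) - TensorProduct.map φ LinearMap.id (nabla (b i))) := by
    rw [htr, map_sum_left_apply]
    refine Finset.sum_congr rfl fun i _ => ?_
    rw [map_comp_left_apply, hE φ (b i)]
  rw [hR]
  simp only [map_sub, hA, hB, Finset.sum_sub_distrib, Finset.sum_add_distrib]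
  rw [Finset.sum_comm, add_sub_right_comm, sub_self, zero_add, Conn.triv_apply,
    LinearMap.trace_eq_matrix_trace B b, Matrix.trace, map_sum, TensorProduct.tmul_sum]
  simp [LinearMap.toMatrix_apply]

end Groth.Agent.Lib.Helper39
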