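import Mathlib
import Groth.Agent.Lib.Helper20.FPApprox

set_option autoImplicit false
universe u
open CategoryTheory

namespace Groth.Agent.Lib.Helper39.FPFactor

open Groth.Agent.Lib.Helper20.FPApprox Limits

theorem exists_fp_factor {A : Type u} [CommRing A] (Λ : Type u) [CommRing Λ] [Algebra A Λ] (F : CommAlgCat.{u} A ⥤ Type u) [Limits.PreservesFilteredColimits F] (ξ : F.obj (CommAlgCat.of A Λ)) : ∃ (B : Type u) (_ : CommRing B) (_ : Algebra A B) (_ : Algebra.FinitePresentation A B) (ι : B →ₐ[A] Λ) (ξ₀ : F.obj (CommAlgCat.of A B)), F.map (CommAlgCat.ofHom ι) ξ₀ = ξ := by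
  classical
  let good : Pres A Λ → Prop := fun _ => True
  have hcof : ∀ S₀ : Finset Λ, ∃ j : Pres A Λ, good j ∧ S₀ ⊆ j.S := fun S₀ =>
    ⟨⟨S₀, ⊥, Submodule.fg_bot, fun x hx => by
      rw [Ideal.mem_bot] at hx; subst hx; exact map_zero _⟩, trivial, subset_rfl⟩
  have hup : ∀ (j : Pres A Λ) (I' : Ideal (MvPolynomial j.S A)) (fg' : I'.FG)
      (le_ker' : ∀ x ∈ I', ev A Λ j.S x = 0), j.I ≤ I' → good j → good ⟨j.S, I', fg', le_ker'⟩ :=
    fun _ _ _ _ _ _ => trivial
  obtain ⟨hd, hn, ⟨hc⟩⟩ := exists_isColimit good hcof hup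
  let e := commAlgCatEquivUnder (CommRingCat.of A)
  let G : Under (CommRingCat.of A) ⥤ Type u := e.inverse ⋙ F
  have : IsFiltered (GoodPres good) := inferInstance
  have : PreservesColimitsOfShape (GoodPres good) F :=
    PreservesFilteredColimitsOfSize.preserves_filtered_colimits _
  have hG : IsColimit (G.mapCocone (cocone good)) := isColimitOfPreserves G hc
  let η : CommAlgCat.of A Λ ≅ e.inverse.obj (cocone good).pt :=
    e.unitIso.app (CommAlgCat.of A Λ)
  obtain ⟨j, y, hy⟩ := Types.jointly_surjective_of_isColimit hG (F.map η.hom ξ)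
  let ηj : CommAlgCat.of A j.1.Alg ≅ e.inverse.obj ((functor good).obj j) :=
    e.unitIso.app (CommAlgCat.of A j.1.Alg)
  refine ⟨j.1.Alg, inferInstance, inferInstance, j.1.finitePresentation, j.1.leg,
    F.map ηj.inv y, ?_⟩
  have hcomp : ηj.inv ≫ CommAlgCat.ofHom j.1.leg =
      e.inverse.map ((cocone good).ι.app j) ≫ η.inv := by
    ext x
    rfl
  rw [← Functor.map_comp_apply, hcomp, Functor.map_comp_apply]
  have hy' : F.map (e.inverse.map ((cocone good).ι.app j)) y = F.map η.hom ξ := hy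
  rw [hy', ← Functor.map_comp_apply, Iso.hom_inv_id, Functor.map_id_apply]

end Groth.Agent.Lib.Helper39.FPFactor
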