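import Mathlib.AlgebraicGeometry.AffineScheme
import Mathlib.AlgebraicGeometry.Morphisms.QuasiSeparated
import Mathlib.AlgebraicGeometry.Morphisms.Separated
import Mathlib.AlgebraicGeometry.Morphisms.Immersion
import Mathlib.AlgebraicGeometry.Properties
import Mathlib.Topology.Irreducible
import Mathlib.AlgebraicGeometry.Limits
import Mathlib.RingTheory.Spectrum.Prime.Topology
import Mathlib.RingTheory.Ideal.MinimalPrime.Basic

set_option autoImplicit false

namespace Groth.Agent.Lib.Helper39

open AlgebraicGeometry TopologicalSpace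

universe u

theorem exists_mul_pow_eq_zero_of_mem_minimalPrimes {R : Type*} [CommRing R] {p : Ideal R}
    (hp : p ∈ minimalPrimes R) {f : R} (hf : f ∈ p) : ∃ g ∉ p, ∃ n : ℕ, g * f ^ n = 0 := by
  have hpp : p.IsPrime := hp.1.1
  by_contra hcon
  push_neg at hcon
  let S : Submonoid R := p.primeCompl ⊔ Submonoid.powers f
  have hS : Disjoint ((⊥ : Ideal R) : Set R) S := by
    rw [Set.disjoint_left]
    intro x hx hxS
    rw [SetLike.mem_coe, Ideal.mem_bot] at hx
    subst hx
    obtain ⟨g, hg, z, ⟨n, rfl⟩, hgz⟩ := Submonoid.mem_sup.mp hxS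
    exact hcon g hg n hgz
  obtain ⟨q, hq, -, hqS⟩ := Ideal.exists_le_prime_disjoint ⊥ S hS
  have hqp : q ≤ p := by
    intro x hx
    by_contra hxp
    exact Set.disjoint_left.mp hqS hx (Submonoid.mem_sup_left hxp)
  have hpq : p ≤ q := hp.2 ⟨hq, bot_le⟩ hqp
  have : f ∈ q := hpq hf
  exact Set.disjoint_left.mp hqS this (Submonoid.mem_sup_right (Submonoid.mem_powers f))

theorem primeSpectrum_notMem_closure {R : Type*} [CommRing R] (η : PrimeSpectrum R)
    (hη : closure {η} ∈ irreducibleComponents (PrimeSpectrum R)) (W : Set (PrimeSpectrum R))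
    (hWc : IsCompact W) (hWo : IsOpen W) (hηW : η ∉ W) : η ∉ closure W := by
  classical
  have hmin : η.asIdeal ∈ minimalPrimes R := by
    rwa [← PrimeSpectrum.vanishingIdeal_singleton, PrimeSpectrum.vanishingIdeal_mem_minimalPrimes]
  obtain ⟨t, rfl⟩ := PrimeSpectrum.isCompact_isOpen_iff.mp ⟨hWc, hWo⟩
  have htη : (t : Set R) ⊆ η.asIdeal := by
    simpa [PrimeSpectrum.mem_zeroLocus] using hηW
  choose! g hg n hgn using
    fun f (hf : f ∈ t) => exists_mul_pow_eq_zero_of_mem_minimalPrimes hmin (htη hf)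
  have hG : (∏ f ∈ t, g f) ∉ η.asIdeal := by
    rw [η.isPrime.prod_mem_iff]
    push_neg
    exact fun f hf => hg f hf
  intro hcl
  obtain ⟨q, hqG, hqW⟩ := mem_closure_iff.mp hcl (PrimeSpectrum.basicOpen (∏ f ∈ t, g f))
    (PrimeSpectrum.basicOpen _).isOpen hG
  rw [Set.mem_compl_iff, PrimeSpectrum.mem_zeroLocus, Set.not_subset] at hqW
  obtain ⟨f, hft, hfq⟩ := hqW
  have h1 : g f ∉ q.asIdeal := by
    intro h
    obtain ⟨c, hc⟩ := Finset.dvd_prod_of_mem g hft
    exact hqG (hc ▸ Ideal.mul_mem_right _ _ h)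
  have h2 : g f * f ^ n f ∈ q.asIdeal := by
    rw [hgn f hft]
    exact zero_mem _
  rcases q.isPrime.mem_or_mem h2 with h | h
  · exact h1 h
  · exact hfq (q.isPrime.mem_of_pow_mem _ h)

theorem notMem_closure_of_isCompact {X : Scheme.{u}} [QuasiSeparatedSpace X] (η : X)
    (hη : closure ({η} : Set X) ∈ irreducibleComponents (X : Type u)) (W : Set X)
    (hWc : IsCompact W) (hWo : IsOpen W) (hηW : η ∉ W) : η ∉ closure W := by
  obtain ⟨_, ⟨U, hU : IsAffineOpen U, rfl⟩, hηU, -⟩ :=
    X.isBasis_affineOpens.exists_subset_of_mem_open (Set.mem_univ η) isOpen_univ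
  have hj : Topology.IsOpenEmbedding hU.fromSpec := hU.fromSpec.isOpenEmbedding
  obtain ⟨η', rfl⟩ : ∃ η', hU.fromSpec η' = η := by
    have : η ∈ Set.range hU.fromSpec := by
      rw [hU.range_fromSpec]
      exact hηU
    exact this
  have hη' : closure {η'} ∈ irreducibleComponents (Spec Γ(X, U)) := by
    rw [hj.closure_eq_preimage_closure_image, Set.image_singleton]
    exact preimage_mem_irreducibleComponents hη hj ⟨_, subset_closure rfl, _, rfl⟩
  have hW' : IsCompact (hU.fromSpec ⁻¹' W) := by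
    have : hU.fromSpec ⁻¹' W = hU.fromSpec ⁻¹' (W ∩ U) := by
      ext x
      have hx : hU.fromSpec x ∈ (U : Set X) := by
        rw [← hU.range_fromSpec]
        exact ⟨x, rfl⟩
      simp [hx]
    rw [this, hj.isInducing.isCompact_preimage_iff]
    · exact QuasiSeparatedSpace.inter_isCompact W U hWo hWc U.isOpen hU.isCompact
    · rw [hU.range_fromSpec]
      exact Set.inter_subset_right
  have key : η' ∉ closure (hU.fromSpec ⁻¹' W) :=
    primeSpectrum_notMem_closure (R := Γ(X, U)) η' hη' _ hW' (hWo.preimage hj.continuous) hηW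
  intro hcl
  apply key
  have h3 := hj.isOpenMap.preimage_closure_eq_closure_preimage hj.continuous W
  rw [← h3]
  exact hcl

end Groth.Agent.Lib.Helper39
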