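import Groth.Prelude.Def_GrMap2
import Groth.Prelude.Def_AssocGrMod

set_option autoImplicit false
universe u v
open Polynomial AssocGr

namespace Groth.Agent.Lib.Helper39.GrL

variable {A : Type u} {B : Type v} [CommRing A] [CommRing B] {φ : A →+* B}
  {𝓕 : FiltBl.IdealFiltration A} {𝓖 : FiltBl.IdealFiltration B}

theorem map_injective_of (h : IsFiltHom φ 𝓕 𝓖)
    (hinj : ∀ n, ∀ a ∈ 𝓕.F n, φ a ∈ 𝓖.F (n + 1) → a ∈ 𝓕.F (n + 1)) :
    Function.Injective (AssocGr.map h) := by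
  rw [injective_iff_map_eq_zero]
  intro x hx
  obtain ⟨f, rfl⟩ := mkG_surjective 𝓕 x
  rw [map_mkG, mkG_eq_zero_iff, mem_succIdeal_iff] at hx
  rw [mkG_eq_zero_iff, mem_succIdeal_iff]
  intro n
  apply hinj n _ (f.2 n)
  have := hx n
  rwa [coe_reesMap, Polynomial.coeff_map] at this

theorem map_surjective_of (h : IsFiltHom φ 𝓕 𝓖)
    (hsurj : ∀ n, ∀ b ∈ 𝓖.F n, ∃ a ∈ 𝓕.F n, φ a - b ∈ 𝓖.F (n + 1)) :
    Function.Surjective (AssocGr.map h) := by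
  intro y
  obtain ⟨g, rfl⟩ := mkG_surjective 𝓖 y
  choose! c hc1 hc2 using hsurj
  let f0 : A[X] := ∑ n ∈ (g : B[X]).support, monomial n (c n ((g : B[X]).coeff n))
  have hf0 : ∀ n, f0.coeff n = if n ∈ (g : B[X]).support then c n ((g : B[X]).coeff n) else 0 := by
    intro n
    simp only [f0, finsetSum_coeff, coeff_monomial]
    rw [Finset.sum_ite_eq']
  have hmem : f0 ∈ 𝓕.rees := by
    intro n
    rw [hf0]
    split_ifs
    · exact hc1 n _ (g.2 n)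
    · exact Ideal.zero_mem _
  refine ⟨mkG 𝓕 ⟨f0, hmem⟩, ?_⟩
  rw [map_mkG, ← sub_eq_zero, ← map_sub, mkG_eq_zero_iff, mem_succIdeal_iff]
  intro n
  rw [Subalgebra.coe_sub, coeff_sub, coe_reesMap, Polynomial.coeff_map]
  change φ (f0.coeff n) - (g : B[X]).coeff n ∈ 𝓖.F (n + 1)
  rw [hf0]
  split_ifs with hn
  · exact hc2 n _ (g.2 n)
  · rw [map_zero, zero_sub, Polynomial.notMem_support_iff.mp hn, neg_zero]
    exact Ideal.zero_mem _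

theorem exists_of_map_surjective (h : IsFiltHom φ 𝓕 𝓖) (hs : Function.Surjective (AssocGr.map h))
    (n : ℕ) (b : B) (hb : b ∈ 𝓖.F n) : ∃ a ∈ 𝓕.F n, φ a - b ∈ 𝓖.F (n + 1) := by
  obtain ⟨x, hx⟩ := hs (inDeg 𝓖 n ⟨b, hb⟩ : GrRing 𝓖)
  obtain ⟨f, rfl⟩ := mkG_surjective 𝓕 x
  rw [map_mkG, coe_inDeg, ← sub_eq_zero, ← map_sub, mkG_eq_zero_iff, mem_succIdeal_iff] at hx
  refine ⟨(f : A[X]).coeff n, f.2 n, ?_⟩
  have := hx n
  rw [Subalgebra.coe_sub, coeff_sub, coe_reesMap, Polynomial.coeff_map, coe_coe_monom,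
    coeff_monomial, if_pos rfl] at this
  exact this

theorem of_map_injective (h : IsFiltHom φ 𝓕 𝓖) (hs : Function.Injective (AssocGr.map h))
    (n : ℕ) (a : A) (ha : a ∈ 𝓕.F n) (hφ : φ a ∈ 𝓖.F (n + 1)) : a ∈ 𝓕.F (n + 1) := by
  have h1 : AssocGr.map h (inDeg 𝓕 n ⟨a, ha⟩ : GrRing 𝓕) = 0 := by
    rw [map_inDeg]
    have := (inDeg_eq_zero_iff 𝓖 n ⟨φ a, h.apply_mem ha⟩).mpr hφ
    rw [this]; rfl
  have h2 : (inDeg 𝓕 n ⟨a, ha⟩ : GrRing 𝓕) = 0 := hs (by rw [h1, map_zero])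
  have h3 : inDeg 𝓕 n ⟨a, ha⟩ = 0 := Subtype.ext h2
  exact (inDeg_eq_zero_iff 𝓕 n ⟨a, ha⟩).mp h3

end Groth.Agent.Lib.Helper39.GrL
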