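import Groth.Prelude.Def_AssocGrMod
import Groth.Agent.Lib.Helper39.AdicLift

set_option autoImplicit false
universe u
open Polynomial AssocGr

namespace Groth.Agent.Lib.Helper39.GrGen

open Groth.Agent.Lib.Helper39.AdicLift

variable {A : Type u} [CommRing A]

theorem exists_limit (I : Ideal A) [IsPrecomplete I A] (f : ℕ → A)
    (h : ∀ n, f (n + 1) - f n ∈ I ^ n) : ∃ L, ∀ n, f n - L ∈ I ^ n := by
  have hdiff : ∀ m k, m ≤ k → f k - f m ∈ I ^ m := by
    intro m k hmk
    induction k, hmk using Nat.le_induction with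
    | base => rw [sub_self]; exact Ideal.zero_mem _
    | succ k hmk ih =>
      have : f (k + 1) - f m = (f (k + 1) - f k) + (f k - f m) := by ring
      rw [this]
      exact Ideal.add_mem _ (Ideal.pow_le_pow_right hmk (h k)) ih
  obtain ⟨L, hL⟩ := IsPrecomplete.prec' (I := I) f (by
    intro m k hmk
    rw [smodEq_pow_iff]
    have := hdiff m k hmk
    rw [← Ideal.neg_mem_iff, neg_sub] at this
    exact this)
  simp only [smodEq_pow_iff] at hL
  exact ⟨L, hL⟩

theorem exists_limit_shift (I : Ideal A) [IsPrecomplete I A] (d : ℕ) (f : ℕ → A)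
    (h : ∀ n, f (n + 1) - f n ∈ I ^ (n - d)) : ∃ L, ∀ n, f n - L ∈ I ^ (n - d) := by
  obtain ⟨L, hL⟩ := exists_limit I (fun m => f (m + d)) (by
    intro m
    have := h (m + d)
    rw [Nat.add_sub_cancel] at this
    rwa [Nat.add_right_comm])
  refine ⟨L, fun n => ?_⟩
  by_cases hn : d ≤ n
  · have := hL (n - d)
    rwa [Nat.sub_add_cancel hn] at this
  · rw [Nat.sub_eq_zero_of_le (by omega), pow_zero, Ideal.one_eq_top]
    trivial

variable {I : Ideal A} {M : Type u} [AddCommGroup M] [Module A M] (F : I.Filtration M)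

theorem coeff_smul_monomM (f : ↥(FiltBl.IdealFiltration.adic I).rees) (d : ℕ) (x : F.N d) (n : ℕ) :
    ReesM.coeff F (f • monomM F d x) n =
      if d ≤ n then (f : A[X]).coeff (n - d) • (x : M) else 0 := by
  rw [ReesM.coeff_smul]
  simp only [ReesM.coeff_monomM, smul_ite, smul_zero]
  split_ifs with hdn
  · rw [Finset.sum_eq_single (n - d, d)]
    · rw [if_pos rfl]
    · rintro ⟨i, j⟩ hij hne
      have hij' : i + j = n := Finset.HasAntidiagonal.mem_antidiagonal.mp hij
      rw [if_neg]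
      rintro rfl
      apply hne
      ext
      · simp only; omega
      · rfl
    · intro hh
      exfalso; apply hh
      apply Finset.HasAntidiagonal.mem_antidiagonal.mpr
      simp only
      omega
  · apply Finset.sum_eq_zero
    rintro ⟨i, j⟩ hij
    have hij' : i + j = n := Finset.HasAntidiagonal.mem_antidiagonal.mp hij
    rw [if_neg]
    rintro rfl
    omega

theorem step_of_mem_span {ι : Type*} [Fintype ι] (d : ι → ℕ) (x : (i : ι) → ↥(F.N (d i)))
    (n : ℕ) (y : M) (hy : y ∈ F.N n)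
    (hmem : (inDegM F n ⟨y, hy⟩ : GrMod F) ∈
      Submodule.span (AssocGr.GrRing (FiltBl.IdealFiltration.adic I))
        (Set.range fun i => (AssocGr.inDegM F (d i) (x i) : AssocGr.GrMod F))) :
    ∃ a : ι → A, (∀ i, a i ∈ I ^ (n - d i)) ∧ y - ∑ i, a i • (x i : M) ∈ F.N (n + 1) := by
  rw [Submodule.mem_span_range_iff_exists_fun] at hmem
  obtain ⟨c, hc⟩ := hmem
  choose f hf using fun i => mkG_surjective (FiltBl.IdealFiltration.adic I) (c i)
  have h1 : mkGM F (monomM F n ⟨y, hy⟩ - ∑ i, f i • monomM F (d i) (x i)) = 0 := by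
    rw [map_sub, map_sum, ← coe_inDegM, ← hc, sub_eq_zero]
    apply Finset.sum_congr rfl
    intro i _
    rw [← hf i, coe_inDegM, mkG_smul_mkGM]
  rw [mkGM_eq_zero_iff, mem_succMod_iff] at h1
  have h2 := h1 n
  rw [← ReesM.coeffHom_apply, map_sub, map_sum, ReesM.coeffHom_apply, ReesM.coeff_monomM,
    if_pos rfl] at h2
  simp only [ReesM.coeffHom_apply, coeff_smul_monomM] at h2
  refine ⟨fun i => if d i ≤ n then ((f i : ↥(FiltBl.IdealFiltration.adic I).rees) : A[X]).coeff
    (n - d i) else 0, ?_, ?_⟩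
  · intro i
    simp only
    split_ifs
    · exact (f i).2 (n - d i)
    · exact Ideal.zero_mem _
  · convert h2 using 3
    rename_i i _
    simp only
    split_ifs
    · rfl
    · rw [zero_smul]

theorem step_of_gen {ι : Type*} [Fintype ι] (d : ι → ℕ) (x : (i : ι) → ↥(F.N (d i)))
    (hgen : Submodule.span (AssocGr.GrRing (FiltBl.IdealFiltration.adic I))
      (Set.range fun i => (AssocGr.inDegM F (d i) (x i) : AssocGr.GrMod F)) = ⊤)
    (n : ℕ) (y : M) (hy : y ∈ F.N n) :
    ∃ a : ι → A, (∀ i, a i ∈ I ^ (n - d i)) ∧ y - ∑ i, a i • (x i : M) ∈ F.N (n + 1) :=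
  step_of_mem_span F d x n y hy (by rw [hgen]; trivial)

theorem mem_span_of_step [IsPrecomplete I A] (hsep : ⨅ n, F.N n = ⊥) (P : Submodule A M)
    {ι : Type*} [Fintype ι]
    (d : ι → ℕ) (x : ι → M) (hx : ∀ i, x i ∈ F.N (d i)) (hxP : ∀ i, x i ∈ P)
    (hstep : ∀ n, ∀ y ∈ P, y ∈ F.N n → ∃ a : ι → A, (∀ i, a i ∈ I ^ (n - d i)) ∧
      y - ∑ i, a i • x i ∈ F.N (n + 1))
    (y : M) (hyP : y ∈ P) (hy0 : y ∈ F.N 0) :
    y ∈ Submodule.span A (Set.range x) := by
  choose! a ha1 ha2 using hstep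
  let b : ℕ → ι → A := fun n => Nat.rec (0 : ι → A)
    (fun n bn => bn + a n (y - ∑ i, bn i • x i)) n
  have hb0 : b 0 = 0 := rfl
  have hbS : ∀ n, b (n + 1) = b n + a n (y - ∑ i, b n i • x i) := fun n => rfl
  have hinvP : ∀ n, y - ∑ i, b n i • x i ∈ P := fun n =>
    Submodule.sub_mem _ hyP (Submodule.sum_mem _ fun i _ => Submodule.smul_mem _ _ (hxP i))
  have hinv : ∀ n, y - ∑ i, b n i • x i ∈ F.N n := by
    intro n
    induction n with
    | zero =>
      rw [hb0]
      simp only [Pi.zero_apply, zero_smul, Finset.sum_const_zero, sub_zero]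
      exact hy0
    | succ n ih =>
      have := ha2 n _ (hinvP n) ih
      convert this using 1
      rw [hbS]
      simp only [Pi.add_apply, add_smul, Finset.sum_add_distrib]
      abel
  have hinc : ∀ i n, b (n + 1) i - b n i ∈ I ^ (n - d i) := by
    intro i n
    rw [hbS, Pi.add_apply, add_sub_cancel_left]
    exact ha1 n _ (hinvP n) (hinv n) i
  choose L hL using fun i => exists_limit_shift I (d i) (fun n => b n i) (hinc i)
  have hy : y = ∑ i, L i • x i := by
    rw [← sub_eq_zero, ← Submodule.mem_bot A, ← hsep, Submodule.mem_iInf]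
    intro n
    let N := n + Finset.univ.sup d
    have hdN : ∀ i, d i ≤ N := fun i =>
      le_trans (Finset.le_sup (f := d) (Finset.mem_univ i)) (Nat.le_add_left _ _)
    have : y - ∑ i, L i • x i = (y - ∑ i, b N i • x i) + ∑ i, (b N i - L i) • x i := by
      simp only [sub_smul, Finset.sum_sub_distrib]
      abel
    rw [this]
    apply F.antitone (Nat.le_add_right n _)
    refine Submodule.add_mem _ (hinv N) (Submodule.sum_mem _ fun i _ => ?_)
    have h1 := F.pow_smul_le (N - d i) (d i) (Submodule.smul_mem_smul (hL i N) (hx i))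
    rwa [Nat.sub_add_cancel (hdN i)] at h1
  rw [hy]
  exact Submodule.sum_mem _ fun i _ => Submodule.smul_mem _ _ (Submodule.subset_span ⟨i, rfl⟩)

theorem span_eq_top_of_step [IsPrecomplete I A] (h0 : F.N 0 = ⊤) (hsep : ⨅ n, F.N n = ⊥)
    {ι : Type*} [Fintype ι]
    (d : ι → ℕ) (x : ι → M) (hx : ∀ i, x i ∈ F.N (d i))
    (hstep : ∀ n, ∀ y ∈ F.N n, ∃ a : ι → A, (∀ i, a i ∈ I ^ (n - d i)) ∧
      y - ∑ i, a i • x i ∈ F.N (n + 1)) :
    Submodule.span A (Set.range x) = ⊤ := by
  rw [eq_top_iff]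
  rintro y -
  exact mem_span_of_step F hsep ⊤ d x hx (fun _ => trivial) (fun n y _ hy => hstep n y hy) y trivial
    (by rw [h0]; trivial)

end Groth.Agent.Lib.Helper39.GrGen
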