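import Mathlib.AlgebraicGeometry.ProjectiveSpectrum.Scheme
import Mathlib.AlgebraicGeometry.ProjectiveSpectrum.Basic
import Mathlib.RingTheory.GradedAlgebra.Homogeneous.Ideal

set_option autoImplicit false

namespace Groth.Agent.Lib.Helper39

open AlgebraicGeometry

variable {R A : Type*} [CommRing R] [CommRing A] [Algebra R A]
variable (𝒜 : ℕ → Submodule R A) [GradedAlgebra 𝒜]

theorem exists_homogeneous_mem_notMem (I : Ideal A) (hI : I.IsHomogeneous 𝒜) (p : Ideal A)
    (h : ¬ I ≤ p) : ∃ j, ∃ x ∈ 𝒜 j, x ∈ I ∧ x ∉ p := by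
  classical
  by_contra hcon
  push_neg at hcon
  apply h
  intro x hx
  rw [← DirectSum.sum_support_decompose 𝒜 x]
  exact Ideal.sum_mem _ fun i _ => hcon i _ (SetLike.coe_mem _) (hI i hx)

theorem exists_pos_homogeneous_notMem (p : ProjectiveSpectrum 𝒜) :
    ∃ j, 0 < j ∧ ∃ x ∈ 𝒜 j, x ∉ p.asHomogeneousIdeal := by
  have := p.not_irrelevant_le
  rw [HomogeneousIdeal.irrelevant_le] at this
  push_neg at this
  obtain ⟨i, hi, h⟩ := this
  obtain ⟨x, hx, hxp⟩ := SetLike.not_le_iff_exists.mp h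
  exact ⟨i, hi, x, hx, hxp⟩

theorem exists_homogeneous_sep (p : ProjectiveSpectrum 𝒜) (T : Finset (ProjectiveSpectrum 𝒜))
    (hT : ∀ q ∈ T, ¬ q.asHomogeneousIdeal ≤ p.asHomogeneousIdeal) :
    ∃ k, 0 < k ∧ ∃ h ∈ 𝒜 k, h ∉ p.asHomogeneousIdeal ∧ ∀ q ∈ T, h ∈ q.asHomogeneousIdeal := by
  classical
  induction T using Finset.induction_on with
  | empty =>
    obtain ⟨j, hj, x, hx, hxp⟩ := exists_pos_homogeneous_notMem 𝒜 p
    exact ⟨j, hj, x, hx, hxp, by simp⟩
  | insert q T' hq ih =>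
    obtain ⟨k, hk, h', hh', hh'p, hh'T⟩ := ih (fun q' hq' => hT q' (Finset.mem_insert_of_mem hq'))
    obtain ⟨j, x, hx, hxq, hxp⟩ := exists_homogeneous_mem_notMem 𝒜 q.asHomogeneousIdeal.toIdeal
      q.asHomogeneousIdeal.isHomogeneous p.asHomogeneousIdeal.toIdeal
      (hT q (Finset.mem_insert_self _ _))
    refine ⟨k + j, by omega, h' * x, SetLike.mul_mem_graded hh' hx, ?_, ?_⟩
    · intro hmem
      rcases p.isPrime.mem_or_mem hmem with h1 | h1
      exacts [hh'p h1, hxp h1]
    · intro q' hq'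
      rcases Finset.mem_insert.mp hq' with rfl | hq'
      · exact Ideal.mul_mem_left _ _ hxq
      · exact Ideal.mul_mem_right _ _ (hh'T q' hq')

theorem exists_homogeneous_avoid (S : Finset (ProjectiveSpectrum 𝒜)) :
    ∃ m, 0 < m ∧ ∃ f ∈ 𝒜 m, ∀ x ∈ S, f ∉ x.asHomogeneousIdeal := by
  classical
  induction S using Finset.induction_on with
  | empty => exact ⟨1, one_pos, 0, zero_mem _, by simp⟩
  | insert a S' ha ih =>
    obtain ⟨m, hm, g, hg, hgS⟩ := ih
    by_cases hga : g ∈ a.asHomogeneousIdeal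
    · obtain ⟨k, hk, h, hh, hha, hhT⟩ := exists_homogeneous_sep 𝒜 a
        (S'.filter fun q => ¬ q.asHomogeneousIdeal ≤ a.asHomogeneousIdeal)
        (fun q hq => (Finset.mem_filter.mp hq).2)
      refine ⟨m * k, Nat.mul_pos hm hk, g ^ k + h ^ m, ?_, ?_⟩
      · refine Submodule.add_mem _ ?_ ?_
        · have := SetLike.pow_mem_graded k hg
          rwa [smul_eq_mul, mul_comm] at this
        · have := SetLike.pow_mem_graded m hh
          rwa [smul_eq_mul] at this
      · have hfa : g ^ k + h ^ m ∉ a.asHomogeneousIdeal := by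
          intro hmem
          have h1 : g ^ k ∈ a.asHomogeneousIdeal.toIdeal := Ideal.pow_mem_of_mem _ hga _ hk
          have h2 : h ^ m ∈ a.asHomogeneousIdeal.toIdeal := (Ideal.add_mem_iff_right _ h1).mp hmem
          exact hha (a.isPrime.mem_of_pow_mem _ h2)
        intro x hx
        rcases Finset.mem_insert.mp hx with rfl | hx
        · exact hfa
        · by_cases hxa : x.asHomogeneousIdeal ≤ a.asHomogeneousIdeal
          · exact fun hmem => hfa (hxa hmem)
          · intro hmem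
            have h1 : h ^ m ∈ x.asHomogeneousIdeal.toIdeal :=
              Ideal.pow_mem_of_mem _ (hhT x (Finset.mem_filter.mpr ⟨hx, hxa⟩)) _ hm
            have h2 : g ^ k ∈ x.asHomogeneousIdeal.toIdeal :=
              (Ideal.add_mem_iff_left _ h1).mp hmem
            exact hgS x hx (x.isPrime.mem_of_pow_mem _ h2)
    · exact ⟨m, hm, g, hg, fun x hx => by
        rcases Finset.mem_insert.mp hx with rfl | hx
        exacts [hga, hgS x hx]⟩

end Groth.Agent.Lib.Helper39
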