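import Mathlib

namespace Groth.Agent.Lib.Helper39.H1Reg

open Finset

universe u v

variable {R : Type u} [CommRing R] {ι : Type v} [Fintype ι] [DecidableEq ι]

/-- The submodule of Koszul (trivial) relations of a finite family. -/
def kos (f : ι → R) : Submodule R (ι → R) :=
  Submodule.span R {v : ι → R | ∃ i j : ι, v = Pi.single i (f j) - Pi.single j (f i)}

/-- `H_1`-regularity for a family indexed by an arbitrary finite type. -/
def IsH1 (f : ι → R) : Prop := ∀ a : ι → R, ∑ i, a i * f i = 0 → a ∈ kos f

theorem mem_kos_iff (f : ι → R) (a : ι → R) :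
    a ∈ kos f ↔ ∃ c : ι → ι → R, ∀ k, a k = ∑ j, (c k j - c j k) * f j := by
  constructor
  · intro h
    induction h using Submodule.span_induction with
    | mem v hv =>
      obtain ⟨i, j, rfl⟩ := hv
      refine ⟨fun p q => if p = i ∧ q = j then 1 else 0, fun k => ?_⟩
      simp only [Pi.sub_apply, Pi.single_apply, sub_mul, Finset.sum_sub_distrib, ite_and,
        ite_mul, one_mul, zero_mul]
      by_cases h1 : k = i <;> by_cases h2 : k = j <;> simp [h1, h2, eq_comm]
    | zero => exact ⟨0, fun k => by simp⟩
    | add x y _ _ hx hy =>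
      obtain ⟨c, hc⟩ := hx
      obtain ⟨c', hc'⟩ := hy
      refine ⟨c + c', fun k => ?_⟩
      simp only [Pi.add_apply, hc k, hc' k, ← Finset.sum_add_distrib]
      refine Finset.sum_congr rfl fun j _ => ?_
      ring
    | smul r x _ hx =>
      obtain ⟨c, hc⟩ := hx
      refine ⟨r • c, fun k => ?_⟩
      simp only [Pi.smul_apply, smul_eq_mul, hc k, Finset.mul_sum]
      refine Finset.sum_congr rfl fun j _ => ?_
      ring
  · rintro ⟨c, hc⟩
    have : a = ∑ i, ∑ j, c i j • (Pi.single i (f j) - Pi.single j (f i)) := by
      funext k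
      simp only [Finset.sum_apply, Pi.smul_apply, Pi.sub_apply, Pi.single_apply, smul_eq_mul,
        mul_sub, Finset.sum_sub_distrib, hc k, sub_mul]
      have h1 : (∑ x, ∑ x_1, c x x_1 * if k = x then f x_1 else 0) = ∑ x_1, c k x_1 * f x_1 := by
        rw [Finset.sum_eq_single k]
        · simp
        · intro b _ hb
          simp [Ne.symm hb]
        · simp
      have h2 : (∑ x, ∑ x_1, c x x_1 * if k = x_1 then f x else 0) = ∑ x, c x k * f x := by
        refine Finset.sum_congr rfl fun x _ => ?_
        rw [Finset.sum_eq_single k]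
        · simp
        · intro b _ hb
          simp [Ne.symm hb]
        · simp
      rw [h1, h2]
    rw [this]
    exact sum_mem fun i _ => sum_mem fun j _ =>
      Submodule.smul_mem _ _ (Submodule.subset_span ⟨i, j, rfl⟩)

theorem sum_mul_update (F : ι → R) (f : ι → R) (k : ι) (z : R) :
    ∑ j, F j * (Function.update f k z) j = F k * z + ∑ j ∈ univ.erase k, F j * f j := by
  rw [← Finset.add_sum_erase univ _ (mem_univ k)]
  simp only [Function.update_self]
  congr 1
  refine Finset.sum_congr rfl fun j hj => ?_
  rw [Function.update_of_ne (Finset.ne_of_mem_erase hj)]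

theorem IsH1.update_mul {f : ι → R} {k : ι} {x y : R}
    (hx : IsH1 (Function.update f k x)) (hy : IsH1 (Function.update f k y)) :
    IsH1 (Function.update f k (x * y)) := by
  intro a ha
  rw [sum_mul_update] at ha
  have h1 : ∑ i, (Function.update a k (a k * y)) i * (Function.update f k x) i = 0 := by
    rw [sum_mul_update]
    simp only [Function.update_self]
    rw [← ha]
    congr 1
    · ring
    · refine Finset.sum_congr rfl fun j hj => ?_
      rw [Function.update_of_ne (Finset.ne_of_mem_erase hj)]
  obtain ⟨c, hc⟩ := (mem_kos_iff _ _).1 (hx _ h1)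
  have hck := hc k
  rw [sum_mul_update, Function.update_self, sub_self, zero_mul, zero_add] at hck
  have h2 : ∑ i, (Function.update (fun j => -(c k j - c j k)) k (a k)) i *
      (Function.update f k y) i = 0 := by
    rw [sum_mul_update, Function.update_self, hck, ← Finset.sum_add_distrib]
    refine Finset.sum_eq_zero fun j hj => ?_
    rw [Function.update_of_ne (Finset.ne_of_mem_erase hj)]
    ring
  obtain ⟨e, he⟩ := (mem_kos_iff _ _).1 (hy _ h2)
  have hek := he k
  rw [Function.update_self, sum_mul_update, sub_self, zero_mul, zero_add] at hek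
  refine (mem_kos_iff _ _).2
    ⟨fun i j => if i = k ∨ j = k then e i j else x * e i j + c i j, fun i => ?_⟩
  rw [sum_mul_update]
  by_cases hik : i = k
  · subst hik
    simp only [true_or, or_true, if_true, sub_self, zero_mul, zero_add]
    rw [hek]
  · have hci := hc i
    rw [Function.update_of_ne hik, sum_mul_update] at hci
    have hei := he i
    rw [Function.update_of_ne hik, sum_mul_update] at hei
    simp only [hik, false_or, or_false, if_true, true_or, or_true]
    have hsum : ∑ j ∈ univ.erase k,
        ((if j = k then e i j else x * e i j + c i j) -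
          (if j = k then e j i else x * e j i + c j i)) * f j =
        x * ∑ j ∈ univ.erase k, (e i j - e j i) * f j +
          ∑ j ∈ univ.erase k, (c i j - c j i) * f j := by
      rw [Finset.mul_sum, ← Finset.sum_add_distrib]
      refine Finset.sum_congr rfl fun j hj => ?_
      rw [if_neg (Finset.ne_of_mem_erase hj), if_neg (Finset.ne_of_mem_erase hj)]
      ring
    rw [hsum, hci]
    have : c i k - c k i = (e i k - e k i) * y + ∑ j ∈ univ.erase k, (e i j - e j i) * f j := by
      rw [← hei]; ring
    rw [this]
    ring

theorem IsH1.update_pow {g : ι → R} {k : ι} {z : R} (h : IsH1 (Function.update g k z)) :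
    ∀ m : ℕ, 1 ≤ m → IsH1 (Function.update g k (z ^ m)) := by
  intro m hm
  induction m, hm using Nat.le_induction with
  | base => simpa using h
  | succ m _ ih => rw [pow_succ]; exact ih.update_mul h

theorem IsH1.pow {f : ι → R} (h : IsH1 f) (e : ι → ℕ) (he : ∀ i, 1 ≤ e i) :
    IsH1 (fun i => f i ^ e i) := by
  have key : ∀ s : Finset ι, IsH1 (fun i => if i ∈ s then f i ^ e i else f i) := by
    intro s
    induction s using Finset.induction_on with
    | empty => simpa using h
    | insert k s hk ih =>
      have e1 : (fun i => if i ∈ insert k s then f i ^ e i else f i) =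
          Function.update (fun i => if i ∈ s then f i ^ e i else f i) k (f k ^ e k) := by
        funext i
        by_cases hik : i = k
        · subst hik; simp
        · simp [Function.update_of_ne hik, Finset.mem_insert, hik]
      have e2 : Function.update (fun i => if i ∈ s then f i ^ e i else f i) k (f k) =
          (fun i => if i ∈ s then f i ^ e i else f i) := by
        funext i
        by_cases hik : i = k
        · subst hik; simp [hk]
        · simp [Function.update_of_ne hik]
      have ih' : IsH1 (Function.update (fun i => if i ∈ s then f i ^ e i else f i) k (f k)) := by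
        rw [e2]; exact ih
      rw [e1]
      exact ih'.update_pow (e k) (he k)
  simpa using key univ

theorem IsH1.coeff_mem {h : ι → R} (hh : IsH1 h) {a : ι → R} (ha : ∑ i, a i * h i = 0)
    (k : ι) : ∃ b : ι → R, a k = ∑ j ∈ univ.erase k, b j * h j := by
  obtain ⟨c, hc⟩ := (mem_kos_iff _ _).1 (hh a ha)
  refine ⟨fun j => c k j - c j k, ?_⟩
  rw [hc k, ← Finset.add_sum_erase univ _ (mem_univ k)]
  simp

/-- The ideal generated by prescribed powers of the members of the family. -/
def powIdeal (f : ι → R) (e : ι → ℕ) : Ideal R := Ideal.span (Set.range fun i => f i ^ e i)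

theorem colon_step {f : ι → R} (h : IsH1 f) (e : ι → ℕ) (he : ∀ i, 1 ≤ e i) (k : ι) (a : R)
    (ha : a * f k ∈ powIdeal f (Function.update e k (e k + 1))) : a ∈ powIdeal f e := by
  obtain ⟨b, hb⟩ := (Ideal.mem_span_range_iff_exists_fun).1 ha
  have hh' : IsH1 (fun i => f i ^ (Function.update e k 1) i) := by
    refine h.pow _ ?_
    intro i
    by_cases hik : i = k
    · subst hik; simp
    · simp [Function.update_of_ne hik, he i]
  rw [← Finset.add_sum_erase univ _ (mem_univ k)] at hb
  simp only [Function.update_self] at hb
  have hrel : ∑ i, (Function.update (fun j => - b j) k (a - b k * f k ^ e k)) i *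
      (fun i => f i ^ (Function.update e k 1) i) i = 0 := by
    rw [← Finset.add_sum_erase univ _ (mem_univ k)]
    simp only [Function.update_self, pow_one]
    have : ∑ x ∈ univ.erase k, Function.update (fun j => -b j) k (a - b k * f k ^ e k) x *
        f x ^ Function.update e k 1 x =
        - ∑ x ∈ univ.erase k, b x * f x ^ Function.update e k (e k + 1) x := by
      rw [← Finset.sum_neg_distrib]
      refine Finset.sum_congr rfl fun j hj => ?_
      have hjk := Finset.ne_of_mem_erase hj
      rw [Function.update_of_ne hjk, Function.update_of_ne hjk, Function.update_of_ne hjk]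
      ring
    rw [this]
    linear_combination (-1 : R) * hb
  obtain ⟨b', hb'⟩ := hh'.coeff_mem hrel k
  simp only [Function.update_self] at hb'
  have hsum : ∑ j ∈ univ.erase k, b' j * f j ^ Function.update e k 1 j =
      ∑ j ∈ univ.erase k, b' j * f j ^ e j := by
    refine Finset.sum_congr rfl fun j hj => ?_
    rw [Function.update_of_ne (Finset.ne_of_mem_erase hj)]
  have : a = b k * f k ^ e k + ∑ j ∈ univ.erase k, b' j * f j ^ e j := by
    rw [← hsum, ← hb']; ring
  rw [this]
  exact Ideal.add_mem _ (Ideal.mul_mem_left _ _ (Ideal.subset_span ⟨k, rfl⟩))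
    (Ideal.sum_mem _ fun j _ => Ideal.mul_mem_left _ _ (Ideal.subset_span ⟨j, rfl⟩))

theorem colon_monomial {f : ι → R} (h : IsH1 f) : ∀ (n : ℕ) (I : ι → ℕ) (a : R), ∑ i, I i = n →
    a * ∏ i, f i ^ I i ∈ powIdeal f (fun i => I i + 1) → a ∈ Ideal.span (Set.range f)
  | 0, I, a, hI, ha => by
    have hI0 : ∀ i, I i = 0 := by
      intro i
      have := (Finset.sum_eq_zero_iff.1 hI) i (mem_univ i)
      exact this
    simpa [hI0, powIdeal] using ha
  | n + 1, I, a, hI, ha => by
    obtain ⟨k, hk⟩ : ∃ k, 0 < I k := by
      by_contra hcon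
      push Not at hcon
      have : ∑ i, I i = 0 := Finset.sum_eq_zero (fun i _ => Nat.le_zero.1 (hcon i))
      omega
    have hI' : ∑ i, (Function.update I k (I k - 1)) i = n := by
      rw [← Finset.add_sum_erase univ _ (mem_univ k)] at hI ⊢
      rw [Function.update_self]
      have : ∑ x ∈ univ.erase k, Function.update I k (I k - 1) x = ∑ x ∈ univ.erase k, I x := by
        refine Finset.sum_congr rfl fun j hj => ?_
        rw [Function.update_of_ne (Finset.ne_of_mem_erase hj)]
      rw [this]
      omega
    have hprod : ∏ i, f i ^ I i = (∏ i, f i ^ (Function.update I k (I k - 1)) i) * f k := by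
      rw [← Finset.mul_prod_erase univ _ (mem_univ k),
        ← Finset.mul_prod_erase univ (fun i => f i ^ (Function.update I k (I k - 1)) i) (mem_univ k)]
      simp only [Function.update_self]
      have : ∏ x ∈ univ.erase k, f x ^ Function.update I k (I k - 1) x =
          ∏ x ∈ univ.erase k, f x ^ I x := by
        refine Finset.prod_congr rfl fun j hj => ?_
        rw [Function.update_of_ne (Finset.ne_of_mem_erase hj)]
      rw [this]
      have : f k ^ I k = f k ^ (I k - 1) * f k := by
        rw [← pow_succ]; congr 1; omega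
      rw [this]; ring
    have hexp : (fun i => I i + 1) = Function.update
        (fun i => (Function.update I k (I k - 1)) i + 1) k
        ((Function.update I k (I k - 1)) k + 1 + 1) := by
      funext i
      by_cases hik : i = k
      · subst hik; simp; omega
      · simp [Function.update_of_ne hik]
    have hmem : (a * ∏ i, f i ^ (Function.update I k (I k - 1)) i) * f k ∈
        powIdeal f (Function.update (fun i => (Function.update I k (I k - 1)) i + 1) k
          ((Function.update I k (I k - 1)) k + 1 + 1)) := by
      rw [← hexp, mul_assoc, ← hprod]; exact ha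
    have := colon_step h (fun i => (Function.update I k (I k - 1)) i + 1) (by intro i; omega) k _ hmem
    exact colon_monomial h n _ a hI' this

/-- Quasi-regularity for a family indexed by an arbitrary finite type. -/
def IsQR (f : ι → R) : Prop :=
  ∀ (n : ℕ) (P : MvPolynomial ι R), P.IsHomogeneous n →
    MvPolynomial.eval f P ∈ Ideal.span (Set.range f) ^ (n + 1) →
      ∀ d : ι →₀ ℕ, P.coeff d ∈ Ideal.span (Set.range f)

omit [DecidableEq ι] in
theorem monomial_mem_pow (f : ι → R) (d : ι →₀ ℕ) :
    ∏ i, f i ^ d i ∈ Ideal.span (Set.range f) ^ d.degree := by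
  rw [Finsupp.degree_eq_sum, ← Finset.prod_pow_eq_pow_sum]
  exact Ideal.prod_mem_prod fun i _ => Ideal.pow_mem_pow (Ideal.subset_span (Set.mem_range_self i)) _

omit [DecidableEq ι] in
theorem monomial_mem_powIdeal (f : ι → R) (e : ι → ℕ) (d : ι → ℕ) (k : ι) (hk : e k ≤ d k) :
    ∏ i, f i ^ d i ∈ powIdeal f e := by
  have h1 : f k ^ e k ∣ ∏ i, f i ^ d i :=
    (pow_dvd_pow (f k) hk).trans (Finset.dvd_prod_of_mem (fun i => f i ^ d i) (mem_univ k))
  obtain ⟨c, hc⟩ := h1
  rw [hc]
  exact Ideal.mul_mem_right _ _ (Ideal.subset_span ⟨k, rfl⟩)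

theorem IsH1.isQR {f : ι → R} (h : IsH1 f) : IsQR f := by
  intro n P hP hev d
  by_cases hd : d.degree = n
  swap
  · rw [hP.coeff_eq_zero hd]; exact zero_mem _
  by_cases hds : d ∈ P.support
  swap
  · rw [MvPolynomial.notMem_support_iff.1 hds]; exact zero_mem _
  have hexp := MvPolynomial.eval_eq' f P
  rw [← Finset.add_sum_erase _ _ hds] at hexp
  apply colon_monomial h n (fun i => d i) (P.coeff d) (by rw [← hd, Finsupp.degree_eq_sum])
  have : P.coeff d * ∏ i, f i ^ d i = MvPolynomial.eval f P -
      ∑ x ∈ P.support.erase d, P.coeff x * ∏ i, f i ^ x i := by rw [hexp]; ring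
  rw [this]
  refine Ideal.sub_mem _ ?_ (Ideal.sum_mem _ fun x hx => Ideal.mul_mem_left _ _ ?_)
  · obtain ⟨Q, hQ, hQe⟩ := (Ideal.mem_span_pow_iff_exists_isHomogeneous f _).1 hev
    rw [← hQe, MvPolynomial.eval_eq' f Q]
    refine Ideal.sum_mem _ fun x hx => Ideal.mul_mem_left _ _ ?_
    have hxd : x.degree = n + 1 := by
      by_contra hne
      exact (MvPolynomial.mem_support_iff.1 hx) (hQ.coeff_eq_zero hne)
    obtain ⟨k, hk⟩ : ∃ k, d k + 1 ≤ x k := by
      by_contra hcon
      push Not at hcon
      have : ∑ i, x i ≤ ∑ i, d i := Finset.sum_le_sum fun i _ => Nat.lt_succ_iff.1 (hcon i)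
      rw [← Finsupp.degree_eq_sum, ← Finsupp.degree_eq_sum] at this
      omega
    exact monomial_mem_powIdeal f _ (fun i => x i) k hk
  · have hxs := Finset.mem_of_mem_erase hx
    have hxne := Finset.ne_of_mem_erase hx
    have hxd : x.degree = n := by
      by_contra hne
      exact (MvPolynomial.mem_support_iff.1 hxs) (hP.coeff_eq_zero hne)
    obtain ⟨k, hk⟩ : ∃ k, d k + 1 ≤ x k := by
      by_contra hcon
      push Not at hcon
      have hle : ∀ i ∈ (univ : Finset ι), x i ≤ d i := fun i _ => Nat.lt_succ_iff.1 (hcon i)
      have hsum : ∑ i, x i = ∑ i, d i := by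
        rw [← Finsupp.degree_eq_sum, ← Finsupp.degree_eq_sum, hxd, hd]
      have := (Finset.sum_eq_sum_iff_of_le hle).1 hsum
      exact hxne (Finsupp.ext fun i => this i (mem_univ i))
    exact monomial_mem_powIdeal f _ (fun i => x i) k hk

end Groth.Agent.Lib.Helper39.H1Reg
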