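import Groth.Agent.Lib.Helper39.H1RegRel

namespace Groth.Agent.Lib.Helper39.H1Reg

open Finset

universe u v w

set_option linter.unusedSectionVars false

variable {R : Type u} [CommRing R] {ι : Type v} [Fintype ι]
  {κ : Type w} [Fintype κ]

/-- Left part of a multi-index on a sum type. -/
noncomputable def spl (Dx : (ι ⊕ κ) →₀ ℕ) : ι →₀ ℕ :=
  Dx.comapDomain Sum.inl Sum.inl_injective.injOn

/-- Right part of a multi-index on a sum type. -/
noncomputable def spr (Dx : (ι ⊕ κ) →₀ ℕ) : κ →₀ ℕ :=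
  Dx.comapDomain Sum.inr Sum.inr_injective.injOn

omit [Fintype ι] [Fintype κ] in
@[simp] theorem spl_apply (Dx : (ι ⊕ κ) →₀ ℕ) (i : ι) : spl Dx i = Dx (Sum.inl i) := rfl

omit [Fintype ι] [Fintype κ] in
@[simp] theorem spr_apply (Dx : (ι ⊕ κ) →₀ ℕ) (j : κ) : spr Dx j = Dx (Sum.inr j) := rfl

omit [Fintype ι] [Fintype κ] in
theorem sp_ext {D D' : (ι ⊕ κ) →₀ ℕ} (h1 : spl D = spl D') (h2 : spr D = spr D') : D = D' := by
  ext x
  rcases x with i | j
  · exact DFunLike.congr_fun h1 i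
  · exact DFunLike.congr_fun h2 j

theorem degree_sp (D : (ι ⊕ κ) →₀ ℕ) : D.degree = (spl D).degree + (spr D).degree := by
  rw [Finsupp.degree_eq_sum, Finsupp.degree_eq_sum, Finsupp.degree_eq_sum, Fintype.sum_sum_type]
  rfl

theorem prod_sp (f : ι → R) (g : κ → R) (D : (ι ⊕ κ) →₀ ℕ) :
    ∏ x, Sum.elim f g x ^ D x = (∏ i, f i ^ spl D i) * ∏ j, g j ^ spr D j := by
  rw [Fintype.prod_sum_type]
  rfl

/-- The fibre polynomial over a right multi-index. -/
noncomputable def fib [DecidableEq κ] (P : MvPolynomial (ι ⊕ κ) R) (M : κ →₀ ℕ) :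
    MvPolynomial ι R :=
  ∑ Dx ∈ P.support.filter (fun Dx => spr Dx = M), MvPolynomial.monomial (spl Dx) (P.coeff Dx)

theorem fib_isHomogeneous [DecidableEq κ] {P : MvPolynomial (ι ⊕ κ) R} {n : ℕ}
    (hP : P.IsHomogeneous n) (M : κ →₀ ℕ) : (fib P M).IsHomogeneous (n - M.degree) := by
  refine MvPolynomial.IsHomogeneous.sum _ _ _ fun Dx hDx => ?_
  obtain ⟨hs, hM⟩ := Finset.mem_filter.1 hDx
  refine MvPolynomial.isHomogeneous_monomial _ ?_
  have hdeg : Dx.degree = n := by
    by_contra hne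
    exact (MvPolynomial.mem_support_iff.1 hs) (hP.coeff_eq_zero hne)
  have := degree_sp Dx
  rw [hM] at this
  omega

theorem coeff_fib_sp [DecidableEq ι] [DecidableEq κ] (P : MvPolynomial (ι ⊕ κ) R)
    (D : (ι ⊕ κ) →₀ ℕ) : (fib P (spr D)).coeff (spl D) = P.coeff D := by
  unfold fib
  rw [MvPolynomial.coeff_sum]
  simp only [MvPolynomial.coeff_monomial]
  by_cases hD : D ∈ P.support
  · rw [Finset.sum_eq_single D]
    · simp
    · intro b hb hbD
      have hb2 := (Finset.mem_filter.1 hb).2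
      rw [if_neg]
      intro h1
      exact hbD (sp_ext h1 hb2)
    · intro hD'
      exact absurd (Finset.mem_filter.2 ⟨hD, (rfl : spr D = spr D)⟩) hD'
  · rw [MvPolynomial.notMem_support_iff.1 hD]
    refine Finset.sum_eq_zero fun b hb => ?_
    obtain ⟨hbs, hb2⟩ := Finset.mem_filter.1 hb
    rw [if_neg]
    intro h1
    exact hD ((sp_ext h1 hb2) ▸ hbs)

theorem eval_fib [DecidableEq κ] (f : ι → R) (P : MvPolynomial (ι ⊕ κ) R) (M : κ →₀ ℕ) :
    MvPolynomial.eval f (fib P M) =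
      ∑ Dx ∈ P.support.filter (fun Dx => spr Dx = M), P.coeff Dx * ∏ i, f i ^ spl Dx i := by
  unfold fib
  rw [map_sum]
  refine Finset.sum_congr rfl fun Dx _ => ?_
  rw [MvPolynomial.eval_monomial, Finsupp.prod_pow]

/-- The polynomial in the right variables collecting the part of right degree `e`. -/
noncomputable def tpoly [DecidableEq κ] (f : ι → R) (P : MvPolynomial (ι ⊕ κ) R) (e : ℕ) :
    MvPolynomial κ R :=
  ∑ M ∈ (P.support.filter (fun Dx => (spr Dx).degree = e)).image spr,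
    MvPolynomial.monomial M (MvPolynomial.eval f (fib P M))

theorem tpoly_isHomogeneous [DecidableEq κ] (f : ι → R) (P : MvPolynomial (ι ⊕ κ) R) (e : ℕ) :
    (tpoly f P e).IsHomogeneous e := by
  refine MvPolynomial.IsHomogeneous.sum _ _ _ fun M hM => ?_
  obtain ⟨Dx, hDx, rfl⟩ := Finset.mem_image.1 hM
  exact MvPolynomial.isHomogeneous_monomial _ (Finset.mem_filter.1 hDx).2

theorem coeff_tpoly [DecidableEq κ] (f : ι → R) (P : MvPolynomial (ι ⊕ κ) R) (e : ℕ)
    {D : (ι ⊕ κ) →₀ ℕ} (hD : D ∈ P.support) (he : (spr D).degree = e) :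
    (tpoly f P e).coeff (spr D) = MvPolynomial.eval f (fib P (spr D)) := by
  unfold tpoly
  rw [MvPolynomial.coeff_sum]
  simp only [MvPolynomial.coeff_monomial]
  rw [Finset.sum_eq_single (spr D)]
  · simp
  · intro b _ hb
    rw [if_neg hb]
  · intro h
    exact absurd (Finset.mem_image.2 ⟨D, Finset.mem_filter.2 ⟨hD, he⟩, rfl⟩) h

theorem eval_tpoly [DecidableEq κ] (f : ι → R) (g : κ → R) (P : MvPolynomial (ι ⊕ κ) R) (e : ℕ) :
    MvPolynomial.eval g (tpoly f P e) =
      ∑ Dx ∈ P.support.filter (fun Dx => (spr Dx).degree = e),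
        P.coeff Dx * ∏ x, Sum.elim f g x ^ Dx x := by
  unfold tpoly
  rw [map_sum]
  simp only [MvPolynomial.eval_monomial, Finsupp.prod_pow]
  refine Finset.sum_image' _ fun Dx₀ hDx₀ => ?_
  have he := (Finset.mem_filter.1 hDx₀).2
  rw [eval_fib, Finset.sum_mul, Finset.filter_filter]
  refine Finset.sum_congr ?_ fun Dx hDx => ?_
  · ext Dx
    simp only [Finset.mem_filter]
    constructor
    · rintro ⟨h1, h2⟩
      exact ⟨h1, by rw [h2]; exact he, h2⟩
    · rintro ⟨h1, _, h2⟩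
      exact ⟨h1, h2⟩
  · have h2 := (Finset.mem_filter.1 hDx).2.2
    rw [prod_sp, h2]
    ring

theorem IsQR.sumElim [DecidableEq ι] [DecidableEq κ] {f : ι → R} {g : κ → R} (hf : IsQR f)
    (hg : IsH1 (fun j => Ideal.Quotient.mk (Ideal.span (Set.range f)) (g j))) :
    IsQR (Sum.elim f g) := by
  intro n P hP hev D₀
  have hL : Ideal.span (Set.range (Sum.elim f g)) =
      Ideal.span (Set.range f) ⊔ Ideal.span (Set.range g) := by
    rw [Set.Sum.elim_range, Ideal.span_union]
  rw [hL] at hev ⊢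
  by_cases hDs : D₀ ∈ P.support
  swap
  · rw [MvPolynomial.notMem_support_iff.1 hDs]; exact zero_mem _
  have hdeg : D₀.degree = n := by
    by_contra hne
    exact (MvPolynomial.mem_support_iff.1 hDs) (hP.coeff_eq_zero hne)
  obtain ⟨e, he⟩ : ∃ e, (spr D₀).degree = e := ⟨_, rfl⟩
  obtain ⟨D, hD⟩ : ∃ D, (spl D₀).degree = D := ⟨_, rfl⟩
  have hDe : D + e = n := by rw [← hdeg, degree_sp, hD, he]
  have hrel : RelH1 (Ideal.span (Set.range f)) g := relH1_of_isH1_mk hg
  have hrelpow := relH1_pow hf hrel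
  have hT : MvPolynomial.eval g (tpoly f P e) ∈
      Ideal.span (Set.range g) ^ (e + 1) ⊔ Ideal.span (Set.range f) ^ (D + 1) := by
    rw [eval_tpoly]
    have hsplit := Finset.sum_filter_add_sum_filter_not P.support
      (fun Dx => (spr Dx).degree = e) (fun Dx => P.coeff Dx * ∏ x, Sum.elim f g x ^ Dx x)
    have hevP : MvPolynomial.eval (Sum.elim f g) P =
        ∑ Dx ∈ P.support, P.coeff Dx * ∏ x, Sum.elim f g x ^ Dx x := MvPolynomial.eval_eq' _ _
    have : ∑ Dx ∈ P.support.filter (fun Dx => (spr Dx).degree = e),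
        P.coeff Dx * ∏ x, Sum.elim f g x ^ Dx x =
        MvPolynomial.eval (Sum.elim f g) P -
          ∑ Dx ∈ P.support.filter (fun Dx => ¬ (spr Dx).degree = e),
            P.coeff Dx * ∏ x, Sum.elim f g x ^ Dx x := by
      rw [hevP, ← hsplit]; ring
    rw [this]
    refine Ideal.sub_mem _ ?_ (Ideal.sum_mem _ fun Dx hDx => Ideal.mul_mem_left _ _ ?_)
    · have := sup_pow_succ_le (Ideal.span (Set.range f)) (Ideal.span (Set.range g)) D e
      rw [hDe] at this
      rw [sup_comm]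
      exact this hev
    · obtain ⟨hDxs, hne⟩ := Finset.mem_filter.1 hDx
      have hdx : Dx.degree = n := by
        by_contra hne'
        exact (MvPolynomial.mem_support_iff.1 hDxs) (hP.coeff_eq_zero hne')
      rw [prod_sp]
      have h1 := monomial_mem_pow f (spl Dx)
      have h2 := monomial_mem_pow g (spr Dx)
      have hsum := degree_sp Dx
      rcases Nat.lt_or_gt_of_ne hne with hlt | hgt
      · exact Ideal.mem_sup_right (Ideal.mul_mem_right _ _
          (Ideal.pow_le_pow_right (by omega) h1))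
      · exact Ideal.mem_sup_left (Ideal.mul_mem_left _ _
          (Ideal.pow_le_pow_right (by omega) h2))
  have hc2 := relQR_of_relH1 (hrelpow (D + 1)) e (tpoly f P e) (tpoly_isHomogeneous f P e) hT
    (spr D₀)
  rw [coeff_tpoly f P e hDs he] at hc2
  have hfibhom : (fib P (spr D₀)).IsHomogeneous D := by
    have := fib_isHomogeneous hP (spr D₀)
    have h2 : n - (spr D₀).degree = D := by omega
    rwa [h2] at this
  have hcJ : MvPolynomial.eval f (fib P (spr D₀)) ∈ Ideal.span (Set.range f) ^ D :=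
    (Ideal.mem_span_pow_iff_exists_isHomogeneous f _).2 ⟨_, hfibhom, rfl⟩
  have hc3 := mem_mul_sup_of_relH1 (hrelpow D) hcJ hc2 (Ideal.pow_le_pow_right (Nat.le_succ D))
  obtain ⟨z, hz, w, hw, hzw⟩ := Submodule.mem_sup.1 hc3
  obtain ⟨U, hU, hUc, hUe⟩ := exists_poly_of_mem_pow_mul f _ D hz
  have hV : MvPolynomial.eval f (fib P (spr D₀) - U) ∈ Ideal.span (Set.range f) ^ (D + 1) := by
    rw [map_sub, hUe, ← hzw]
    simpa using hw
  have hfin := hf D _ (hfibhom.sub hU) hV (spl D₀)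
  rw [MvPolynomial.coeff_sub, coeff_fib_sp] at hfin
  have h3 : P.coeff D₀ = (P.coeff D₀ - U.coeff (spl D₀)) + U.coeff (spl D₀) := by ring
  rw [h3]
  exact Ideal.add_mem _ (Ideal.mem_sup_left hfin) (Ideal.mem_sup_right (hUc _))

end Groth.Agent.Lib.Helper39.H1Reg
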