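import Groth.Agent.Lib.Helper39.H1RegSum

namespace Groth.Agent.Lib.Helper39.H1Reg

open Finset

universe u v w

variable {R : Type u} [CommRing R] {ι : Type v} [Fintype ι] [DecidableEq ι]
  {κ : Type w} [Fintype κ] [DecidableEq κ]

theorem IsQR.comp_equiv {f : ι → R} (h : IsQR f) (e : κ ≃ ι) : IsQR (f ∘ e) := by
  intro n P hP hev d
  have hrange : Set.range (f ∘ e) = Set.range f := e.surjective.range_comp f
  rw [hrange] at hev ⊢
  have := h n (MvPolynomial.rename e P) (hP.rename_isHomogeneous)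
    (by rwa [MvPolynomial.eval_rename]) (d.mapDomain e)
  rwa [MvPolynomial.coeff_rename_mapDomain e e.injective] at this

/-- `H_1`-regularity of `g` modulo an ideal, phrased in the ring itself. -/
def RelH1 (𝔞 : Ideal R) (g : κ → R) : Prop :=
  ∀ b : κ → R, ∑ j, b j * g j ∈ 𝔞 →
    ∃ c : κ → κ → R, ∀ j, b j - ∑ l, (c j l - c l j) * g l ∈ 𝔞

theorem relH1_of_isH1_mk {𝔞 : Ideal R} {g : κ → R}
    (hg : IsH1 (fun j => Ideal.Quotient.mk 𝔞 (g j))) : RelH1 𝔞 g := by
  intro b hb
  have hb' : ∑ j, (Ideal.Quotient.mk 𝔞 (b j)) * (Ideal.Quotient.mk 𝔞 (g j)) = 0 := by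
    simp only [← map_mul, ← map_sum]
    rwa [Ideal.Quotient.eq_zero_iff_mem]
  obtain ⟨cbar, hcbar⟩ := (mem_kos_iff _ _).1 (hg _ hb')
  choose c hc using fun j l => Ideal.Quotient.mk_surjective (I := 𝔞) (cbar j l)
  refine ⟨c, fun j => ?_⟩
  rw [← Ideal.Quotient.eq_zero_iff_mem, map_sub, map_sum, hcbar j, sub_eq_zero]
  refine Finset.sum_congr rfl fun l _ => ?_
  rw [map_mul, map_sub, hc, hc]

theorem isH1_mk_of_relH1 {𝔞 : Ideal R} {g : κ → R} (hg : RelH1 𝔞 g) :
    IsH1 (fun j => Ideal.Quotient.mk 𝔞 (g j)) := by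
  intro bbar hbbar
  choose b hb using fun j => Ideal.Quotient.mk_surjective (I := 𝔞) (bbar j)
  have hmem : ∑ j, b j * g j ∈ 𝔞 := by
    rw [← Ideal.Quotient.eq_zero_iff_mem, map_sum, ← hbbar]
    refine Finset.sum_congr rfl fun j _ => ?_
    rw [map_mul, hb]
  obtain ⟨c, hc⟩ := hg b hmem
  refine (mem_kos_iff _ _).2 ⟨fun j l => Ideal.Quotient.mk 𝔞 (c j l), fun j => ?_⟩
  have := hc j
  rw [← Ideal.Quotient.eq_zero_iff_mem, map_sub, map_sum, sub_eq_zero, hb] at this
  rw [this]
  refine Finset.sum_congr rfl fun l _ => ?_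
  rw [map_mul, map_sub]

theorem relQR_of_relH1 {𝔞 : Ideal R} {g : κ → R} (hg : RelH1 𝔞 g) (e : ℕ)
    (P : MvPolynomial κ R) (hP : P.IsHomogeneous e)
    (hev : MvPolynomial.eval g P ∈ Ideal.span (Set.range g) ^ (e + 1) ⊔ 𝔞) (M : κ →₀ ℕ) :
    P.coeff M ∈ Ideal.span (Set.range g) ⊔ 𝔞 := by
  have h1 : IsH1 (fun j => Ideal.Quotient.mk 𝔞 (g j)) := isH1_mk_of_relH1 hg
  have hmap : Ideal.span (Set.range fun j => Ideal.Quotient.mk 𝔞 (g j)) =
      (Ideal.span (Set.range g)).map (Ideal.Quotient.mk 𝔞) := by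
    rw [Ideal.map_span, ← Set.range_comp]; rfl
  have heval : MvPolynomial.eval (fun j => Ideal.Quotient.mk 𝔞 (g j))
      (MvPolynomial.map (Ideal.Quotient.mk 𝔞) P) =
      Ideal.Quotient.mk 𝔞 (MvPolynomial.eval g P) := by
    rw [MvPolynomial.eval_map, MvPolynomial.eval₂_comp]
    rfl
  have h2 := h1.isQR e (MvPolynomial.map (Ideal.Quotient.mk 𝔞) P) (hP.map _) ?_ M
  · rw [MvPolynomial.coeff_map, hmap] at h2
    obtain ⟨y, hy, hye⟩ := (Ideal.mem_map_iff_of_surjective _ Ideal.Quotient.mk_surjective).1 h2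
    have hz : P.coeff M - y ∈ 𝔞 := by
      rw [← Ideal.Quotient.eq_zero_iff_mem, map_sub, hye, sub_self]
    have : P.coeff M = y + (P.coeff M - y) := by ring
    rw [this]
    exact Ideal.add_mem _ (Ideal.mem_sup_left hy) (Ideal.mem_sup_right hz)
  · rw [hmap, ← Ideal.map_pow, heval]
    obtain ⟨y, hy, z, hz, hyz⟩ := Submodule.mem_sup.1 hev
    rw [← hyz, map_add, (Ideal.Quotient.eq_zero_iff_mem).2 hz, add_zero]
    exact Ideal.mem_map_of_mem _ hy

theorem relH1_top (g : κ → R) : RelH1 (⊤ : Ideal R) g := fun _ _ => ⟨0, fun _ => Submodule.mem_top⟩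

theorem relH1_pow {f : ι → R} {g : κ → R} (hf : IsQR f)
    (hg : RelH1 (Ideal.span (Set.range f)) g) :
    ∀ d : ℕ, RelH1 (Ideal.span (Set.range f) ^ d) g := by
  intro d
  induction d with
  | zero => rw [pow_zero, Ideal.one_eq_top]; exact relH1_top g
  | succ d ih =>
    rcases Nat.eq_zero_or_pos d with rfl | hd
    · simpa using hg
    intro b hb
    obtain ⟨c, hc⟩ := ih b (Ideal.pow_le_pow_right (Nat.le_succ d) hb)
    choose Q hQ hQe using fun j => (Ideal.mem_span_pow_iff_exists_isHomogeneous f _).1 (hc j)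
    have hT : (∑ j, MvPolynomial.C (g j) * Q j).IsHomogeneous d :=
      MvPolynomial.IsHomogeneous.sum _ _ _ (fun j _ => (hQ j).C_mul (g j))
    have hTe : MvPolynomial.eval f (∑ j, MvPolynomial.C (g j) * Q j) ∈
        Ideal.span (Set.range f) ^ (d + 1) := by
      have : MvPolynomial.eval f (∑ j, MvPolynomial.C (g j) * Q j) = ∑ j, b j * g j := by
        rw [map_sum]
        have h1 : ∀ j, MvPolynomial.eval f (MvPolynomial.C (g j) * Q j) =
            b j * g j - (∑ l, (c j l - c l j) * g l) * g j := by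
          intro j
          rw [map_mul, MvPolynomial.eval_C, hQe j]; ring
        simp only [h1, Finset.sum_sub_distrib, antisymm_sum_zero, sub_zero]
      rw [this]; exact hb
    have hcoef := hf d _ hT hTe
    have hrel : ∀ N, ∑ j, (Q j).coeff N * g j ∈ Ideal.span (Set.range f) := by
      intro N
      have := hcoef N
      rw [MvPolynomial.coeff_sum] at this
      simp only [MvPolynomial.coeff_C_mul] at this
      convert this using 2 with j
      ring
    choose cN hcN using fun N => hg (fun j => (Q j).coeff N) (hrel N)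
    refine ⟨fun j l => c j l + ∑ N ∈ Finset.biUnion univ (fun j => (Q j).support),
      (∏ i, f i ^ N i) * cN N j l, fun j => ?_⟩
    have hexp : MvPolynomial.eval f (Q j) =
        ∑ N ∈ Finset.biUnion univ (fun j => (Q j).support), (Q j).coeff N * ∏ i, f i ^ N i := by
      rw [MvPolynomial.eval_eq']
      refine Finset.sum_subset (Finset.subset_biUnion_of_mem (fun j => (Q j).support) (mem_univ j))
        fun N _ hN => ?_
      rw [MvPolynomial.notMem_support_iff.1 hN, zero_mul]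
    have hB : ∑ l, ((∑ N ∈ Finset.biUnion univ (fun j => (Q j).support),
          (∏ i, f i ^ N i) * cN N j l) -
        (∑ N ∈ Finset.biUnion univ (fun j => (Q j).support), (∏ i, f i ^ N i) * cN N l j)) * g l =
        ∑ N ∈ Finset.biUnion univ (fun j => (Q j).support),
          (∏ i, f i ^ N i) * ∑ l, (cN N j l - cN N l j) * g l := by
      simp only [← Finset.sum_sub_distrib, Finset.sum_mul, Finset.mul_sum]
      rw [Finset.sum_comm]
      refine Finset.sum_congr rfl fun N _ => Finset.sum_congr rfl fun l _ => ?_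
      ring
    have key : b j - ∑ l, ((c j l + ∑ N ∈ Finset.biUnion univ (fun j => (Q j).support),
          (∏ i, f i ^ N i) * cN N j l) -
        (c l j + ∑ N ∈ Finset.biUnion univ (fun j => (Q j).support),
          (∏ i, f i ^ N i) * cN N l j)) * g l =
        ∑ N ∈ Finset.biUnion univ (fun j => (Q j).support),
          (∏ i, f i ^ N i) * ((Q j).coeff N - ∑ l, (cN N j l - cN N l j) * g l) := by
      have hsplit : ∑ l, ((c j l + ∑ N ∈ Finset.biUnion univ (fun j => (Q j).support),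
          (∏ i, f i ^ N i) * cN N j l) -
        (c l j + ∑ N ∈ Finset.biUnion univ (fun j => (Q j).support),
          (∏ i, f i ^ N i) * cN N l j)) * g l =
          ∑ l, (c j l - c l j) * g l +
          ∑ l, ((∑ N ∈ Finset.biUnion univ (fun j => (Q j).support),
            (∏ i, f i ^ N i) * cN N j l) -
          (∑ N ∈ Finset.biUnion univ (fun j => (Q j).support),
            (∏ i, f i ^ N i) * cN N l j)) * g l := by
        rw [← Finset.sum_add_distrib]
        refine Finset.sum_congr rfl fun l _ => ?_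
        ring
      rw [hsplit, hB]
      have : b j - (∑ l, (c j l - c l j) * g l + ∑ N ∈ Finset.biUnion univ (fun j => (Q j).support),
          (∏ i, f i ^ N i) * ∑ l, (cN N j l - cN N l j) * g l) =
          MvPolynomial.eval f (Q j) - ∑ N ∈ Finset.biUnion univ (fun j => (Q j).support),
          (∏ i, f i ^ N i) * ∑ l, (cN N j l - cN N l j) * g l := by
        rw [hQe j]; ring
      rw [this, hexp, ← Finset.sum_sub_distrib]
      refine Finset.sum_congr rfl fun N _ => ?_
      ring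
    rw [key]
    refine Ideal.sum_mem _ fun N hN => ?_
    rw [pow_succ]
    refine Ideal.mul_mem_mul ?_ (hcN N j)
    obtain ⟨j', _, hj'⟩ := Finset.mem_biUnion.1 hN
    have hdeg : N.degree = d := by
      by_contra hne
      exact (MvPolynomial.mem_support_iff.1 hj') ((hQ j').coeff_eq_zero hne)
    rw [← hdeg]
    exact monomial_mem_pow f N

omit [DecidableEq κ] in
theorem mem_mul_sup_of_relH1 [DecidableEq κ] {𝔞 𝔟 : Ideal R} {g : κ → R} (hg : RelH1 𝔞 g) {x : R}
    (hx : x ∈ 𝔞) (hx2 : x ∈ Ideal.span (Set.range g) ⊔ 𝔟) (h𝔟 : 𝔟 ≤ 𝔞) :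
    x ∈ 𝔞 * Ideal.span (Set.range g) ⊔ 𝔟 := by
  obtain ⟨y, hy, z, hz, hyz⟩ := Submodule.mem_sup.1 hx2
  obtain ⟨b, hb⟩ := (Ideal.mem_span_range_iff_exists_fun).1 hy
  have hmem : ∑ j, b j * g j ∈ 𝔞 := by
    rw [hb]
    have : y = x - z := by rw [← hyz]; ring
    rw [this]
    exact sub_mem hx (h𝔟 hz)
  obtain ⟨c, hc⟩ := hg b hmem
  have hy' : y = ∑ j, (b j - ∑ l, (c j l - c l j) * g l) * g j := by
    have h1 : ∑ j, (b j - ∑ l, (c j l - c l j) * g l) * g j =
        ∑ j, b j * g j - ∑ j, (∑ l, (c j l - c l j) * g l) * g j := by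
      rw [← Finset.sum_sub_distrib]
      refine Finset.sum_congr rfl fun j _ => ?_
      ring
    rw [h1, antisymm_sum_zero, sub_zero, hb]
  rw [← hyz, hy']
  refine Ideal.add_mem _ (Ideal.mem_sup_left (Ideal.sum_mem _ fun j _ => ?_)) (Ideal.mem_sup_right hz)
  exact Ideal.mul_mem_mul (hc j) (Ideal.subset_span (Set.mem_range_self j))

omit [DecidableEq ι] in
theorem exists_poly_of_mem_pow_mul (f : ι → R) (G : Ideal R) (D : ℕ) {z : R}
    (hz : z ∈ Ideal.span (Set.range f) ^ D * G) :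
    ∃ U : MvPolynomial ι R, U.IsHomogeneous D ∧ (∀ N, U.coeff N ∈ G) ∧
      MvPolynomial.eval f U = z := by
  induction hz using Submodule.mul_induction_on' with
  | mem_mul_mem x hx w hw =>
    obtain ⟨Q, hQ, hQe⟩ := (Ideal.mem_span_pow_iff_exists_isHomogeneous f _).1 hx
    refine ⟨MvPolynomial.C w * Q, hQ.C_mul w, fun N => ?_, ?_⟩
    · rw [MvPolynomial.coeff_C_mul]; exact Ideal.mul_mem_right _ _ hw
    · rw [map_mul, MvPolynomial.eval_C, hQe, mul_comm]
  | add x _ y _ hx hy =>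
    obtain ⟨U, hU, hUc, hUe⟩ := hx
    obtain ⟨V, hV, hVc, hVe⟩ := hy
    refine ⟨U + V, hU.add hV, fun N => ?_, by rw [map_add, hUe, hVe]⟩
    rw [MvPolynomial.coeff_add]; exact Ideal.add_mem _ (hUc N) (hVc N)

theorem sup_pow_succ_le (I J : Ideal R) (n m : ℕ) :
    (I ⊔ J) ^ (n + m + 1) ≤ I ^ (n + 1) ⊔ J ^ (m + 1) := by
  rw [← Ideal.add_eq_sup, ← Ideal.add_eq_sup, add_pow, Ideal.sum_eq_sup]
  apply Finset.sup_le
  intro i hi
  by_cases hn : n + 1 ≤ i
  · exact (Ideal.mul_le_left.trans (Ideal.mul_le_left.trans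
      ((Ideal.pow_le_pow_right hn).trans le_sup_left)))
  · refine (Ideal.mul_le_left.trans (Ideal.mul_le_right.trans
      ((Ideal.pow_le_pow_right ?_).trans le_sup_right)))
    omega

end Groth.Agent.Lib.Helper39.H1Reg
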