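import Groth.Agent.Lib.Helper39.H1Reg

namespace Groth.Agent.Lib.Helper39.H1Reg

open Finset

universe u v w

variable {R : Type u} [CommRing R] {ι : Type v} [Fintype ι] [DecidableEq ι]
  {κ : Type w} [Fintype κ] [DecidableEq κ]

theorem IsH1.comp_equiv {f : ι → R} (h : IsH1 f) (e : κ ≃ ι) : IsH1 (f ∘ e) := by
  intro a ha
  have ha' : ∑ i, (a ∘ e.symm) i * f i = 0 := by
    rw [← ha, ← Equiv.sum_comp e]
    simp
  obtain ⟨c, hc⟩ := (mem_kos_iff _ _).1 (h _ ha')
  refine (mem_kos_iff _ _).2 ⟨fun k l => c (e k) (e l), fun k => ?_⟩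
  have := hc (e k)
  simp only [Function.comp_apply, Equiv.symm_apply_apply] at this
  rw [this, ← Equiv.sum_comp e]
  simp

theorem antisymm_sum_zero (c : κ → κ → R) (g : κ → R) :
    ∑ j, (∑ l, (c j l - c l j) * g l) * g j = 0 := by
  have h1 : ∑ j, (∑ l, (c j l - c l j) * g l) * g j =
      ∑ j, ∑ l, c j l * g l * g j - ∑ j, ∑ l, c l j * g l * g j := by
    rw [← Finset.sum_sub_distrib]
    refine Finset.sum_congr rfl fun j _ => ?_
    rw [Finset.sum_mul, ← Finset.sum_sub_distrib]
    refine Finset.sum_congr rfl fun l _ => ?_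
    ring
  rw [h1, Finset.sum_comm (f := fun j l => c l j * g l * g j), sub_eq_zero]
  refine Finset.sum_congr rfl fun j _ => Finset.sum_congr rfl fun l _ => ?_
  ring

theorem IsH1.sumElim {f : ι → R} {g : κ → R} (hf : IsH1 f)
    (hg : IsH1 (fun j => Ideal.Quotient.mk (Ideal.span (Set.range f)) (g j))) :
    IsH1 (Sum.elim f g) := by
  intro a ha
  rw [Fintype.sum_sum_type] at ha
  simp only [Sum.elim_inl, Sum.elim_inr] at ha
  have hb : ∑ j, (Ideal.Quotient.mk (Ideal.span (Set.range f)) (a (Sum.inr j))) *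
      (Ideal.Quotient.mk (Ideal.span (Set.range f)) (g j)) = 0 := by
    simp only [← map_mul, ← map_sum]
    rw [Ideal.Quotient.eq_zero_iff_mem]
    have : ∑ j, a (Sum.inr j) * g j = - ∑ i, a (Sum.inl i) * f i := by linear_combination ha
    rw [this]
    exact neg_mem (Ideal.sum_mem _ fun i _ =>
      Ideal.mul_mem_left _ _ (Ideal.subset_span (Set.mem_range_self i)))
  obtain ⟨cbar, hcbar⟩ := (mem_kos_iff _ _).1 (hg _ hb)
  choose c hc using fun j l =>
    Ideal.Quotient.mk_surjective (I := Ideal.span (Set.range f)) (cbar j l)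
  have hmem : ∀ j, a (Sum.inr j) - ∑ l, (c j l - c l j) * g l ∈ Ideal.span (Set.range f) := by
    intro j
    rw [← Ideal.Quotient.eq_zero_iff_mem, map_sub, map_sum, hcbar j, sub_eq_zero]
    refine Finset.sum_congr rfl fun l _ => ?_
    rw [map_mul, map_sub, hc, hc]
  choose d hd using fun j => (Ideal.mem_span_range_iff_exists_fun).1 (hmem j)
  have ha' : ∑ i, (a (Sum.inl i) + ∑ j, d j i * g j) * f i = 0 := by
    have h1 : ∑ i, (a (Sum.inl i) + ∑ j, d j i * g j) * f i =
        ∑ i, a (Sum.inl i) * f i + ∑ j, (∑ i, d j i * f i) * g j := by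
      simp only [add_mul, Finset.sum_add_distrib, Finset.sum_mul]
      congr 1
      rw [Finset.sum_comm]
      refine Finset.sum_congr rfl fun j _ => Finset.sum_congr rfl fun i _ => ?_
      ring
    have h2 : ∑ j, (∑ i, d j i * f i) * g j =
        ∑ j, a (Sum.inr j) * g j - ∑ j, (∑ l, (c j l - c l j) * g l) * g j := by
      rw [← Finset.sum_sub_distrib]
      refine Finset.sum_congr rfl fun j _ => ?_
      rw [hd j]; ring
    rw [h1, h2, antisymm_sum_zero]
    linear_combination ha
  obtain ⟨γ, hγ⟩ := (mem_kos_iff _ _).1 (hf _ ha')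
  refine (mem_kos_iff _ _).2 ⟨fun x y =>
    Sum.elim (fun i => Sum.elim (fun i' => γ i i') (fun _ => 0) y)
      (fun j => Sum.elim (fun i => d j i) (fun l => c j l) y) x, ?_⟩
  rintro (i | j)
  · simp only [Fintype.sum_sum_type, Sum.elim_inl, Sum.elim_inr]
    have h1 := hγ i
    have h2 : ∑ x, (0 - d x i) * g x = - ∑ j, d j i * g j := by
      rw [← Finset.sum_neg_distrib]
      refine Finset.sum_congr rfl fun j _ => ?_
      ring
    rw [h2]
    linear_combination h1
  · simp only [Fintype.sum_sum_type, Sum.elim_inl, Sum.elim_inr]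
    have h1 := hd j
    have h2 : ∑ x, (d j x - 0) * f x = ∑ i, d j i * f i := by
      refine Finset.sum_congr rfl fun i _ => ?_
      ring
    rw [h2]
    linear_combination (-1 : R) * h1

theorem append_eq_sumElim {A : Type u} {n m : ℕ} (f : Fin n → A) (g : Fin m → A) :
    Fin.append f g = Sum.elim f g ∘ finSumFinEquiv.symm := by
  funext x
  refine Fin.addCases (fun i => ?_) (fun j => ?_) x
  · simp
  · simp

end Groth.Agent.Lib.Helper39.H1Reg
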