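import Groth.Agent.Lib.Helper39.KoszulH1
import Mathlib.RingTheory.Regular.RegularSequence

set_option autoImplicit false
universe u v

namespace Groth.Agent.Lib.Helper39.KH1

variable {A : Type u} [CommRing A] {M : Type v} [AddCommGroup M] [Module A M]

def snocZero (A : Type u) [CommRing A] (M : Type v) [AddCommGroup M] [Module A M] (n : ℕ) :
    (Fin n → M) →ₗ[A] (Fin (n + 1) → M) where
  toFun v := Fin.snoc (α := fun _ => M) v 0
  map_add' v w := by
    funext i
    induction i using Fin.lastCases with
    | last => simp
    | cast i => simp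
  map_smul' a v := by
    funext i
    induction i using Fin.lastCases with
    | last => simp
    | cast i => simp

theorem snocZero_castSucc {n : ℕ} (v : Fin n → M) (i : Fin n) :
    snocZero A M n v i.castSucc = v i := by
  simp [snocZero]

theorem snocZero_last {n : ℕ} (v : Fin n → M) :
    snocZero A M n v (Fin.last n) = 0 := by
  simp [snocZero]

theorem snocZero_single {n : ℕ} (i : Fin n) (x : M) :
    snocZero A M n (Pi.single i x) = (Pi.single i.castSucc x : Fin (n + 1) → M) := by
  funext k
  induction k using Fin.lastCases with
  | last => rw [snocZero_last, single_castSucc_last]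
  | cast k => rw [snocZero_castSucc, single_castSucc_castSucc]

theorem snocZero_mem_span {n : ℕ} (f : Fin (n + 1) → A) (v : Fin n → M)
    (hv : v ∈ Submodule.span A (trivSet (fun i : Fin n => f i.castSucc) M)) :
    snocZero A M n v ∈ Submodule.span A (trivSet f M) := by
  have hle : Submodule.span A (trivSet (fun i : Fin n => f i.castSucc) M) ≤
      (Submodule.span A (trivSet f M)).comap (snocZero A M n) := by
    rw [Submodule.span_le]
    rintro _ ⟨i, j, x, rfl⟩
    rw [SetLike.mem_coe, Submodule.mem_comap, map_sub, map_smul, map_smul, snocZero_single,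
      snocZero_single]
    exact Submodule.subset_span ⟨i.castSucc, j.castSucc, x, rfl⟩
  exact hle hv

theorem ofList_ofFn {n : ℕ} (f : Fin n → A) :
    Ideal.ofList (List.ofFn f) = Ideal.span (Set.range f) := by
  unfold Ideal.ofList
  congr 1
  ext a
  simp only [Set.mem_ofPred_eq, List.mem_ofFn, Set.mem_range]

theorem koszulH1Zero_of_isWeaklyRegular :
    ∀ (n : ℕ) (f : Fin n → A), RingTheory.Sequence.IsWeaklyRegular M (List.ofFn f) →
      CInt.KoszulH1Zero f M := by
  intro n
  induction n with
  | zero =>
    intro f _ m _
    have : m = 0 := Subsingleton.elim _ _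
    rw [this]
    exact Submodule.zero_mem _
  | succ n ih =>
    intro f hreg m hm
    rw [List.ofFn_succ', List.concat_eq_append, RingTheory.Sequence.isWeaklyRegular_append_iff,
      RingTheory.Sequence.isWeaklyRegular_singleton_iff] at hreg
    obtain ⟨hreg', hlast⟩ := hreg
    have ih' := ih _ hreg'
    rw [ofList_ofFn] at hlast
    rw [Fin.sum_univ_castSucc] at hm
    have h1 : f (Fin.last n) • m (Fin.last n) ∈
        Ideal.span (Set.range fun i : Fin n => f i.castSucc) • (⊤ : Submodule A M) := by
      rw [mem_span_range_smul_top]
      refine ⟨fun i => - m i.castSucc, ?_⟩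
      simp only [smul_neg, Finset.sum_neg_distrib]
      exact eq_neg_of_add_eq_zero_right hm
    have h2 : m (Fin.last n) ∈
        Ideal.span (Set.range fun i : Fin n => f i.castSucc) • (⊤ : Submodule A M) := by
      rw [← Submodule.Quotient.mk_eq_zero] at h1 ⊢
      rw [Submodule.Quotient.mk_smul] at h1
      exact (isSMulRegular_iff_right_eq_zero_of_smul.mp hlast) _ h1
    obtain ⟨y, hy⟩ := (mem_span_range_smul_top _ _).mp h2
    let t : Fin (n + 1) → M := ∑ i : Fin n,
      (f i.castSucc • (Pi.single (Fin.last n) (y i) : Fin (n + 1) → M) -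
        f (Fin.last n) • (Pi.single i.castSucc (y i) : Fin (n + 1) → M))
    have ht : t ∈ Submodule.span A (trivSet f M) :=
      Submodule.sum_mem _ fun i _ => Submodule.subset_span ⟨Fin.last n, i.castSucc, y i, rfl⟩
    have htlast : t (Fin.last n) = m (Fin.last n) := by
      simp only [t, Finset.sum_apply, Pi.sub_apply, Pi.smul_apply, Pi.single_eq_same,
        single_castSucc_last, smul_zero, sub_zero]
      exact hy.symm
    have htcast : ∀ k : Fin n, t k.castSucc = - (f (Fin.last n) • y k) := by
      intro k
      simp only [t, Finset.sum_apply, Pi.sub_apply, Pi.smul_apply, single_last_castSucc,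
        smul_zero, zero_sub, single_castSucc_castSucc, Finset.sum_neg_distrib]
      congr 1
      rw [Finset.sum_eq_single k]
      · rw [Pi.single_eq_same]
      · intro i _ hik
        rw [Pi.single_eq_of_ne hik.symm, smul_zero]
      · intro hk; exact absurd (Finset.mem_univ k) hk
    let w : Fin n → M := fun k => m k.castSucc + f (Fin.last n) • y k
    have hw : ∑ k, f k.castSucc • w k = 0 := by
      simp only [w, smul_add, Finset.sum_add_distrib]
      have : ∑ k : Fin n, f k.castSucc • f (Fin.last n) • y k =
          f (Fin.last n) • m (Fin.last n) := by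
        rw [hy, Finset.smul_sum]
        apply Finset.sum_congr rfl
        intro k _
        rw [smul_smul, smul_smul, mul_comm]
      rw [this]
      exact hm
    have hw' := ih' w hw
    have hm_eq : m = snocZero A M n w + t := by
      funext k
      induction k using Fin.lastCases with
      | last => rw [Pi.add_apply, snocZero_last, zero_add, htlast]
      | cast k =>
        rw [Pi.add_apply, snocZero_castSucc, htcast]
        simp only [w]
        abel
    rw [hm_eq]
    exact Submodule.add_mem _ (snocZero_mem_span f w hw') ht

theorem koszulH1Zero_of_exact {M' M'' : Type v} [AddCommGroup M'] [Module A M']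
    [AddCommGroup M''] [Module A M''] (i : M' →ₗ[A] M) (p : M →ₗ[A] M'')
    (hp : Function.Surjective p) (hex : Function.Exact i p) {n : ℕ} (f : Fin n → A)
    (hM : CInt.KoszulH1Zero f M)
    (hinj : ∀ x : M', i x ∈ Ideal.span (Set.range f) • (⊤ : Submodule A M) →
      x ∈ Ideal.span (Set.range f) • (⊤ : Submodule A M')) :
    CInt.KoszulH1Zero f M'' := by
  intro m'' hm''
  choose m hmm using fun k => hp (m'' k)
  have h0 : p (∑ k, f k • m k) = 0 := by
    rw [map_sum]
    simp only [map_smul, hmm]
    exact hm''
  obtain ⟨y, hy⟩ := (hex _).mp h0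
  have hy1 : i y ∈ Ideal.span (Set.range f) • (⊤ : Submodule A M) := by
    rw [hy, mem_span_range_smul_top]
    exact ⟨m, rfl⟩
  obtain ⟨z, hz⟩ := (mem_span_range_smul_top _ _).mp (hinj y hy1)
  let v : Fin n → M := fun k => m k - i (z k)
  have hv : ∑ k, f k • v k = 0 := by
    simp only [v, smul_sub, Finset.sum_sub_distrib]
    rw [← hy, hz, map_sum]
    simp only [map_smul, sub_self]
  have hvs := hM v hv
  have hle : Submodule.span A (trivSet f M) ≤
      (Submodule.span A (trivSet f M'')).comap (p.compLeft (Fin n)) := by
    rw [Submodule.span_le]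
    rintro _ ⟨a, b, x, rfl⟩
    rw [SetLike.mem_coe, Submodule.mem_comap, map_sub, map_smul, map_smul]
    have hs : ∀ (c : Fin n), p.compLeft (Fin n) (Pi.single c x) = Pi.single c (p x) := by
      intro c
      funext k
      rw [LinearMap.compLeft_apply, Function.comp_apply, Pi.single_apply, Pi.single_apply]
      split_ifs
      · rfl
      · exact map_zero p
    rw [hs, hs]
    exact Submodule.subset_span ⟨a, b, p x, rfl⟩
  have := hle hvs
  rw [Submodule.mem_comap] at this
  have hpv : p.compLeft (Fin n) v = m'' := by
    funext k
    rw [LinearMap.compLeft_apply, Function.comp_apply]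
    simp only [v, map_sub, hmm]
    have : p (i (z k)) = 0 := (hex _).mpr ⟨_, rfl⟩
    rw [this, sub_zero]
  rw [hpv] at this
  exact this

end Groth.Agent.Lib.Helper39.KH1
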