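import Mathlib

/-!
`ring_core` (sub-call RC of helper1 for S5340): if a principal localization of `K ⊗[k] B` is of finite
type over the field `K`, then around the image of any prime of that localization there is a principal
localization of `B` of finite type over `k`.
-/

set_option autoImplicit false
set_option linter.style.haveILetI false
set_option linter.unusedSimpArgs false
universe u

namespace Groth.Agent.Lib.Helper39.LftRC

open TensorProduct

section
variable {k K B : Type u} [Field k] [Field K] [CommRing B] [Algebra k K] [Algebra k B]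

/-- the comparison map `K ⊗ C → K ⊗ B` -/
noncomputable abbrev jC (C : Subalgebra k B) : K ⊗[k] C →ₐ[K] K ⊗[k] B :=
  Algebra.TensorProduct.map (AlgHom.id K K) C.val

lemma baseChange_mono {C C' : Subalgebra k B} (h : C ≤ C') :
    C.baseChange K ≤ C'.baseChange K := by
  rintro _ ⟨y, rfl⟩
  induction y using TensorProduct.induction_on with
  | zero => simp
  | tmul a c =>
    exact Subalgebra.tmul_mem_baseChange (h c.2) a
  | add x y hx hy =>
    rw [map_add]
    exact Subalgebra.add_mem _ hx hy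

/-- finitely many elements of `K ⊗ B` lie in the base change of a finitely generated subalgebra -/
lemma exists_fg_forall_mem (G : Finset (K ⊗[k] B)) :
    ∃ C : Subalgebra k B, C.FG ∧ ∀ x ∈ G, x ∈ C.baseChange K := by
  classical
  induction G using Finset.induction_on with
  | empty => exact ⟨⊥, Subalgebra.fg_bot, fun x hx => absurd hx (Finset.notMem_empty x)⟩
  | insert a s _ ih =>
    obtain ⟨C₁, h₁, h₁'⟩ := ih
    obtain ⟨C₂, h₂, h₂'⟩ := exists_fg_and_mem_baseChange (R := k) (A := K) (B := B) a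
    refine ⟨C₁ ⊔ C₂, h₁.sup h₂, fun x hx => ?_⟩
    rcases Finset.mem_insert.1 hx with rfl | hx
    · exact baseChange_mono le_sup_right h₂'
    · exact baseChange_mono le_sup_left (h₁' x hx)

/-- Step 1: a finitely generated `C ⊆ B` such that `f'` comes from `K ⊗ C` and every element of
`K ⊗ B` is pushed into `K ⊗ C` by a power of `f'`. -/
lemma exists_pow_mul_mem (f' : K ⊗[k] B) (hft : Algebra.FiniteType K (Localization.Away f')) :
    ∃ C : Subalgebra k B, C.FG ∧ f' ∈ C.baseChange K ∧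
      ∀ t : K ⊗[k] B, ∃ n : ℕ, f' ^ n * t ∈ C.baseChange K := by
  classical
  obtain ⟨s, hs⟩ := hft.out
  choose n x hx using fun z : Localization.Away f' => IsLocalization.Away.surj f' z
  obtain ⟨C, hC, hG⟩ := exists_fg_forall_mem (k := k) (insert f' (s.image x))
  have hf' : f' ∈ C.baseChange K := hG f' (Finset.mem_insert_self _ _)
  refine ⟨C, hC, hf', ?_⟩
  have hW : ∀ z : Localization.Away f', ∃ y ∈ C.baseChange K, ∃ m : ℕ,
      z * algebraMap (K ⊗[k] B) (Localization.Away f') f' ^ m =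
        algebraMap (K ⊗[k] B) (Localization.Away f') y := by
    intro z
    have hz : z ∈ Algebra.adjoin K (s : Set (Localization.Away f')) := hs ▸ Algebra.mem_top
    induction hz using Algebra.adjoin_induction with
    | mem z hz =>
      exact ⟨x z, hG _ (Finset.mem_insert_of_mem (Finset.mem_image_of_mem _ hz)), n z, hx z⟩
    | algebraMap c =>
      refine ⟨algebraMap K (K ⊗[k] B) c, Subalgebra.algebraMap_mem _ c, 0, ?_⟩
      rw [pow_zero, mul_one, ← IsScalarTower.algebraMap_apply]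
    | add z₁ z₂ _ _ h₁ h₂ =>
      obtain ⟨y₁, hy₁, m₁, e₁⟩ := h₁
      obtain ⟨y₂, hy₂, m₂, e₂⟩ := h₂
      refine ⟨y₁ * f' ^ m₂ + y₂ * f' ^ m₁,
        Subalgebra.add_mem _ (Subalgebra.mul_mem _ hy₁ (Subalgebra.pow_mem _ hf' _))
          (Subalgebra.mul_mem _ hy₂ (Subalgebra.pow_mem _ hf' _)), m₁ + m₂, ?_⟩
      rw [map_add, map_mul, map_mul, map_pow, map_pow, ← e₁, ← e₂, pow_add]
      ring
    | mul z₁ z₂ _ _ h₁ h₂ =>
      obtain ⟨y₁, hy₁, m₁, e₁⟩ := h₁
      obtain ⟨y₂, hy₂, m₂, e₂⟩ := h₂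
      refine ⟨y₁ * y₂, Subalgebra.mul_mem _ hy₁ hy₂, m₁ + m₂, ?_⟩
      rw [map_mul, ← e₁, ← e₂, pow_add]
      ring
  intro t
  obtain ⟨y, hy, m, e⟩ := hW (algebraMap _ _ t)
  rw [← map_pow, ← map_mul] at e
  obtain ⟨⟨c, l, rfl⟩, hc⟩ := (IsLocalization.eq_iff_exists (Submonoid.powers f') _).1 e
  refine ⟨l + m, ?_⟩
  have : f' ^ (l + m) * t = f' ^ l * y := by
    rw [← hc, pow_add]; ring
  rw [this]
  exact Subalgebra.mul_mem _ (Subalgebra.pow_mem _ hf' _) hy

/-- Step 2: over a prime of `K ⊗ C` not containing `f₀`, the conductor of `b` into `C` is not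
contained in the contraction. -/
lemma exists_notMem_of_conductor (C : Subalgebra k B) (b : B) (f₀ : K ⊗[k] C) (n : ℕ)
    (hn : jC (K := K) C f₀ ^ n * ((1 : K) ⊗ₜ[k] b) ∈ C.baseChange K)
    (𝔓 : Ideal (K ⊗[k] C)) [𝔓.IsPrime] (hf₀ : f₀ ∉ 𝔓) :
    ∃ r : C, (r : B) * b ∈ C ∧ (1 : K) ⊗ₜ[k] r ∉ 𝔓 := by
  by_contra hcon
  push Not at hcon
  let μ : C →ₗ[k] B ⧸ Subalgebra.toSubmodule C :=
    (Subalgebra.toSubmodule C).mkQ ∘ₗ (LinearMap.mulRight k b) ∘ₗ C.val.toLinearMap
  have hker : ∀ r : C, r ∈ LinearMap.ker μ ↔ (r : B) * b ∈ C := by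
    intro r
    rw [LinearMap.mem_ker]
    change (Subalgebra.toSubmodule C).mkQ ((r : B) * b) = 0 ↔ _
    rw [Submodule.mkQ_apply, Submodule.Quotient.mk_eq_zero, Subalgebra.mem_toSubmodule]
  have hexact := Module.Flat.lTensor_exact K (LinearMap.exact_subtype_ker_map μ)
  have h1 : ∀ z : K ⊗[k] C, LinearMap.lTensor K μ z =
      LinearMap.lTensor K (Subalgebra.toSubmodule C).mkQ (jC (K := K) C z * ((1 : K) ⊗ₜ[k] b)) := by
    intro z
    induction z using TensorProduct.induction_on with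
    | zero => simp
    | tmul a c =>
      simp only [jC, Algebra.TensorProduct.map_tmul, AlgHom.coe_id, id_eq,
        Algebra.TensorProduct.tmul_mul_tmul, mul_one, LinearMap.lTensor_tmul]
      rfl
    | add x y hx hy => rw [map_add, hx, hy, map_add, add_mul, map_add]
  have h2 : ∀ y : K ⊗[k] C,
      LinearMap.lTensor K (Subalgebra.toSubmodule C).mkQ (jC (K := K) C y) = 0 := by
    intro y
    induction y using TensorProduct.induction_on with
    | zero => simp
    | tmul a c =>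
      simp only [jC, Algebra.TensorProduct.map_tmul, AlgHom.coe_id, id_eq,
        LinearMap.lTensor_tmul]
      have : (Subalgebra.toSubmodule C).mkQ (C.val c) = 0 := by
        rw [Submodule.mkQ_apply, Submodule.Quotient.mk_eq_zero]
        exact c.2
      rw [this, tmul_zero]
    | add x y hx hy => rw [map_add, map_add, hx, hy, add_zero]
  have h3 : ∀ w : K ⊗[k] LinearMap.ker μ,
      LinearMap.lTensor K (LinearMap.ker μ).subtype w ∈ 𝔓 := by
    intro w
    induction w using TensorProduct.induction_on with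
    | zero => simp
    | tmul a r =>
      rw [LinearMap.lTensor_tmul]
      have : a ⊗ₜ[k] ((LinearMap.ker μ).subtype r) =
          (a ⊗ₜ[k] (1 : C)) * ((1 : K) ⊗ₜ[k] (r : C)) := by
        rw [Algebra.TensorProduct.tmul_mul_tmul, mul_one, one_mul]
        rfl
      rw [this]
      exact Ideal.mul_mem_left _ _ (hcon r ((hker r).1 r.2))
    | add x y hx hy => rw [map_add]; exact Ideal.add_mem _ hx hy
  obtain ⟨y, hy⟩ := hn
  have h4 : LinearMap.lTensor K μ (f₀ ^ n) = 0 := by
    rw [h1, map_pow, ← hy]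
    exact h2 y
  obtain ⟨w, hw⟩ := (hexact (f₀ ^ n)).1 h4
  have : f₀ ^ n ∈ 𝔓 := hw ▸ h3 w
  exact hf₀ (Ideal.IsPrime.mem_of_pow_mem inferInstance n this)

/-- Step 3: `Spec (K ⊗ C) → Spec C` is open on basic opens. -/
lemma isOpen_image_comap_includeRight (C : Type u) [CommRing C] [Algebra k C] (f₀ : K ⊗[k] C) :
    IsOpen (PrimeSpectrum.comap
      ((Algebra.TensorProduct.includeRight : C →ₐ[k] K ⊗[k] C) : C →+* K ⊗[k] C) ''
        (PrimeSpectrum.basicOpen f₀ : Set (PrimeSpectrum (K ⊗[k] C)))) := by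
  let e : K ⊗[k] C ≃ₐ[k] C ⊗[k] K := Algebra.TensorProduct.comm k K C
  have he : ∀ r : C, e ((1 : K) ⊗ₜ[k] r) = r ⊗ₜ[k] (1 : K) := fun r => rfl
  have he' : ∀ r : C, e.symm (r ⊗ₜ[k] (1 : K)) = (1 : K) ⊗ₜ[k] r := fun r => rfl
  have hset : PrimeSpectrum.comap
      ((Algebra.TensorProduct.includeRight : C →ₐ[k] K ⊗[k] C) : C →+* K ⊗[k] C) ''
        (PrimeSpectrum.basicOpen f₀ : Set (PrimeSpectrum (K ⊗[k] C))) =
      PrimeSpectrum.comap (algebraMap C (C ⊗[k] K)) ''
        (PrimeSpectrum.basicOpen (e f₀) : Set (PrimeSpectrum (C ⊗[k] K))) := by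
    ext p
    constructor
    · rintro ⟨P, hP, rfl⟩
      refine ⟨PrimeSpectrum.comap (e.symm : C ⊗[k] K →+* K ⊗[k] C) P, ?_, ?_⟩
      · change e f₀ ∉ (PrimeSpectrum.comap (e.symm : C ⊗[k] K →+* K ⊗[k] C) P).asIdeal
        rw [PrimeSpectrum.comap_asIdeal, Ideal.mem_comap]
        change e.symm (e f₀) ∉ P.asIdeal
        rw [AlgEquiv.symm_apply_apply]
        exact hP
      · apply PrimeSpectrum.ext
        ext r
        simp only [PrimeSpectrum.comap_asIdeal, Ideal.mem_comap]
        change e.symm (algebraMap C (C ⊗[k] K) r) ∈ P.asIdeal ↔ _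
        rw [Algebra.TensorProduct.algebraMap_apply, Algebra.algebraMap_self_apply, he']
        rfl
    · rintro ⟨Q, hQ, rfl⟩
      refine ⟨PrimeSpectrum.comap (e : K ⊗[k] C →+* C ⊗[k] K) Q, ?_, ?_⟩
      · change f₀ ∉ (PrimeSpectrum.comap (e : K ⊗[k] C →+* C ⊗[k] K) Q).asIdeal
        rw [PrimeSpectrum.comap_asIdeal, Ideal.mem_comap]
        exact hQ
      · apply PrimeSpectrum.ext
        ext r
        simp only [PrimeSpectrum.comap_asIdeal, Ideal.mem_comap]
        change e ((1 : K) ⊗ₜ[k] r) ∈ Q.asIdeal ↔ algebraMap C (C ⊗[k] K) r ∈ Q.asIdeal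
        rw [he, Algebra.TensorProduct.algebraMap_apply, Algebra.algebraMap_self_apply]
  rw [hset]
  exact PrimeSpectrum.isOpenMap_comap_algebraMap_tensorProduct_of_field _
    (PrimeSpectrum.basicOpen (e f₀)).isOpen


end

open TensorProduct in
theorem ring_core (k K B : Type u) [Field k] [Field K] [CommRing B] [Algebra k K] [Algebra k B] (f' : K ⊗[k] B) (hft : Algebra.FiniteType K (Localization.Away f')) (q' : Ideal (K ⊗[k] B)) [q'.IsPrime] (hf' : f' ∉ q') : ∃ g : B, (1 : K) ⊗ₜ[k] g ∉ q' ∧ Algebra.FiniteType k (Localization.Away g) := by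
  classical
  obtain ⟨C, hCfg, hf'C, hpow⟩ := exists_pow_mul_mem f' hft
  obtain ⟨f₀, hf₀⟩ := hf'C
  have hf₀' : jC (K := K) C f₀ = f' := hf₀
  let ι : C →+* K ⊗[k] C := ((Algebra.TensorProduct.includeRight : C →ₐ[k] K ⊗[k] C) : C →+* K ⊗[k] C)
  have hι : ∀ r : C, ι r = (1 : K) ⊗ₜ[k] r := fun r => rfl
  let q₀ : PrimeSpectrum (K ⊗[k] C) := ⟨q'.comap (jC (K := K) C), inferInstance⟩
  have hf₀q : f₀ ∉ q₀.asIdeal := by
    change f₀ ∉ q'.comap (jC (K := K) C)
    rw [Ideal.mem_comap, hf₀']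
    exact hf'
  have hO := isOpen_image_comap_includeRight (k := k) (K := K) C f₀
  have hp₀ : PrimeSpectrum.comap ι q₀ ∈ PrimeSpectrum.comap ι ''
      (PrimeSpectrum.basicOpen f₀ : Set (PrimeSpectrum (K ⊗[k] C))) := ⟨q₀, hf₀q, rfl⟩
  obtain ⟨_, ⟨g, rfl⟩, hp₀g, hgO⟩ :=
    PrimeSpectrum.isTopologicalBasis_basic_opens.exists_subset_of_mem_open hp₀ hO
  have hg1 : (1 : K) ⊗ₜ[k] (g : B) ∉ q' := by
    have h1 : g ∉ (PrimeSpectrum.comap ι q₀).asIdeal := hp₀g
    rw [PrimeSpectrum.comap_asIdeal, Ideal.mem_comap, hι] at h1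
    exact h1
  -- a power of `g` pushes every element of `B` into `C`
  have hrad : ∀ b : B, ∃ m : ℕ, (g : B) ^ m * b ∈ C := by
    intro b
    obtain ⟨n, hn⟩ := hpow ((1 : K) ⊗ₜ[k] b)
    rw [← hf₀'] at hn
    let Ib : Ideal C :=
      { carrier := {r | (r : B) * b ∈ C}
        add_mem' := fun {r r'} hr hr' => by
          change ((r + r' : C) : B) * b ∈ C
          rw [Subalgebra.coe_add, add_mul]
          exact Subalgebra.add_mem _ hr hr'
        zero_mem' := by
          change ((0 : C) : B) * b ∈ C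
          rw [Subalgebra.coe_zero, zero_mul]
          exact Subalgebra.zero_mem _
        smul_mem' := fun c r hr => by
          change ((c * r : C) : B) * b ∈ C
          rw [Subalgebra.coe_mul, mul_assoc]
          exact Subalgebra.mul_mem _ c.2 hr }
    have hIb : ∀ r : C, r ∈ Ib ↔ (r : B) * b ∈ C := fun r => Iff.rfl
    have hgrad : g ∈ Ib.radical := by
      rw [Ideal.radical_eq_sInf, Ideal.mem_sInf]
      rintro J ⟨hIJ, hJ⟩
      by_contra hgJ
      have hmem : (⟨J, hJ⟩ : PrimeSpectrum C) ∈ PrimeSpectrum.comap ι ''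
          (PrimeSpectrum.basicOpen f₀ : Set (PrimeSpectrum (K ⊗[k] C))) := hgO hgJ
      obtain ⟨P, hP, hPJ⟩ := hmem
      obtain ⟨r, hr, hrP⟩ := exists_notMem_of_conductor C b f₀ n hn P.asIdeal hP
      have hrJ : r ∈ J := hIJ ((hIb r).2 hr)
      have : r ∈ (PrimeSpectrum.comap ι P).asIdeal := by rw [hPJ]; exact hrJ
      rw [PrimeSpectrum.comap_asIdeal, Ideal.mem_comap, hι] at this
      exact hrP this
    obtain ⟨m, hm⟩ := hgrad
    refine ⟨m, ?_⟩
    have := (hIb _).1 hm
    rwa [Subalgebra.coe_pow] at this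
  refine ⟨(g : B), hg1, ?_⟩
  haveI : Algebra.FiniteType k C := (Subalgebra.fg_iff_finiteType C).1 hCfg
  haveI : Algebra.FiniteType k (Localization.Away g) :=
    .trans ‹_› (IsLocalization.finiteType_of_monoid_fg (Submonoid.powers g) _)
  let φ : Localization.Away g →ₐ[k] Localization.Away (C.val g) := Localization.awayMapₐ C.val g
  have hφ : Function.Surjective φ := by
    intro z
    obtain ⟨m, b, hz⟩ := IsLocalization.Away.surj (C.val g) z
    obtain ⟨l, hl⟩ := hrad b
    let c : C := ⟨(g : B) ^ l * b, hl⟩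
    refine ⟨IsLocalization.mk' (Localization.Away g) c
      (⟨g ^ (m + l), ⟨m + l, rfl⟩⟩ : Submonoid.powers g), ?_⟩
    change IsLocalization.Away.mapₐ (Localization.Away g) (Localization.Away (C.val g)) C.val g
      (IsLocalization.mk' (Localization.Away g) c
        (⟨g ^ (m + l), ⟨m + l, rfl⟩⟩ : Submonoid.powers g)) = z
    rw [IsLocalization.Away.mapₐ_apply]
    unfold IsLocalization.Away.map
    rw [IsLocalization.map_mk', eq_comm, IsLocalization.eq_mk'_iff_mul_eq]
    change z * algebraMap B _ (C.val (g ^ (m + l))) = algebraMap B _ ((g : B) ^ l * b)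
    rw [map_pow, map_pow, pow_add, ← mul_assoc, hz, map_mul, map_pow]
    rw [mul_comm]
    rfl
  exact Algebra.FiniteType.of_surjective φ hφ

end Groth.Agent.Lib.Helper39.LftRC
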