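import Groth.Agent.Lib.Helper39.NumType

namespace Groth.Agent.Lib.Helper39.NT

open Finset Models

theorem end3 {n : ℕ} (T : NumericalType n) (hn : 3 < n) (v : Fin 3 ↪ Fin n)
    (hv : ∀ j, T.IsMinusTwo (v j)) (h01 : T.a (v 0) (v 1) ≠ 0) (h12 : T.a (v 1) (v 2) ≠ 0) :
    (T.a (v 0) (v 1) = T.w (v 0) ∧ T.a (v 1) (v 0) = T.w (v 1)) ∨
    (T.a (v 0) (v 1) = 2 * T.w (v 0) ∧ T.a (v 1) (v 0) = T.w (v 1)) ∨
    (T.a (v 0) (v 1) = T.w (v 0) ∧ T.a (v 1) (v 0) = 2 * T.w (v 1)) := by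
  have hnn : ∀ s t : Fin 3, s ≠ t → 0 ≤ T.a (v s) (v t) := fun s t hst =>
    T.offDiag_nonneg _ _ (fun h => hst (v.injective h))
  have hdiag : ∀ s : Fin 3, T.a (v s) (v s) = -2 * T.w (v s) := fun s => (hv s).2
  have hsym : ∀ s t : Fin 3, T.a (v s) (v t) = T.a (v t) (v s) := fun s t =>
    Groth.Agent.Lib.Helper39.NT.symm' T _ _
  have hwp : ∀ s : Fin 3, 0 < T.w (v s) := fun s => T.w_pos _
  have hmp : ∀ s : Fin 3, 0 < T.m (v s) := fun s => T.m_pos _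
  have hdc : ∀ s t : Fin 3, 0 < T.a (v s) (v t) → (T.a (v s) (v t) = T.w (v s) ∨
      T.a (v s) (v t) = 2 * T.w (v s) ∨ T.a (v s) (v t) = 3 * T.w (v s) ∨
      4 * T.w (v s) ≤ T.a (v s) (v t)) := fun s t h =>
    Groth.Agent.Lib.Helper39.NT.dvd_cases (T.w_pos _) h (T.w_dvd _ _)
  have hlb : ∀ s t : Fin 3, 0 < T.a (v s) (v t) → T.w (v s) ≤ T.a (v s) (v t) := fun s t h =>
    Int.le_of_dvd h (T.w_dvd _ _)
  have hd2 : ∀ s t : Fin 3, 0 < T.a (v s) (v t) → (T.a (v s) (v t) = T.w (v s) ∨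
      2 * T.w (v s) ≤ T.a (v s) (v t)) := fun s t h => by
    rcases hdc s t h with h1 | h1 | h1 | h1
    · exact Or.inl h1
    · exact Or.inr (by linarith [hwp s])
    · exact Or.inr (by linarith [hwp s])
    · exact Or.inr (by linarith [hwp s])
  have hd3 : ∀ s t : Fin 3, 0 < T.a (v s) (v t) → (T.a (v s) (v t) = T.w (v s) ∨
      T.a (v s) (v t) = 2 * T.w (v s) ∨ 3 * T.w (v s) ≤ T.a (v s) (v t)) := fun s t h => by
    rcases hdc s t h with h1 | h1 | h1 | h1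
    · exact Or.inl h1
    · exact Or.inr (Or.inl h1)
    · exact Or.inr (Or.inr h1.ge)
    · exact Or.inr (Or.inr (by linarith [hwp s]))
  have hp_0_1 : 0 < T.a (v 0) (v 1) := lt_of_le_of_ne (hnn 0 1 (by decide)) (Ne.symm h01)
  have hp_1_0 : 0 < T.a (v 1) (v 0) := by rw [hsym 1 0]; exact hp_0_1
  have hl_0_1 := hlb 0 1 hp_0_1
  have hl_1_0 := hlb 1 0 hp_1_0
  have hp_1_2 : 0 < T.a (v 1) (v 2) := lt_of_le_of_ne (hnn 1 2 (by decide)) (Ne.symm h12)
  have hp_2_1 : 0 < T.a (v 2) (v 1) := by rw [hsym 2 1]; exact hp_1_2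
  have hl_1_2 := hlb 1 2 hp_1_2
  have hl_2_1 := hlb 2 1 hp_2_1
  rcases hd3 0 1 hp_0_1 with hx | hx | hx <;> rcases hd3 1 0 hp_1_0 with hy | hy | hy
  · exact Or.inl ⟨hx, hy⟩
  · exact Or.inr (Or.inr ⟨hx, hy⟩)
  · exfalso
    refine Groth.Agent.Lib.Helper39.NT.cert T v hn ![1, 2, 1] (by decide) 0 (by decide) ?_
    intro s hs
    fin_cases s
    · simp [Fin.sum_univ_three]; linarith [hdiag 0, hl_0_1, hnn 0 2 (by decide)]
    · simp [Fin.sum_univ_three]; linarith [hdiag 1, hy, hl_1_2]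
    · simp [Fin.sum_univ_three]; linarith [hdiag 2, hnn 2 0 (by decide), hl_2_1]
  · exact Or.inr (Or.inl ⟨hx, hy⟩)
  · exfalso
    refine Groth.Agent.Lib.Helper39.NT.cert T v hn ![1, 1, 0] (by decide) 0 (by decide) ?_
    intro s hs
    fin_cases s
    · simp [Fin.sum_univ_three]; linarith [hdiag 0, hx.ge]
    · simp [Fin.sum_univ_three]; linarith [hdiag 1, hy.ge]
    · simp at hs
  · exfalso
    refine Groth.Agent.Lib.Helper39.NT.cert T v hn ![1, 1, 0] (by decide) 0 (by decide) ?_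
    intro s hs
    fin_cases s
    · simp [Fin.sum_univ_three]; linarith [hdiag 0, hx.ge]
    · simp [Fin.sum_univ_three]; linarith [hdiag 1, hy]
    · simp at hs
  · exfalso
    refine Groth.Agent.Lib.Helper39.NT.cert T v hn ![3, 2, 1] (by decide) 0 (by decide) ?_
    intro s hs
    fin_cases s
    · simp [Fin.sum_univ_three]; linarith [hdiag 0, hx, hnn 0 2 (by decide)]
    · simp [Fin.sum_univ_three]; linarith [hdiag 1, hl_1_0, hl_1_2]
    · simp [Fin.sum_univ_three]; linarith [hdiag 2, hnn 2 0 (by decide), hl_2_1]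
  · exfalso
    refine Groth.Agent.Lib.Helper39.NT.cert T v hn ![1, 1, 0] (by decide) 0 (by decide) ?_
    intro s hs
    fin_cases s
    · simp [Fin.sum_univ_three]; linarith [hdiag 0, hx]
    · simp [Fin.sum_univ_three]; linarith [hdiag 1, hy.ge]
    · simp at hs
  · exfalso
    refine Groth.Agent.Lib.Helper39.NT.cert T v hn ![1, 1, 0] (by decide) 0 (by decide) ?_
    intro s hs
    fin_cases s
    · simp [Fin.sum_univ_three]; linarith [hdiag 0, hx]
    · simp [Fin.sum_univ_three]; linarith [hdiag 1, hy]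
    · simp at hs

theorem mid5 {n : ℕ} (T : NumericalType n) (hn : 5 < n) (v : Fin 5 ↪ Fin n)
    (hv : ∀ j, T.IsMinusTwo (v j)) (h01 : T.a (v 0) (v 1) ≠ 0) (h12 : T.a (v 1) (v 2) ≠ 0)
    (h23 : T.a (v 2) (v 3) ≠ 0) (h34 : T.a (v 3) (v 4) ≠ 0) :
    T.a (v 1) (v 2) = T.w (v 1) ∧ T.a (v 2) (v 1) = T.w (v 2) ∧
    T.a (v 2) (v 3) = T.w (v 2) ∧ T.a (v 3) (v 2) = T.w (v 3) := by
  have hnn : ∀ s t : Fin 5, s ≠ t → 0 ≤ T.a (v s) (v t) := fun s t hst =>
    T.offDiag_nonneg _ _ (fun h => hst (v.injective h))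
  have hdiag : ∀ s : Fin 5, T.a (v s) (v s) = -2 * T.w (v s) := fun s => (hv s).2
  have hsym : ∀ s t : Fin 5, T.a (v s) (v t) = T.a (v t) (v s) := fun s t =>
    Groth.Agent.Lib.Helper39.NT.symm' T _ _
  have hwp : ∀ s : Fin 5, 0 < T.w (v s) := fun s => T.w_pos _
  have hmp : ∀ s : Fin 5, 0 < T.m (v s) := fun s => T.m_pos _
  have hdc : ∀ s t : Fin 5, 0 < T.a (v s) (v t) → (T.a (v s) (v t) = T.w (v s) ∨
      T.a (v s) (v t) = 2 * T.w (v s) ∨ T.a (v s) (v t) = 3 * T.w (v s) ∨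
      4 * T.w (v s) ≤ T.a (v s) (v t)) := fun s t h =>
    Groth.Agent.Lib.Helper39.NT.dvd_cases (T.w_pos _) h (T.w_dvd _ _)
  have hlb : ∀ s t : Fin 5, 0 < T.a (v s) (v t) → T.w (v s) ≤ T.a (v s) (v t) := fun s t h =>
    Int.le_of_dvd h (T.w_dvd _ _)
  have hd2 : ∀ s t : Fin 5, 0 < T.a (v s) (v t) → (T.a (v s) (v t) = T.w (v s) ∨
      2 * T.w (v s) ≤ T.a (v s) (v t)) := fun s t h => by
    rcases hdc s t h with h1 | h1 | h1 | h1
    · exact Or.inl h1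
    · exact Or.inr (by linarith [hwp s])
    · exact Or.inr (by linarith [hwp s])
    · exact Or.inr (by linarith [hwp s])
  have hp_0_1 : 0 < T.a (v 0) (v 1) := lt_of_le_of_ne (hnn 0 1 (by decide)) (Ne.symm h01)
  have hp_1_0 : 0 < T.a (v 1) (v 0) := by rw [hsym 1 0]; exact hp_0_1
  have hl_0_1 := hlb 0 1 hp_0_1
  have hl_1_0 := hlb 1 0 hp_1_0
  have hp_1_2 : 0 < T.a (v 1) (v 2) := lt_of_le_of_ne (hnn 1 2 (by decide)) (Ne.symm h12)
  have hp_2_1 : 0 < T.a (v 2) (v 1) := by rw [hsym 2 1]; exact hp_1_2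
  have hl_1_2 := hlb 1 2 hp_1_2
  have hl_2_1 := hlb 2 1 hp_2_1
  have hp_2_3 : 0 < T.a (v 2) (v 3) := lt_of_le_of_ne (hnn 2 3 (by decide)) (Ne.symm h23)
  have hp_3_2 : 0 < T.a (v 3) (v 2) := by rw [hsym 3 2]; exact hp_2_3
  have hl_2_3 := hlb 2 3 hp_2_3
  have hl_3_2 := hlb 3 2 hp_3_2
  have hp_3_4 : 0 < T.a (v 3) (v 4) := lt_of_le_of_ne (hnn 3 4 (by decide)) (Ne.symm h34)
  have hp_4_3 : 0 < T.a (v 4) (v 3) := by rw [hsym 4 3]; exact hp_3_4
  have hl_3_4 := hlb 3 4 hp_3_4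
  have hl_4_3 := hlb 4 3 hp_4_3
  refine ⟨?_, ?_, ?_, ?_⟩
  · rcases hd2 1 2 hp_1_2 with h1 | hh
    · exact h1
    · exfalso
      refine Groth.Agent.Lib.Helper39.NT.cert T v hn ![2, 4, 3, 2, 1] (by decide) 0 (by decide) ?_
      intro s hs
      fin_cases s
      · simp [Fin.sum_univ_five]; linarith [hdiag 0, hl_0_1, hnn 0 2 (by decide), hnn 0 3 (by decide), hnn 0 4 (by decide)]
      · simp [Fin.sum_univ_five]; linarith [hdiag 1, hl_1_0, hh, hnn 1 3 (by decide), hnn 1 4 (by decide)]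
      · simp [Fin.sum_univ_five]; linarith [hdiag 2, hnn 2 0 (by decide), hl_2_1, hl_2_3, hnn 2 4 (by decide)]
      · simp [Fin.sum_univ_five]; linarith [hdiag 3, hnn 3 0 (by decide), hnn 3 1 (by decide), hl_3_2, hl_3_4]
      · simp [Fin.sum_univ_five]; linarith [hdiag 4, hnn 4 0 (by decide), hnn 4 1 (by decide), hnn 4 2 (by decide), hl_4_3]
  · rcases hd2 2 1 hp_2_1 with h1 | hh
    · exact h1
    · exfalso
      refine Groth.Agent.Lib.Helper39.NT.cert T v hn ![1, 2, 3, 2, 1] (by decide) 0 (by decide) ?_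
      intro s hs
      fin_cases s
      · simp [Fin.sum_univ_five]; linarith [hdiag 0, hl_0_1, hnn 0 2 (by decide), hnn 0 3 (by decide), hnn 0 4 (by decide)]
      · simp [Fin.sum_univ_five]; linarith [hdiag 1, hl_1_0, hl_1_2, hnn 1 3 (by decide), hnn 1 4 (by decide)]
      · simp [Fin.sum_univ_five]; linarith [hdiag 2, hnn 2 0 (by decide), hh, hl_2_3, hnn 2 4 (by decide)]
      · simp [Fin.sum_univ_five]; linarith [hdiag 3, hnn 3 0 (by decide), hnn 3 1 (by decide), hl_3_2, hl_3_4]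
      · simp [Fin.sum_univ_five]; linarith [hdiag 4, hnn 4 0 (by decide), hnn 4 1 (by decide), hnn 4 2 (by decide), hl_4_3]
  · rcases hd2 2 3 hp_2_3 with h1 | hh
    · exact h1
    · exfalso
      refine Groth.Agent.Lib.Helper39.NT.cert T v hn ![1, 2, 3, 2, 1] (by decide) 0 (by decide) ?_
      intro s hs
      fin_cases s
      · simp [Fin.sum_univ_five]; linarith [hdiag 0, hl_0_1, hnn 0 2 (by decide), hnn 0 3 (by decide), hnn 0 4 (by decide)]
      · simp [Fin.sum_univ_five]; linarith [hdiag 1, hl_1_0, hl_1_2, hnn 1 3 (by decide), hnn 1 4 (by decide)]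
      · simp [Fin.sum_univ_five]; linarith [hdiag 2, hnn 2 0 (by decide), hl_2_1, hh, hnn 2 4 (by decide)]
      · simp [Fin.sum_univ_five]; linarith [hdiag 3, hnn 3 0 (by decide), hnn 3 1 (by decide), hl_3_2, hl_3_4]
      · simp [Fin.sum_univ_five]; linarith [hdiag 4, hnn 4 0 (by decide), hnn 4 1 (by decide), hnn 4 2 (by decide), hl_4_3]
  · rcases hd2 3 2 hp_3_2 with h1 | hh
    · exact h1
    · exfalso
      refine Groth.Agent.Lib.Helper39.NT.cert T v hn ![1, 2, 3, 4, 2] (by decide) 0 (by decide) ?_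
      intro s hs
      fin_cases s
      · simp [Fin.sum_univ_five]; linarith [hdiag 0, hl_0_1, hnn 0 2 (by decide), hnn 0 3 (by decide), hnn 0 4 (by decide)]
      · simp [Fin.sum_univ_five]; linarith [hdiag 1, hl_1_0, hl_1_2, hnn 1 3 (by decide), hnn 1 4 (by decide)]
      · simp [Fin.sum_univ_five]; linarith [hdiag 2, hnn 2 0 (by decide), hl_2_1, hl_2_3, hnn 2 4 (by decide)]
      · simp [Fin.sum_univ_five]; linarith [hdiag 3, hnn 3 0 (by decide), hnn 3 1 (by decide), hh, hl_3_4]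
      · simp [Fin.sum_univ_five]; linarith [hdiag 4, hnn 4 0 (by decide), hnn 4 1 (by decide), hnn 4 2 (by decide), hl_4_3]

end Groth.Agent.Lib.Helper39.NT
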