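import Groth.Prelude.Def_Models
import Mathlib.Tactic

namespace Groth.Agent.Lib.Helper39.NT

open Finset Models

variable {n : ℕ} (T : NumericalType n)

theorem row (i : Fin n) : ∑ j, T.a i j * T.m j = 0 := by
  have := congrFun T.mulVec_m i
  simpa [Matrix.mulVec, dotProduct] using this

theorem symm' (i j : Fin n) : T.a i j = T.a j i := T.symm.apply j i

theorem pos_of_ne {i j : Fin n} (hij : i ≠ j) (h : T.a i j ≠ 0) : 0 < T.a i j :=
  lt_of_le_of_ne (T.offDiag_nonneg i j hij) (Ne.symm h)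

theorem exists_nbr (hn : 1 < n) (i : Fin n) : ∃ j, j ≠ i ∧ 0 < T.a i j := by
  have hne : ({i} : Finset (Fin n)) ≠ univ := by
    intro h
    have h1 : (univ : Finset (Fin n)).card = 1 := by rw [← h]; simp
    simp at h1
    omega
  obtain ⟨i', hi', j, hj, hne'⟩ := T.connected {i} (singleton_nonempty i) hne
  simp only [mem_singleton] at hi' hj
  subst hi'
  exact ⟨j, hj, pos_of_ne T (Ne.symm hj) hne'⟩

theorem diag_mul_neg (hn : 1 < n) (i : Fin n) : T.a i i * T.m i < 0 := by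
  obtain ⟨j, hj, hpos⟩ := exists_nbr T hn i
  have hrow := row T i
  rw [← Finset.add_sum_erase _ _ (mem_univ i)] at hrow
  have hp : 0 < ∑ x ∈ univ.erase i, T.a i x * T.m x := by
    apply Finset.sum_pos'
    · intro x hx
      exact mul_nonneg (T.offDiag_nonneg i x (Ne.symm (ne_of_mem_erase hx))) (T.m_pos x).le
    · exact ⟨j, mem_erase.mpr ⟨hj, mem_univ j⟩, mul_pos hpos (T.m_pos j)⟩
  linarith

theorem diag_neg (hn : 1 < n) (i : Fin n) : T.a i i < 0 := by
  have h := diag_mul_neg T hn i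
  have hm := T.m_pos i
  by_contra hcon
  have := mul_nonneg (not_lt.mp hcon) hm.le
  linarith

theorem no_subharmonic (z : Fin n → ℤ) (hz : ∀ i, 0 ≤ z i) (i0 : Fin n) (hi0 : z i0 = 0)
    (j0 : Fin n) (hj0 : 0 < z j0) (h : ∀ j, 0 < z j → 0 ≤ ∑ i, T.a j i * z i) : False := by
  have hAz : ∀ j, 0 ≤ ∑ i, T.a j i * z i := by
    intro j
    rcases (hz j).lt_or_eq with hj | hj
    · exact h j hj
    · apply Finset.sum_nonneg
      intro i _
      by_cases hij : i = j
      · subst hij; rw [← hj]; simp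
      · exact mul_nonneg (T.offDiag_nonneg j i (Ne.symm hij)) (hz i)
  have hsum : ∑ j, T.m j * ∑ i, T.a j i * z i = 0 := by
    simp_rw [Finset.mul_sum]
    rw [Finset.sum_comm]
    have : ∀ i, ∑ j, T.m j * (T.a j i * z i) = z i * ∑ j, T.a i j * T.m j := by
      intro i
      rw [Finset.mul_sum]
      apply Finset.sum_congr rfl
      intro j _
      rw [symm' T i j]; ring
    simp_rw [this, row T, mul_zero, Finset.sum_const_zero]
  have hzero : ∀ j, ∑ i, T.a j i * z i = 0 := by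
    intro j
    have h0 := (Finset.sum_eq_zero_iff_of_nonneg
      (fun j _ => mul_nonneg (T.m_pos j).le (hAz j))).mp hsum j (mem_univ j)
    rcases mul_eq_zero.mp h0 with h1 | h1
    · exact absurd h1 (T.m_pos j).ne'
    · exact h1
  classical
  obtain ⟨i, hi, j, hj, hne⟩ := T.connected (univ.filter fun i => 0 < z i)
    ⟨j0, by simp [hj0]⟩ (by
      intro hh
      have : i0 ∈ univ.filter fun i => 0 < z i := by rw [hh]; exact mem_univ _
      simp [hi0] at this)
  simp only [mem_filter, mem_univ, true_and] at hi hj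
  have hij : i ≠ j := by rintro rfl; exact hj hi
  have hzj : z j = 0 := le_antisymm (not_lt.mp hj) (hz j)
  have hpos : 0 < T.a j i * z i := by
    apply mul_pos _ hi
    rw [symm' T j i]
    exact pos_of_ne T hij hne
  have hle : T.a j i * z i ≤ ∑ k, T.a j k * z k := by
    apply Finset.single_le_sum (f := fun k => T.a j k * z k) _ (mem_univ i)
    intro k _
    by_cases hk : k = j
    · subst hk; simp [hzj]
    · exact mul_nonneg (T.offDiag_nonneg j k (Ne.symm hk)) (hz k)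
  rw [hzero j] at hle
  linarith

theorem exists_not_mem {k : ℕ} (v : Fin k ↪ Fin n) (hk : k < n) : ∃ i, ∀ t, v t ≠ i := by
  by_contra hcon
  have hs : Function.Surjective v := by
    intro i
    by_contra hi
    exact hcon ⟨i, fun t ht => hi ⟨t, ht⟩⟩
  have := Fintype.card_le_of_surjective v hs
  simp at this
  omega

theorem cert {k : ℕ} (v : Fin k ↪ Fin n) (hk : k < n) (c : Fin k → ℤ) (hc : ∀ t, 0 ≤ c t)
    (t0 : Fin k) (ht0 : 0 < c t0)
    (h : ∀ s, 0 < c s → 0 ≤ ∑ t, T.a (v s) (v t) * c t) : False := by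
  classical
  let z : Fin n → ℤ := fun i => ∑ t, if v t = i then c t else 0
  have hzv : ∀ s, z (v s) = c s := by
    intro s
    simp only [z, v.injective.eq_iff]
    simp
  have hsum : ∀ j, ∑ i, T.a j i * z i = ∑ t, T.a j (v t) * c t := by
    intro j
    simp only [z, Finset.mul_sum]
    rw [Finset.sum_comm]
    apply Finset.sum_congr rfl
    intro t _
    simp [mul_ite]
  obtain ⟨i0, hi0⟩ := exists_not_mem v hk
  apply no_subharmonic T z _ i0 _ (v t0) _ _
  · intro i
    exact Finset.sum_nonneg fun t _ => by split_ifs <;> simp [hc t]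
  · simp only [z]
    apply Finset.sum_eq_zero
    intro t _
    simp [hi0 t]
  · rw [hzv]; exact ht0
  · intro j hj
    rw [hsum]
    by_cases hex : ∃ s, v s = j
    · obtain ⟨s, rfl⟩ := hex
      rw [hzv] at hj
      exact h s hj
    · exfalso
      have : z j = 0 := by
        simp only [z]
        apply Finset.sum_eq_zero
        intro t _
        have : v t ≠ j := fun ht => hex ⟨t, ht⟩
        simp [this]
      omega

theorem row_emb_le {k : ℕ} (v : Fin k ↪ Fin n) (s : Fin k) :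
    ∑ t, T.a (v s) (v t) * T.m (v t) ≤ 0 := by
  classical
  have h1 : ∑ t, T.a (v s) (v t) * T.m (v t) = ∑ i ∈ univ.map v, T.a (v s) i * T.m i := by
    rw [Finset.sum_map]
  rw [h1, ← row T (v s)]
  apply Finset.sum_le_sum_of_subset_of_nonneg (subset_univ _)
  intro i _ hi
  have : i ≠ v s := by
    rintro rfl
    exact hi (mem_map_of_mem v (mem_univ s))
  exact mul_nonneg (T.offDiag_nonneg (v s) i (Ne.symm this)) (T.m_pos i).le

theorem dvd_cases {d x : ℤ} (hd : 0 < d) (hx : 0 < x) (h : d ∣ x) :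
    x = d ∨ x = 2 * d ∨ x = 3 * d ∨ 4 * d ≤ x := by
  obtain ⟨c, rfl⟩ := h
  have hc : 0 < c := by
    by_contra hcon
    have := mul_nonpos_of_nonneg_of_nonpos hd.le (not_lt.mp hcon)
    linarith
  have : c = 1 ∨ c = 2 ∨ c = 3 ∨ 4 ≤ c := by omega
  rcases this with rfl | rfl | rfl | h4
  · left; ring
  · right; left; ring
  · right; right; left; ring
  · right; right; right; nlinarith

theorem sum_ge_nbrs {k : ℕ} (v : Fin k ↪ Fin n) (c : Fin k → ℤ) (hc : ∀ x, 0 ≤ c x) (s : Fin k)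
    (N : Finset (Fin k)) (hN : s ∉ N) :
    T.a (v s) (v s) * c s + ∑ x ∈ N, T.a (v s) (v x) * c x ≤ ∑ x, T.a (v s) (v x) * c x := by
  classical
  have h1 : T.a (v s) (v s) * c s + ∑ x ∈ N, T.a (v s) (v x) * c x =
      ∑ x ∈ insert s N, T.a (v s) (v x) * c x :=
    (Finset.sum_insert (f := fun x => T.a (v s) (v x) * c x) hN).symm
  rw [h1]
  apply Finset.sum_le_sum_of_subset_of_nonneg (Finset.subset_univ _)
  intro x _ hx
  have hxs : x ≠ s := fun h => hx (h ▸ Finset.mem_insert_self _ _)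
  exact mul_nonneg (T.offDiag_nonneg _ _ (fun h => hxs (v.injective h).symm)) (hc x)

theorem sum_ge_one {k : ℕ} (v : Fin k ↪ Fin n) (c : Fin k → ℤ) (hc : ∀ x, 0 ≤ c x) (s x : Fin k)
    (hsx : s ≠ x) :
    T.a (v s) (v s) * c s + T.a (v s) (v x) * c x ≤ ∑ y, T.a (v s) (v y) * c y := by
  classical
  have := sum_ge_nbrs T v c hc s {x} (by simpa using hsx)
  simpa using this

theorem sum_ge_two {k : ℕ} (v : Fin k ↪ Fin n) (c : Fin k → ℤ) (hc : ∀ x, 0 ≤ c x) (s x y : Fin k)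
    (hsx : s ≠ x) (hsy : s ≠ y) (hxy : x ≠ y) :
    T.a (v s) (v s) * c s + (T.a (v s) (v x) * c x + T.a (v s) (v y) * c y) ≤
      ∑ z, T.a (v s) (v z) * c z := by
  classical
  have := sum_ge_nbrs T v c hc s {x, y} (by simp [hsx, hsy])
  rwa [Finset.sum_insert (by simpa using hxy), Finset.sum_singleton] at this

theorem sum_ge_three {k : ℕ} (v : Fin k ↪ Fin n) (c : Fin k → ℤ) (hc : ∀ x, 0 ≤ c x)
    (s x y z : Fin k) (hsx : s ≠ x) (hsy : s ≠ y) (hsz : s ≠ z) (hxy : x ≠ y) (hxz : x ≠ z)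
    (hyz : y ≠ z) :
    T.a (v s) (v s) * c s +
      (T.a (v s) (v x) * c x + (T.a (v s) (v y) * c y + T.a (v s) (v z) * c z)) ≤
      ∑ u, T.a (v s) (v u) * c u := by
  classical
  have := sum_ge_nbrs T v c hc s {x, y, z} (by simp [hsx, hsy, hsz])
  rwa [Finset.sum_insert (by simp [hxy, hxz]), Finset.sum_insert (by simpa using hyz),
    Finset.sum_singleton] at this

theorem cert_nbr {k : ℕ} (v : Fin k ↪ Fin n) (hk : k < n) (hv : ∀ j, T.IsMinusTwo (v j))
    (c : Fin k → ℤ) (hc : ∀ x, 0 ≤ c x) (t0 : Fin k) (ht0 : 0 < c t0)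
    (h : ∀ s, 0 < c s →
      (∃ x lx, s ≠ x ∧ lx * T.w (v s) ≤ T.a (v s) (v x) ∧ 2 * c s ≤ lx * c x) ∨
      (∃ x y lx ly, s ≠ x ∧ s ≠ y ∧ x ≠ y ∧ lx * T.w (v s) ≤ T.a (v s) (v x) ∧
        ly * T.w (v s) ≤ T.a (v s) (v y) ∧ 2 * c s ≤ lx * c x + ly * c y) ∨
      (∃ x y z lx ly lz, s ≠ x ∧ s ≠ y ∧ s ≠ z ∧ x ≠ y ∧ x ≠ z ∧ y ≠ z ∧
        lx * T.w (v s) ≤ T.a (v s) (v x) ∧ ly * T.w (v s) ≤ T.a (v s) (v y) ∧
        lz * T.w (v s) ≤ T.a (v s) (v z) ∧ 2 * c s ≤ lx * c x + ly * c y + lz * c z)) : False := by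
  refine cert T v hk c hc t0 ht0 ?_
  intro s hs
  have hW := T.w_pos (v s)
  have hd : T.a (v s) (v s) = -2 * T.w (v s) := (hv s).2
  rcases h s hs with ⟨x, lx, hsx, hx, hcx⟩ | ⟨x, y, lx, ly, hsx, hsy, hxy, hx, hy, hcx⟩ |
      ⟨x, y, z, lx, ly, lz, hsx, hsy, hsz, hxy, hxz, hyz, hx, hy, hz, hcx⟩
  · have h1 := sum_ge_one T v c hc s x hsx
    have e1 := mul_le_mul_of_nonneg_right hx (hc x)
    have e0 : 0 ≤ T.w (v s) * (lx * c x - 2 * c s) := mul_nonneg hW.le (by linarith)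
    rw [hd] at h1
    nlinarith
  · have h1 := sum_ge_two T v c hc s x y hsx hsy hxy
    have e1 := mul_le_mul_of_nonneg_right hx (hc x)
    have e2 := mul_le_mul_of_nonneg_right hy (hc y)
    have e0 : 0 ≤ T.w (v s) * (lx * c x + ly * c y - 2 * c s) := mul_nonneg hW.le (by linarith)
    rw [hd] at h1
    nlinarith
  · have h1 := sum_ge_three T v c hc s x y z hsx hsy hsz hxy hxz hyz
    have e1 := mul_le_mul_of_nonneg_right hx (hc x)
    have e2 := mul_le_mul_of_nonneg_right hy (hc y)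
    have e3 := mul_le_mul_of_nonneg_right hz (hc z)
    have e0 : 0 ≤ T.w (v s) * (lx * c x + ly * c y + lz * c z - 2 * c s) :=
      mul_nonneg hW.le (by linarith)
    rw [hd] at h1
    nlinarith

theorem le_of_dvd_pos {d x : ℤ} (hx : 0 < x) (h : d ∣ x) : d ≤ x := Int.le_of_dvd hx h

end Groth.Agent.Lib.Helper39.NT
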