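import Groth.Agent.Lib.Helper39.NumType
import Groth.Agent.S7316
import Groth.Agent.S7317

namespace Groth.Agent.Lib.Helper39.NT

open Finset Models

variable {n : ℕ} (T : NumericalType n)

theorem all_minusTwo (hn : 1 < n) (hmin : T.IsMinimal) (hg : T.genus = 1) :
    ∀ i, T.IsMinusTwo i := by
  have hc : ∀ i, 0 ≤ T.m i * (2 * T.w i * (T.g i - 1) - T.a i i) := by
    intro i
    by_contra h
    exact hmin i (Groth.Agent.S7316.result T hn i (not_le.mp h))
  have hsum : ∑ i, T.m i * (2 * T.w i * (T.g i - 1) - T.a i i) =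
      2 * (∑ i, T.m i * T.w i * (T.g i - 1)) - ∑ i, T.m i * T.a i i := by
    rw [Finset.mul_sum, ← Finset.sum_sub_distrib]
    apply Finset.sum_congr rfl
    intro i _
    ring
  unfold NumericalType.genus at hg
  have h0 : ∑ i, T.m i * (2 * T.w i * (T.g i - 1) - T.a i i) = 0 := by
    have h1 := Finset.sum_nonneg (fun i (_ : i ∈ (univ : Finset (Fin n))) => hc i)
    rw [hsum] at h1 ⊢
    omega
  intro i
  have := (Finset.sum_eq_zero_iff_of_nonneg (fun i _ => hc i)).mp h0 i (mem_univ i)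
  exact Groth.Agent.S7317.result T hn i this

theorem cert_fun {k : ℕ} (x : Fin k → Fin n) (hx : Function.Injective x) (hk : k < n)
    (c : Fin k → ℤ) (hc : ∀ t, 0 ≤ c t) (t0 : Fin k) (ht0 : 0 < c t0)
    (h : ∀ s, 0 < c s → 0 ≤ ∑ t, T.a (x s) (x t) * c t) : False :=
  cert T ⟨x, hx⟩ hk c hc t0 ht0 h

theorem row_fun (x : Fin n → Fin n) (hx : Function.Injective x) (s : Fin n) :
    ∑ j, T.a (x s) (x j) * T.m (x j) = 0 := by
  have hb : Function.Bijective x := ⟨hx, Finite.surjective_of_injective hx⟩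
  rw [← row T (x s)]
  exact (Equiv.ofBijective x hb).sum_comp (fun j => T.a (x s) j * T.m j)

theorem edge3 (x y : Fin n) (hxy : x ≠ y) (h : T.a x y ≠ 0) :
    T.a x y = T.w x ∨ T.a x y = 2 * T.w x ∨ 3 * T.w x ≤ T.a x y := by
  have hp := pos_of_ne T hxy h
  have hw := T.w_pos x
  rcases dvd_cases hw hp (T.w_dvd _ _) with h1 | h1 | h1 | h1
  · exact Or.inl h1
  · exact Or.inr (Or.inl h1)
  · exact Or.inr (Or.inr h1.ge)
  · exact Or.inr (Or.inr (by linarith))

theorem lb1 (x y : Fin n) (hxy : x ≠ y) (h : T.a x y ≠ 0) : T.w x ≤ T.a x y :=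
  Int.le_of_dvd (pos_of_ne T hxy h) (T.w_dvd _ _)

theorem sum_univ_nine' (f : Fin 9 → ℤ) :
    ∑ i, f i = f 0 + f 1 + f 2 + f 3 + f 4 + f 5 + f 6 + f 7 + f 8 := by
  rw [Fin.sum_univ_castSucc, Fin.sum_univ_eight]
  rfl

theorem not_closed {k : ℕ} (x : Fin k → Fin n) (hk : k < n) (hk0 : 0 < k)
    (h : ∀ s y, T.a (x s) y ≠ 0 → ∃ t, y = x t) : False := by
  classical
  have hne : (univ.image x) ≠ (univ : Finset (Fin n)) := by
    intro hh
    have h1 : (univ.image x).card ≤ k := by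
      calc (univ.image x).card ≤ (univ : Finset (Fin k)).card := Finset.card_image_le
        _ = k := by simp
    rw [hh] at h1
    simp at h1
    omega
  obtain ⟨i, hi, j, hj, hij⟩ := T.connected (univ.image x) ⟨x ⟨0, hk0⟩, by simp⟩ hne
  obtain ⟨s, _, rfl⟩ := Finset.mem_image.mp hi
  obtain ⟨t, rfl⟩ := h s j hij
  exact hj (Finset.mem_image.mpr ⟨t, mem_univ _, rfl⟩)

theorem inj2 {α : Type*} (a b : α) (hab : a ≠ b) :
    Function.Injective ![a, b] := by
  intro i j h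
  fin_cases i <;> fin_cases j <;> first | rfl | (exfalso; simp at h; first | exact absurd h (by assumption) | exact absurd h.symm (by assumption))

theorem inj3 {α : Type*} (a b c : α) (hab : a ≠ b) (hac : a ≠ c) (hbc : b ≠ c) :
    Function.Injective ![a, b, c] := by
  intro i j h
  fin_cases i <;> fin_cases j <;> first | rfl | (exfalso; simp at h; first | exact absurd h (by assumption) | exact absurd h.symm (by assumption))

theorem inj4 {α : Type*} (a b c d : α) (hab : a ≠ b) (hac : a ≠ c) (had : a ≠ d) (hbc : b ≠ c) (hbd : b ≠ d) (hcd : c ≠ d) :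
    Function.Injective ![a, b, c, d] := by
  intro i j h
  fin_cases i <;> fin_cases j <;> first | rfl | (exfalso; simp at h; first | exact absurd h (by assumption) | exact absurd h.symm (by assumption))

theorem inj5 {α : Type*} (a b c d e : α) (hab : a ≠ b) (hac : a ≠ c) (had : a ≠ d) (hae : a ≠ e) (hbc : b ≠ c) (hbd : b ≠ d) (hbe : b ≠ e) (hcd : c ≠ d) (hce : c ≠ e) (hde : d ≠ e) :
    Function.Injective ![a, b, c, d, e] := by
  intro i j h
  fin_cases i <;> fin_cases j <;> first | rfl | (exfalso; simp at h; first | exact absurd h (by assumption) | exact absurd h.symm (by assumption))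

theorem inj6 {α : Type*} (a b c d e f : α) (hab : a ≠ b) (hac : a ≠ c) (had : a ≠ d) (hae : a ≠ e) (haf : a ≠ f) (hbc : b ≠ c) (hbd : b ≠ d) (hbe : b ≠ e) (hbf : b ≠ f) (hcd : c ≠ d) (hce : c ≠ e) (hcf : c ≠ f) (hde : d ≠ e) (hdf : d ≠ f) (hef : e ≠ f) :
    Function.Injective ![a, b, c, d, e, f] := by
  intro i j h
  fin_cases i <;> fin_cases j <;> first | rfl | (exfalso; simp at h; first | exact absurd h (by assumption) | exact absurd h.symm (by assumption))

theorem inj7 {α : Type*} (a b c d e f g : α) (hab : a ≠ b) (hac : a ≠ c) (had : a ≠ d) (hae : a ≠ e) (haf : a ≠ f) (hag : a ≠ g) (hbc : b ≠ c) (hbd : b ≠ d) (hbe : b ≠ e) (hbf : b ≠ f) (hbg : b ≠ g) (hcd : c ≠ d) (hce : c ≠ e) (hcf : c ≠ f) (hcg : c ≠ g) (hde : d ≠ e) (hdf : d ≠ f) (hdg : d ≠ g) (hef : e ≠ f) (heg : e ≠ g) (hfg : f ≠ g) :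
    Function.Injective ![a, b, c, d, e, f, g] := by
  intro i j h
  fin_cases i <;> fin_cases j <;> first | rfl | (exfalso; simp at h; first | exact absurd h (by assumption) | exact absurd h.symm (by assumption))

theorem inj8 {α : Type*} (a b c d e f g h : α) (hab : a ≠ b) (hac : a ≠ c) (had : a ≠ d) (hae : a ≠ e) (haf : a ≠ f) (hag : a ≠ g) (hah : a ≠ h) (hbc : b ≠ c) (hbd : b ≠ d) (hbe : b ≠ e) (hbf : b ≠ f) (hbg : b ≠ g) (hbh : b ≠ h) (hcd : c ≠ d) (hce : c ≠ e) (hcf : c ≠ f) (hcg : c ≠ g) (hch : c ≠ h) (hde : d ≠ e) (hdf : d ≠ f) (hdg : d ≠ g) (hdh : d ≠ h) (hef : e ≠ f) (heg : e ≠ g) (heh : e ≠ h) (hfg : f ≠ g) (hfh : f ≠ h) (hgh : g ≠ h) :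
    Function.Injective ![a, b, c, d, e, f, g, h] := by
  intro i j h
  fin_cases i <;> fin_cases j <;> first | rfl | (exfalso; simp at h; first | exact absurd h (by assumption) | exact absurd h.symm (by assumption))

theorem inj9 {α : Type*} (a b c d e f g h i : α) (hab : a ≠ b) (hac : a ≠ c) (had : a ≠ d) (hae : a ≠ e) (haf : a ≠ f) (hag : a ≠ g) (hah : a ≠ h) (hai : a ≠ i) (hbc : b ≠ c) (hbd : b ≠ d) (hbe : b ≠ e) (hbf : b ≠ f) (hbg : b ≠ g) (hbh : b ≠ h) (hbi : b ≠ i) (hcd : c ≠ d) (hce : c ≠ e) (hcf : c ≠ f) (hcg : c ≠ g) (hch : c ≠ h) (hci : c ≠ i) (hde : d ≠ e) (hdf : d ≠ f) (hdg : d ≠ g) (hdh : d ≠ h) (hdi : d ≠ i) (hef : e ≠ f) (heg : e ≠ g) (heh : e ≠ h) (hei : e ≠ i) (hfg : f ≠ g) (hfh : f ≠ h) (hfi : f ≠ i) (hgh : g ≠ h) (hgi : g ≠ i) (hhi : h ≠ i) :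
    Function.Injective ![a, b, c, d, e, f, g, h, i] := by
  intro i j h
  fin_cases i <;> fin_cases j <;> first | rfl | (exfalso; simp at h; first | exact absurd h (by assumption) | exact absurd h.symm (by assumption))

end Groth.Agent.Lib.Helper39.NT
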