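import Groth.Agent.Lib.Helper39.NumType

set_option linter.unnecessarySeqFocus false
set_option linter.unusedTactic false
set_option linter.unreachableTactic false

namespace Groth.Agent.Lib.Helper39.NT

open Finset Models

variable {n : ℕ} (T : NumericalType n)

theorem one_mul_le {k : ℕ} (v : Fin k ↪ Fin n) (x y : Fin k) (hxy : x ≠ y)
    (h : T.a (v x) (v y) ≠ 0) : 1 * T.w (v x) ≤ T.a (v x) (v y) := by
  rw [one_mul]
  exact Int.le_of_dvd (pos_of_ne T (fun h' => hxy (v.injective h')) h) (T.w_dvd _ _)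

theorem one_mul_le' {k : ℕ} (v : Fin k ↪ Fin n) (x y : Fin k) (hxy : x ≠ y)
    (h : T.a (v y) (v x) ≠ 0) : 1 * T.w (v x) ≤ T.a (v x) (v y) :=
  one_mul_le T v x y hxy (by rw [symm' T]; exact h)

theorem eq_or_two_mul_le {k : ℕ} (v : Fin k ↪ Fin n) (x y : Fin k) (hxy : x ≠ y)
    (h : T.a (v x) (v y) ≠ 0) :
    T.a (v x) (v y) = T.w (v x) ∨ 2 * T.w (v x) ≤ T.a (v x) (v y) := by
  have hp := pos_of_ne T (fun h' => hxy (v.injective h')) h
  have hw := T.w_pos (v x)
  rcases dvd_cases hw hp (T.w_dvd _ _) with h1 | h1 | h1 | h1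
  · exact Or.inl h1
  · exact Or.inr (by linarith)
  · exact Or.inr (by linarith)
  · exact Or.inr (by linarith)

theorem cycle_path {k : ℕ} (v : Fin k ↪ Fin n) (hk : k < n) (hv : ∀ j, T.IsMinusTwo (v j))
    (L : ℕ) (hL : 2 ≤ L) (p : ℕ → Fin k) (hinj : ∀ i j, i ≤ L → j ≤ L → p i = p j → i = j)
    (hadj : ∀ i, i < L → T.a (v (p i)) (v (p (i + 1))) ≠ 0)
    (hclose : T.a (v (p L)) (v (p 0)) ≠ 0) : False := by
  classical
  let c : Fin k → ℤ := fun x => if ∃ i, i ≤ L ∧ p i = x then 1 else 0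
  have hcp : ∀ i, i ≤ L → c (p i) = 1 := fun i hi => if_pos ⟨i, hi, rfl⟩
  have hc : ∀ x, 0 ≤ c x := fun x => by
    by_cases hx : ∃ i, i ≤ L ∧ p i = x
    · have : c x = 1 := if_pos hx
      omega
    · have : c x = 0 := if_neg hx
      omega
  have hne : ∀ i j, i ≤ L → j ≤ L → i ≠ j → p i ≠ p j :=
    fun i j hi hj hij h => hij (hinj i j hi hj h)
  refine cert_nbr T v hk hv c hc (p 0) (by rw [hcp 0 (by omega)] <;> norm_num) ?_
  intro s hs
  have hs' : ∃ i, i ≤ L ∧ p i = s := by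
    by_contra hcon
    have : c s = 0 := if_neg hcon
    omega
  obtain ⟨i, hi, rfl⟩ := hs'
  right; left
  rcases (by omega : i = 0 ∨ (0 < i ∧ i < L) ∨ i = L) with h0 | ⟨h1, h2⟩ | h0
  · subst h0
    have n1 := hne 0 1 (by omega) (by omega) (by omega)
    have n2 := hne 0 L (by omega) (by omega) (by omega)
    have n3 := hne 1 L (by omega) (by omega) (by omega)
    refine ⟨p 1, p L, 1, 1, n1, n2, n3, one_mul_le T v _ _ n1 (hadj 0 (by omega)),
      one_mul_le' T v _ _ n2 hclose, ?_⟩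
    rw [hcp 0 (by omega), hcp 1 (by omega), hcp L (by omega)] <;> norm_num
  · have n1 := hne i (i - 1) (by omega) (by omega) (by omega)
    have n2 := hne i (i + 1) (by omega) (by omega) (by omega)
    have n3 := hne (i - 1) (i + 1) (by omega) (by omega) (by omega)
    have hadj' := hadj (i - 1) (by omega)
    rw [show i - 1 + 1 = i by omega] at hadj'
    refine ⟨p (i - 1), p (i + 1), 1, 1, n1, n2, n3, one_mul_le' T v _ _ n1 hadj',
      one_mul_le T v _ _ n2 (hadj i h2), ?_⟩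
    rw [hcp i (by omega), hcp (i - 1) (by omega), hcp (i + 1) (by omega)] <;> norm_num
  · subst h0
    have n1 := hne i (i - 1) (by omega) (by omega) (by omega)
    have n2 := hne i 0 (by omega) (by omega) (by omega)
    have n3 := hne (i - 1) 0 (by omega) (by omega) (by omega)
    have hadj' := hadj (i - 1) (by omega)
    rw [show i - 1 + 1 = i by omega] at hadj'
    refine ⟨p (i - 1), p 0, 1, 1, n1, n2, n3, one_mul_le' T v _ _ n1 hadj',
      one_mul_le T v _ _ n2 hclose, ?_⟩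
    rw [hcp i (by omega), hcp (i - 1) (by omega), hcp 0 (by omega)] <;> norm_num

theorem fork_path_far {k : ℕ} (v : Fin k ↪ Fin n) (hk : k < n) (hv : ∀ j, T.IsMinusTwo (v j))
    (L : ℕ) (hL : 1 ≤ L) (p : ℕ → Fin k) (hinj : ∀ i j, i ≤ L → j ≤ L → p i = p j → i = j)
    (hadj : ∀ i, i < L → T.a (v (p i)) (v (p (i + 1))) ≠ 0)
    (f1 f2 : Fin k) (hf : f1 ≠ f2) (hf1 : ∀ i, i ≤ L → p i ≠ f1) (hf2 : ∀ i, i ≤ L → p i ≠ f2)
    (ha1 : T.a (v (p 0)) (v f1) ≠ 0) (ha2 : T.a (v (p 0)) (v f2) ≠ 0)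
    (hb : 2 * T.w (v (p L)) ≤ T.a (v (p L)) (v (p (L - 1)))) : False := by
  classical
  let c : Fin k → ℤ := fun x =>
    if x = f1 ∨ x = f2 then 1 else if ∃ i, i ≤ L ∧ p i = x then 2 else 0
  have hcf1 : c f1 = 1 := if_pos (Or.inl rfl)
  have hcf2 : c f2 = 1 := if_pos (Or.inr rfl)
  have hcp : ∀ i, i ≤ L → c (p i) = 2 := fun i hi => by
    have h1 : ¬ (p i = f1 ∨ p i = f2) := by
      rintro (h | h)
      · exact hf1 i hi h
      · exact hf2 i hi h
    simp only [c]
    rw [if_neg h1, if_pos ⟨i, hi, rfl⟩]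
  have hc : ∀ x, 0 ≤ c x := fun x => by
    simp only [c]
    split_ifs <;> norm_num
  have hne : ∀ i j, i ≤ L → j ≤ L → i ≠ j → p i ≠ p j :=
    fun i j hi hj hij h => hij (hinj i j hi hj h)
  refine cert_nbr T v hk hv c hc f1 (by rw [hcf1] <;> norm_num) ?_
  intro s hs
  by_cases hs1 : s = f1
  · subst hs1
    left
    refine ⟨p 0, 1, (hf1 0 (by omega)).symm, one_mul_le' T v _ _ (hf1 0 (by omega)).symm ha1, ?_⟩
    rw [hcf1, hcp 0 (by omega)] <;> norm_num
  by_cases hs2 : s = f2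
  · subst hs2
    left
    refine ⟨p 0, 1, (hf2 0 (by omega)).symm, one_mul_le' T v _ _ (hf2 0 (by omega)).symm ha2, ?_⟩
    rw [hcf2, hcp 0 (by omega)] <;> norm_num
  have hs' : ∃ i, i ≤ L ∧ p i = s := by
    by_contra hcon
    have : c s = 0 := by
      simp only [c]
      rw [if_neg (by tauto), if_neg hcon]
    omega
  obtain ⟨i, hi, rfl⟩ := hs'
  rcases (by omega : i = 0 ∨ (0 < i ∧ i < L) ∨ i = L) with h0 | ⟨h1, h2⟩ | h0
  · subst h0
    right; right
    have n3 := hne 0 1 (by omega) (by omega) (by omega)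
    refine ⟨f1, f2, p 1, 1, 1, 1, hf1 0 (by omega), hf2 0 (by omega), n3, hf,
      (hf1 1 (by omega)).symm, (hf2 1 (by omega)).symm,
      one_mul_le T v _ _ (hf1 0 (by omega)) ha1, one_mul_le T v _ _ (hf2 0 (by omega)) ha2,
      one_mul_le T v _ _ n3 (hadj 0 (by omega)), ?_⟩
    rw [hcp 0 (by omega), hcf1, hcf2, hcp 1 (by omega)] <;> norm_num
  · right; left
    have n1 := hne i (i - 1) (by omega) (by omega) (by omega)
    have n2 := hne i (i + 1) (by omega) (by omega) (by omega)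
    have n3 := hne (i - 1) (i + 1) (by omega) (by omega) (by omega)
    have hadj' := hadj (i - 1) (by omega)
    rw [show i - 1 + 1 = i by omega] at hadj'
    refine ⟨p (i - 1), p (i + 1), 1, 1, n1, n2, n3, one_mul_le' T v _ _ n1 hadj',
      one_mul_le T v _ _ n2 (hadj i h2), ?_⟩
    rw [hcp i (by omega), hcp (i - 1) (by omega), hcp (i + 1) (by omega)] <;> norm_num
  · subst h0
    left
    have n1 := hne i (i - 1) (by omega) (by omega) (by omega)
    refine ⟨p (i - 1), 2, n1, hb, ?_⟩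
    rw [hcp i (by omega), hcp (i - 1) (by omega)] <;> norm_num

theorem fork_path_near {k : ℕ} (v : Fin k ↪ Fin n) (hk : k < n) (hv : ∀ j, T.IsMinusTwo (v j))
    (L : ℕ) (hL : 1 ≤ L) (p : ℕ → Fin k) (hinj : ∀ i j, i ≤ L → j ≤ L → p i = p j → i = j)
    (hadj : ∀ i, i < L → T.a (v (p i)) (v (p (i + 1))) ≠ 0)
    (f1 f2 : Fin k) (hf : f1 ≠ f2) (hf1 : ∀ i, i ≤ L → p i ≠ f1) (hf2 : ∀ i, i ≤ L → p i ≠ f2)
    (ha1 : T.a (v (p 0)) (v f1) ≠ 0) (ha2 : T.a (v (p 0)) (v f2) ≠ 0)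
    (hb : 2 * T.w (v (p (L - 1))) ≤ T.a (v (p (L - 1))) (v (p L))) : False := by
  classical
  let c : Fin k → ℤ := fun x =>
    if x = f1 ∨ x = f2 ∨ x = p L then 1 else if ∃ i, i < L ∧ p i = x then 2 else 0
  have hcf1 : c f1 = 1 := if_pos (Or.inl rfl)
  have hcf2 : c f2 = 1 := if_pos (Or.inr (Or.inl rfl))
  have hcL : c (p L) = 1 := if_pos (Or.inr (Or.inr rfl))
  have hne : ∀ i j, i ≤ L → j ≤ L → i ≠ j → p i ≠ p j :=
    fun i j hi hj hij h => hij (hinj i j hi hj h)
  have hcp : ∀ i, i < L → c (p i) = 2 := fun i hi => by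
    have h1 : ¬ (p i = f1 ∨ p i = f2 ∨ p i = p L) := by
      rintro (h | h | h)
      · exact hf1 i hi.le h
      · exact hf2 i hi.le h
      · exact hne i L hi.le le_rfl (by omega) h
    simp only [c]
    rw [if_neg h1, if_pos ⟨i, hi, rfl⟩]
  have hc : ∀ x, 0 ≤ c x := fun x => by
    simp only [c]
    split_ifs <;> norm_num
  refine cert_nbr T v hk hv c hc f1 (by rw [hcf1] <;> norm_num) ?_
  intro s hs
  by_cases hs1 : s = f1
  · subst hs1
    left
    refine ⟨p 0, 1, (hf1 0 (by omega)).symm, one_mul_le' T v _ _ (hf1 0 (by omega)).symm ha1, ?_⟩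
    rw [hcf1, hcp 0 (by omega)] <;> norm_num
  by_cases hs2 : s = f2
  · subst hs2
    left
    refine ⟨p 0, 1, (hf2 0 (by omega)).symm, one_mul_le' T v _ _ (hf2 0 (by omega)).symm ha2, ?_⟩
    rw [hcf2, hcp 0 (by omega)] <;> norm_num
  by_cases hs3 : s = p L
  · subst hs3
    left
    have n1 := hne L (L - 1) (by omega) (by omega) (by omega)
    have hadj' := hadj (L - 1) (by omega)
    rw [show L - 1 + 1 = L by omega] at hadj'
    refine ⟨p (L - 1), 1, n1, one_mul_le' T v _ _ n1 hadj', ?_⟩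
    rw [hcL, hcp (L - 1) (by omega)] <;> norm_num
  have hs' : ∃ i, i < L ∧ p i = s := by
    by_contra hcon
    have : c s = 0 := by
      simp only [c]
      rw [if_neg (by tauto), if_neg hcon]
    omega
  obtain ⟨i, hi, rfl⟩ := hs'
  rcases (by omega : (i = 0 ∧ L = 1) ∨ (i = 0 ∧ 1 < L) ∨ (0 < i ∧ i + 1 < L) ∨
      (0 < i ∧ i + 1 = L)) with ⟨h0, h1⟩ | ⟨h0, h1⟩ | ⟨h0, h1⟩ | ⟨h0, h1⟩
  · subst h0
    subst h1
    right; right
    have n3 := hne 0 1 (by omega) (by omega) (by omega)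
    refine ⟨f1, f2, p 1, 1, 1, 2, hf1 0 (by omega), hf2 0 (by omega), n3, hf,
      (hf1 1 (by omega)).symm, (hf2 1 (by omega)).symm,
      one_mul_le T v _ _ (hf1 0 (by omega)) ha1, one_mul_le T v _ _ (hf2 0 (by omega)) ha2,
      hb, ?_⟩
    rw [hcp 0 (by omega), hcf1, hcf2, hcL] <;> norm_num
  · subst h0
    right; right
    have n3 := hne 0 1 (by omega) (by omega) (by omega)
    refine ⟨f1, f2, p 1, 1, 1, 1, hf1 0 (by omega), hf2 0 (by omega), n3, hf,
      (hf1 1 (by omega)).symm, (hf2 1 (by omega)).symm,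
      one_mul_le T v _ _ (hf1 0 (by omega)) ha1, one_mul_le T v _ _ (hf2 0 (by omega)) ha2,
      one_mul_le T v _ _ n3 (hadj 0 (by omega)), ?_⟩
    rw [hcp 0 (by omega), hcf1, hcf2, hcp 1 (by omega)] <;> norm_num
  · right; left
    have n1 := hne i (i - 1) (by omega) (by omega) (by omega)
    have n2 := hne i (i + 1) (by omega) (by omega) (by omega)
    have n3 := hne (i - 1) (i + 1) (by omega) (by omega) (by omega)
    have hadj' := hadj (i - 1) (by omega)
    rw [show i - 1 + 1 = i by omega] at hadj'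
    refine ⟨p (i - 1), p (i + 1), 1, 1, n1, n2, n3, one_mul_le' T v _ _ n1 hadj',
      one_mul_le T v _ _ n2 (hadj i (by omega)), ?_⟩
    rw [hcp i (by omega), hcp (i - 1) (by omega), hcp (i + 1) (by omega)] <;> norm_num
  · right; left
    have hiL : i = L - 1 := by omega
    subst hiL
    have n1 := hne (L - 1) (L - 1 - 1) (by omega) (by omega) (by omega)
    have n2 := hne (L - 1) L (by omega) (by omega) (by omega)
    have n3 := hne (L - 1 - 1) L (by omega) (by omega) (by omega)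
    have hadj' := hadj (L - 1 - 1) (by omega)
    rw [show L - 1 - 1 + 1 = L - 1 by omega] at hadj'
    refine ⟨p (L - 1 - 1), p L, 1, 2, n1, n2, n3, one_mul_le' T v _ _ n1 hadj', hb, ?_⟩
    rw [hcp (L - 1) (by omega), hcp (L - 1 - 1) (by omega), hcL] <;> norm_num

theorem fork_path {k : ℕ} (v : Fin k ↪ Fin n) (hk : k < n) (hv : ∀ j, T.IsMinusTwo (v j))
    (L : ℕ) (hL : 1 ≤ L) (p : ℕ → Fin k) (hinj : ∀ i j, i ≤ L → j ≤ L → p i = p j → i = j)
    (hadj : ∀ i, i < L → T.a (v (p i)) (v (p (i + 1))) ≠ 0)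
    (f1 f2 : Fin k) (hf : f1 ≠ f2) (hf1 : ∀ i, i ≤ L → p i ≠ f1) (hf2 : ∀ i, i ≤ L → p i ≠ f2)
    (ha1 : T.a (v (p 0)) (v f1) ≠ 0) (ha2 : T.a (v (p 0)) (v f2) ≠ 0) :
    T.a (v (p L)) (v (p (L - 1))) = T.w (v (p L)) ∧
      T.a (v (p (L - 1))) (v (p L)) = T.w (v (p (L - 1))) := by
  have hne : p L ≠ p (L - 1) := fun h => by
    have := hinj L (L - 1) le_rfl (by omega) h
    omega
  have hadj' := hadj (L - 1) (by omega)
  rw [show L - 1 + 1 = L by omega] at hadj'
  constructor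
  · rcases eq_or_two_mul_le T v (p L) (p (L - 1)) hne (by rw [symm' T]; exact hadj') with h | h
    · exact h
    · exact (fork_path_far T v hk hv L hL p hinj hadj f1 f2 hf hf1 hf2 ha1 ha2 h).elim
  · rcases eq_or_two_mul_le T v (p (L - 1)) (p L) hne.symm hadj' with h | h
    · exact h
    · exact (fork_path_near T v hk hv L hL p hinj hadj f1 f2 hf hf1 hf2 ha1 ha2 h).elim

theorem boost_path {k : ℕ} (v : Fin k ↪ Fin n) (hk : k < n) (hv : ∀ j, T.IsMinusTwo (v j))
    (L : ℕ) (hL : 3 ≤ L) (p : ℕ → Fin k) (hinj : ∀ i j, i ≤ L → j ≤ L → p i = p j → i = j)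
    (hadj : ∀ i, i < L → T.a (v (p i)) (v (p (i + 1))) ≠ 0)
    (e0 eL : ℤ) (he0 : e0 = 1 ∨ e0 = 2) (heL : eL = 1 ∨ eL = 2)
    (h0a : e0 * T.w (v (p 0)) ≤ T.a (v (p 0)) (v (p 1)))
    (h0b : (3 - e0) * T.w (v (p 1)) ≤ T.a (v (p 1)) (v (p 0)))
    (hLa : eL * T.w (v (p L)) ≤ T.a (v (p L)) (v (p (L - 1))))
    (hLb : (3 - eL) * T.w (v (p (L - 1))) ≤ T.a (v (p (L - 1))) (v (p L))) : False := by
  classical
  let c : Fin k → ℤ := fun x =>
    if x = p 0 then e0 else if x = p L then eL else if ∃ i, i ≤ L ∧ p i = x then 2 else 0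
  have hne : ∀ i j, i ≤ L → j ≤ L → i ≠ j → p i ≠ p j :=
    fun i j hi hj hij h => hij (hinj i j hi hj h)
  have hc0 : c (p 0) = e0 := if_pos rfl
  have hcdef : ∀ x, c x = if x = p 0 then e0 else if x = p L then eL else
      if ∃ i, i ≤ L ∧ p i = x then 2 else 0 := fun x => rfl
  have hcL : c (p L) = eL := by
    rw [hcdef, if_neg (hne L 0 le_rfl (by omega) (by omega)), if_pos rfl]
  have hcp : ∀ i, 0 < i → i < L → c (p i) = 2 := fun i h1 h2 => by
    rw [hcdef, if_neg (hne i 0 h2.le (by omega) (by omega)),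
      if_neg (hne i L h2.le le_rfl (by omega)), if_pos ⟨i, h2.le, rfl⟩]
  have hc : ∀ x, 0 ≤ c x := fun x => by
    simp only [c]
    split_ifs <;> rcases he0 with h | h <;> rcases heL with h' | h' <;> omega
  refine cert_nbr T v hk hv c hc (p 0) (by rw [hc0]; rcases he0 with h | h <;> omega) ?_
  intro s hs
  have hs' : ∃ i, i ≤ L ∧ p i = s := by
    by_contra hcon
    have : c s = 0 := by
      rw [hcdef, if_neg (fun h => hcon ⟨0, by omega, h.symm⟩),
        if_neg (fun h => hcon ⟨L, le_rfl, h.symm⟩), if_neg hcon]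
    omega
  obtain ⟨i, hi, rfl⟩ := hs'
  rcases (by omega : i = 0 ∨ i = 1 ∨ (1 < i ∧ i + 1 < L) ∨ i + 1 = L ∨ i = L) with
      h0 | h0 | ⟨h1, h2⟩ | h0 | h0
  · subst h0
    left
    refine ⟨p 1, e0, hne 0 1 (by omega) (by omega) (by omega), h0a, ?_⟩
    rw [hc0, hcp 1 (by omega) (by omega)]
    linarith
  · subst h0
    right; left
    have n1 := hne 1 0 (by omega) (by omega) (by omega)
    have n2 := hne 1 2 (by omega) (by omega) (by omega)
    have n3 := hne 0 2 (by omega) (by omega) (by omega)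
    refine ⟨p 0, p 2, 3 - e0, 1, n1, n2, n3, h0b, one_mul_le T v _ _ n2 (hadj 1 (by omega)), ?_⟩
    rw [hcp 1 (by omega) (by omega), hc0, hcp 2 (by omega) (by omega)]
    rcases he0 with h | h <;> subst h <;> norm_num
  · right; left
    have n1 := hne i (i - 1) (by omega) (by omega) (by omega)
    have n2 := hne i (i + 1) (by omega) (by omega) (by omega)
    have n3 := hne (i - 1) (i + 1) (by omega) (by omega) (by omega)
    have hadj' := hadj (i - 1) (by omega)
    rw [show i - 1 + 1 = i by omega] at hadj'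
    refine ⟨p (i - 1), p (i + 1), 1, 1, n1, n2, n3, one_mul_le' T v _ _ n1 hadj',
      one_mul_le T v _ _ n2 (hadj i (by omega)), ?_⟩
    rw [hcp i (by omega) (by omega), hcp (i - 1) (by omega) (by omega),
      hcp (i + 1) (by omega) (by omega)] <;> norm_num
  · have hiL : i = L - 1 := by omega
    subst hiL
    right; left
    have n1 := hne (L - 1) L (by omega) (by omega) (by omega)
    have n2 := hne (L - 1) (L - 1 - 1) (by omega) (by omega) (by omega)
    have n3 := hne L (L - 1 - 1) (by omega) (by omega) (by omega)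
    have hadj' := hadj (L - 1 - 1) (by omega)
    rw [show L - 1 - 1 + 1 = L - 1 by omega] at hadj'
    refine ⟨p L, p (L - 1 - 1), 3 - eL, 1, n1, n2, n3, hLb, one_mul_le' T v _ _ n2 hadj', ?_⟩
    rw [hcp (L - 1) (by omega) (by omega), hcL, hcp (L - 1 - 1) (by omega) (by omega)]
    rcases heL with h | h <;> subst h <;> norm_num
  · subst h0
    left
    refine ⟨p (i - 1), eL, hne i (i - 1) (by omega) (by omega) (by omega), hLa, ?_⟩
    rw [hcL, hcp (i - 1) (by omega) (by omega)]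
    linarith

end Groth.Agent.Lib.Helper39.NT
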