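import Mathlib
import Groth.Prelude.Def_GrassD

universe u
open CategoryTheory AlgebraicGeometry

namespace Groth.Agent.Lib.Helper39.QuotBCComp

theorem quotBC_comp {X G G' T : Scheme.{u}} {π : G ⟶ X} {E : X.Modules} {Q : G.Modules} {π' : G' ⟶ X} {ρ : G' ⟶ G} (hρ : ρ ≫ π = π') {k : T ⟶ G'} {g : T ⟶ X} (hk : k ≫ π' = g) (hkρ : (k ≫ ρ) ≫ π = g) (q : (Scheme.Modules.pullback π).obj E ⟶ Q) : Grass.quotBC hk (Grass.quotBC hρ q) ≫ (Scheme.Modules.pullbackComp k ρ).hom.app Q = Grass.quotBC hkρ q := by
  subst hρ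
  subst hk
  have hassoc := congr_arg (fun t => t.app E)
    (Scheme.Modules.pseudofunctor_associativity (f := k) (g := ρ) (h := π))
  simp only [NatTrans.comp_app, Functor.whiskerRight_app, Functor.whiskerLeft_app,
    Functor.associator_hom_app, eqToHom_app, Category.id_comp] at hassoc
  have hnat := (Scheme.Modules.pullbackComp k ρ).hom.naturality q
  simp only [Functor.comp_map] at hnat
  simp only [Grass.quotBC, Scheme.Modules.pullbackCongr, eqToIso_refl, Iso.refl_inv,
    NatTrans.id_app, Category.id_comp, Functor.map_comp, Category.assoc, eqToIso.inv, eqToHom_app]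
  rw [hnat]
  have h2 : (Scheme.Modules.pullbackComp k (ρ ≫ π)).inv.app E ≫
      (Scheme.Modules.pullback k).map ((Scheme.Modules.pullbackComp ρ π).inv.app E) ≫
        (Scheme.Modules.pullbackComp k ρ).hom.app ((Scheme.Modules.pullback π).obj E) =
      eqToHom (by rw [Category.assoc]) ≫ (Scheme.Modules.pullbackComp (k ≫ ρ) π).inv.app E := by
    rw [← cancel_mono ((Scheme.Modules.pullbackComp (k ≫ ρ) π).hom.app E)]
    simp only [Category.assoc, Iso.inv_hom_id_app, Category.comp_id]
    exact hassoc
  calc _ = ((Scheme.Modules.pullbackComp k (ρ ≫ π)).inv.app E ≫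
      (Scheme.Modules.pullback k).map ((Scheme.Modules.pullbackComp ρ π).inv.app E) ≫
        (Scheme.Modules.pullbackComp k ρ).hom.app ((Scheme.Modules.pullback π).obj E)) ≫
          (Scheme.Modules.pullback (k ≫ ρ)).map q := by simp only [Category.assoc]
    _ = _ := by rw [h2]; simp only [Category.assoc]

end Groth.Agent.Lib.Helper39.QuotBCComp
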