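import Mathlib

set_option autoImplicit false
universe u

namespace Groth.Agent.Lib.Helper39.SpreadLIM

open MvPolynomial

/-- key evaluation lemma: if `t` is inverted by `τ` in `S`, any `C`-algebra map `S → W = C_q`
sends `c i / t` to `w i`. -/
theorem key1 {C : Type u} [CommRing C] (q : Ideal C) [q.IsPrime] (W : Type u) [CommRing W]
    [Algebra C W] [IsLocalization.AtPrime W q] {n : ℕ} (w : Fin n → W) (t : C) (htq : t ∉ q)
    (c : Fin n → C) (hc : ∀ i, algebraMap C W (c i) = t • w i)
    (S : Type u) [CommRing S] [Algebra C S] (τ : S) (hτ : algebraMap C S t * τ = 1)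
    (θ : S →ₐ[C] W) (i : Fin n) : θ (algebraMap C S (c i) * τ) = w i := by
  have hu : IsUnit (algebraMap C W t) := IsLocalization.map_units W (⟨t, htq⟩ : q.primeCompl)
  apply hu.mul_left_cancel
  have h1 : algebraMap C W t = θ (algebraMap C S t) := (θ.commutes t).symm
  calc algebraMap C W t * θ (algebraMap C S (c i) * τ)
      = θ (algebraMap C S (c i) * (algebraMap C S t * τ)) := by
        rw [h1, ← map_mul]; congr 1; ring
    _ = algebraMap C W (c i) := by rw [hτ, mul_one, θ.commutes]
    _ = algebraMap C W t * w i := by rw [hc i, Algebra.smul_def]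

/-- an element of `C_g` dying in `C_q` is killed by some `u ∉ q`. -/
theorem kill {C : Type u} [CommRing C] (q : Ideal C) [q.IsPrime] (W : Type u) [CommRing W]
    [Algebra C W] [IsLocalization.AtPrime W q] (g : C) (θ1 : Localization.Away g →ₐ[C] W)
    (x : Localization.Away g) (hx : θ1 x = 0) :
    ∃ u : C, u ∉ q ∧ algebraMap C (Localization.Away g) u * x = 0 := by
  obtain ⟨a, s, rfl⟩ := IsLocalization.exists_mk'_eq (Submonoid.powers g) x
  have h1 : IsLocalization.mk' (Localization.Away g) a s * algebraMap C (Localization.Away g) s =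
      algebraMap C (Localization.Away g) a := IsLocalization.mk'_spec _ a s
  have h2 := congrArg θ1 h1
  rw [map_mul, hx, zero_mul, θ1.commutes] at h2
  obtain ⟨u, hu⟩ := (IsLocalization.map_eq_zero_iff q.primeCompl W a).mp h2.symm
  refine ⟨u, u.2, ?_⟩
  rw [IsLocalization.mul_mk'_eq_mk'_of_mul, hu, IsLocalization.mk'_zero]

theorem exists_away_solution {C : Type u} [CommRing C] (q : Ideal C) [q.IsPrime] (W : Type u) [CommRing W] [Algebra C W] [IsLocalization.AtPrime W q] (h₀ : C) (hh₀ : h₀ ∉ q) {n m : ℕ} (F : Fin m → MvPolynomial (Fin n) C) (w : Fin n → W) (hw : ∀ j, MvPolynomial.aeval w (F j) = 0) : ∃ h : C, h ∉ q ∧ ∃ b : Fin n → Localization.Away (h₀ * h), (∀ j, MvPolynomial.aeval b (F j) = 0) ∧ ∀ θ : Localization.Away (h₀ * h) →ₐ[C] W, ∀ i, θ (b i) = w i := by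
  classical
  obtain ⟨t, ht⟩ := IsLocalization.exist_integer_multiples_of_finite q.primeCompl w
  choose c hc using ht
  have htq : (t : C) ∉ q := t.2
  have hg1q : h₀ * (t : C) ∉ q := fun h =>
    (Ideal.IsPrime.mem_or_mem inferInstance h).elim hh₀ htq
  have hunitW : ∀ x : C, x ∉ q → IsUnit (algebraMap C W x) := fun x hx =>
    IsLocalization.map_units W (⟨x, hx⟩ : q.primeCompl)
  let g1 : C := h₀ * (t : C)
  let θ1 : Localization.Away g1 →ₐ[C] W :=
    IsLocalization.Away.liftAlgHom (A := C) (f := Algebra.ofId C W) g1 (hunitW g1 hg1q)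
  let τ1 : Localization.Away g1 :=
    algebraMap C (Localization.Away g1) h₀ * IsLocalization.Away.invSelf g1
  have hτ1 : algebraMap C (Localization.Away g1) (t : C) * τ1 = 1 := by
    calc algebraMap C (Localization.Away g1) (t : C) * τ1
        = algebraMap C (Localization.Away g1) g1 * IsLocalization.Away.invSelf g1 := by
          simp only [τ1, g1, map_mul]; ring
      _ = 1 := IsLocalization.Away.mul_invSelf g1
  let b1 : Fin n → Localization.Away g1 := fun i => algebraMap C (Localization.Away g1) (c i) * τ1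
  have hθ1b : ∀ i, θ1 (b1 i) = w i := fun i =>
    key1 q W w (t : C) htq c hc (Localization.Away g1) τ1 hτ1 θ1 i
  have hθ1e : ∀ j, θ1 (aeval b1 (F j)) = 0 := by
    intro j
    rw [comp_aeval_apply]
    have : (fun i => θ1 (b1 i)) = w := funext hθ1b
    rw [this]
    exact hw j
  choose u huq hu using fun j => kill q W g1 θ1 (aeval b1 (F j)) (hθ1e j)
  let U : C := ∏ j, u j
  have hUq : U ∉ q := Submonoid.prod_mem q.primeCompl (fun j _ => huq j)
  have hUe : ∀ j, algebraMap C (Localization.Away g1) U * aeval b1 (F j) = 0 := by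
    intro j
    obtain ⟨r, hr⟩ := Finset.dvd_prod_of_mem u (Finset.mem_univ j)
    have : U = u j * r := hr
    rw [this, map_mul, mul_right_comm, hu j, zero_mul]
  have hhq : (t : C) * U ∉ q := fun h => (Ideal.IsPrime.mem_or_mem inferInstance h).elim htq hUq
  refine ⟨(t : C) * U, hhq, ?_⟩
  have hgu : IsUnit (algebraMap C (Localization.Away (h₀ * ((t : C) * U))) (g1 * U)) := by
    have : g1 * U = h₀ * ((t : C) * U) := by simp only [g1]; ring
    rw [this]
    exact IsLocalization.Away.algebraMap_isUnit _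
  rw [map_mul] at hgu
  have hg1u : IsUnit (algebraMap C (Localization.Away (h₀ * ((t : C) * U))) g1) :=
    isUnit_of_mul_isUnit_left hgu
  have hUu : IsUnit (algebraMap C (Localization.Away (h₀ * ((t : C) * U))) U) :=
    isUnit_of_mul_isUnit_right hgu
  let ψ : Localization.Away g1 →ₐ[C] Localization.Away (h₀ * ((t : C) * U)) :=
    IsLocalization.Away.liftAlgHom (A := C)
      (f := Algebra.ofId C (Localization.Away (h₀ * ((t : C) * U)))) g1 hg1u
  refine ⟨fun i => ψ (b1 i), ?_, ?_⟩
  · intro j
    have hcomp := comp_aeval_apply (f := b1) ψ (F j)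
    rw [← hcomp]
    apply hUu.mul_left_cancel
    rw [mul_zero, ← ψ.commutes, ← map_mul, hUe j, map_zero]
  · intro θ i
    have hb : ψ (b1 i) = algebraMap C _ (c i) * ψ τ1 := by
      simp only [b1, map_mul, ψ.commutes]
    show θ (ψ (b1 i)) = w i
    rw [hb]
    refine key1 q W w (t : C) htq c hc _ (ψ τ1) ?_ θ i
    rw [← ψ.commutes, ← map_mul, hτ1, map_one]

end Groth.Agent.Lib.Helper39.SpreadLIM
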