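import Mathlib
import Groth.Prelude.Def_CohB1
import Groth.Prelude.Def_Flat
import Groth.Agent.Lib.Helper5.WidePB
import Groth.Agent.Lib.Helper73.DimFormula.FieldExtScheme
import Groth.Agent.Lib.Helper73.DimFormula.FiberDimAdd
import Groth.Agent.Lib.Helper73.DimFormula.Chevalley

set_option autoImplicit false
universe u
open CategoryTheory CategoryTheory.Limits AlgebraicGeometry

namespace Groth.Agent.Lib.Helper39.WidePBWP2

open Groth.Agent.Lib.Helper5.WidePB Groth.Agent.Lib.Helper73

/-- fibre dimension of an isomorphism is `≤ 0` -/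
theorem fibreDimAt_le_zero_of_isIso {X Y : Scheme.{u}} (f : X ⟶ Y) [IsIso f] (x : X) :
    FlatMor.fibreDimAt f x ≤ 0 :=
  (quasiFiniteAt_iff_fibreDimAt_le_zero f x).mp (Scheme.Hom.quasiFiniteAt f x)

/-- Mathlib's wide pullback is a wide pullback in helper5's sense -/
theorem isWidePB_widePullback {ι : Type} {B : Scheme.{u}} (objs : ι → Scheme.{u})
    (arrows : ∀ k, objs k ⟶ B) [HasWidePullback B objs arrows] :
    IsWidePB arrows (WidePullback.base arrows) (WidePullback.π arrows) where
  w k := WidePullback.π_arrow arrows k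
  lift z zk hz := ⟨WidePullback.lift z zk hz, WidePullback.lift_base _ _ _ _,
    fun k => WidePullback.lift_π _ _ _ _ k⟩
  hom_ext _ _ h1 h2 := WidePullback.hom_ext _ _ _ h2 h1

/-- two wide pullbacks of the same family are isomorphic over the base -/
theorem IsWidePB.iso {ι : Type} {B : Scheme.{u}} {objs : ι → Scheme.{u}}
    {arrows : ∀ k, objs k ⟶ B} {W W₂ : Scheme.{u}} {b : W ⟶ B} {π : ∀ k, W ⟶ objs k}
    {b₂ : W₂ ⟶ B} {π₂ : ∀ k, W₂ ⟶ objs k} (h : IsWidePB arrows b π) (h₂ : IsWidePB arrows b₂ π₂) :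
    ∃ e : W ≅ W₂, e.hom ≫ b₂ = b := by
  obtain ⟨l, hl1, hl2⟩ := h₂.lift b π h.w
  obtain ⟨l', hl'1, hl'2⟩ := h.lift b₂ π₂ h₂.w
  refine ⟨⟨l, l', ?_, ?_⟩, hl1⟩
  · apply h.hom_ext
    · rw [Category.assoc, hl'1, hl1, Category.id_comp]
    · intro k
      rw [Category.assoc, hl'2, hl2, Category.id_comp]
  · apply h₂.hom_ext
    · rw [Category.assoc, hl1, hl'1, Category.id_comp]
    · intro k
      rw [Category.assoc, hl2, hl'2, Category.id_comp]

theorem main (n : ℕ) : ∀ {B : Scheme.{u}} (objs : Fin n → Scheme.{u}) (arrows : ∀ k, objs k ⟶ B)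
    [∀ k, LocallyOfFiniteType (arrows k)] (d : ℕ)
    (_ : ∀ k (p : objs k), FlatMor.fibreDimAt (arrows k) p ≤ ((d : ℕ) : WithBot ℕ∞))
    {W : Scheme.{u}} (b : W ⟶ B) (π : ∀ k, W ⟶ objs k) (_ : IsWidePB arrows b π),
    LocallyOfFiniteType b ∧ ∀ p : W, FlatMor.fibreDimAt b p ≤ ((n * d : ℕ) : WithBot ℕ∞) := by
  induction n with
  | zero =>
    intro B objs arrows _ d h W b π hW
    have hiso : IsIso b := by
      obtain ⟨l, hl1, -⟩ := hW.lift (𝟙 B) (fun k => k.elim0) (fun k => k.elim0)
      refine ⟨l, ?_, hl1⟩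
      apply hW.hom_ext
      · rw [Category.assoc, hl1, Category.comp_id, Category.id_comp]
      · intro k; exact k.elim0
    refine ⟨inferInstance, fun p => ?_⟩
    simpa using fibreDimAt_le_zero_of_isIso b p
  | succ n ih =>
    intro B objs arrows _ d h W b π hW
    let arrows' : ∀ k : Fin n, objs k.castSucc ⟶ B := fun k => arrows k.castSucc
    have hW' := isWidePB_widePullback (fun k : Fin n => objs k.castSucc) arrows'
    obtain ⟨hlft', hdim'⟩ := ih (fun k : Fin n => objs k.castSucc) arrows' d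
      (fun k p => h k.castSucc p) (WidePullback.base arrows') (WidePullback.π arrows') hW'
    have sq : IsPullback (pullback.fst (arrows (Fin.last n)) (WidePullback.base arrows'))
        (pullback.snd (arrows (Fin.last n)) (WidePullback.base arrows'))
        (arrows (Fin.last n)) (WidePullback.base arrows') := IsPullback.of_hasPullback _ _
    have hP := isWidePB_succ arrows (WidePullback.base arrows') (WidePullback.π arrows') hW'
      (pullback.snd (arrows (Fin.last n)) (WidePullback.base arrows'))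
      (pullback.fst (arrows (Fin.last n)) (WidePullback.base arrows')) sq
    obtain ⟨e, he⟩ := IsWidePB.iso hW hP
    have hlftc : LocallyOfFiniteType
        (pullback.snd (arrows (Fin.last n)) (WidePullback.base arrows') ≫
          WidePullback.base arrows') := inferInstance
    have hlftb : LocallyOfFiniteType b := by rw [← he]; infer_instance
    refine ⟨hlftb, fun p => ?_⟩
    have sqiso : IsPullback e.hom b
        (pullback.snd (arrows (Fin.last n)) (WidePullback.base arrows') ≫
          WidePullback.base arrows') (𝟙 B) :=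
      IsPullback.of_horiz_isIso ⟨by rw [he, Category.comp_id]⟩
    rw [fibreDimAt_eq_of_isPullback _ (𝟙 B) e.hom b sqiso p]
    refine (fibreDimAt_comp_le_add _ _ _).trans ?_
    have h1 : FlatMor.fibreDimAt (pullback.snd (arrows (Fin.last n)) (WidePullback.base arrows'))
        (e.hom p) ≤ ((d : ℕ) : WithBot ℕ∞) := by
      rw [fibreDimAt_eq_of_isPullback (arrows (Fin.last n)) (WidePullback.base arrows')
        (pullback.fst _ _) (pullback.snd _ _) sq (e.hom p)]
      exact h _ _
    have h2 := hdim' ((pullback.snd (arrows (Fin.last n)) (WidePullback.base arrows')) (e.hom p))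
    have h3 : (((n + 1) * d : ℕ) : WithBot ℕ∞) = ((d : ℕ) : WithBot ℕ∞) + ((n * d : ℕ) : WithBot ℕ∞) := by
      rw [← WithBot.coe_natCast, ← WithBot.coe_natCast, ← WithBot.coe_natCast, ← WithBot.coe_add]
      congr 1
      push_cast
      ring
    rw [h3]
    exact add_le_add h1 h2

theorem fibreDimAt_wideBase_le {n : ℕ} {B : Scheme.{u}} (objs : Fin n → Scheme.{u}) (arrows : ∀ k, objs k ⟶ B) [∀ k, LocallyOfFiniteType (arrows k)] (d : ℕ) (h : ∀ k (p : objs k), FlatMor.fibreDimAt (arrows k) p ≤ ((d : ℕ) : WithBot ℕ∞)) (p : ↥(widePullback B objs arrows)) : FlatMor.fibreDimAt (WidePullback.base arrows) p ≤ ((n * d : ℕ) : WithBot ℕ∞) :=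
  (main n objs arrows d h (WidePullback.base arrows) (WidePullback.π arrows)
    (isWidePB_widePullback objs arrows)).2 p

end Groth.Agent.Lib.Helper39.WidePBWP2
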